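import Groth.Prelude.Def_AzInv
import Mathlib.Algebra.Azumaya.Basic
import Mathlib.Algebra.Azumaya.Matrix
import Mathlib.LinearAlgebra.Dual.Lemmas
import Mathlib.RingTheory.TensorProduct.Maps
import Mathlib.LinearAlgebra.FreeModule.Finite.Matrix
import Mathlib.RingTheory.Finiteness.Projective

/-!
# Basic facts on Azumaya algebras of constant rank

`Az R A n`: `A` is finite projective over `R` of constant rank `n ^ 2` and the map
`A ⊗ Aᵐᵒᵖ → End_R(A)` is surjective. This is implied by `AzInv.IsAzumayaDeg R A n` and it is
clearly stable under base change.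
-/

set_option autoImplicit false

universe u v w

noncomputable section

namespace K925.AzBasic

open scoped TensorProduct

/-- A finite projective algebra of constant rank `n ^ 2` with `A ⊗ Aᵐᵒᵖ → End_R(A)` surjective. -/
structure Az (R : Type*) (A : Type*) [CommRing R] [Ring A] [Algebra R A] (n : ℕ) : Prop where
  finite : Module.Finite R A
  proj : Module.Projective R A
  surj : Function.Surjective (AlgHom.mulLeftRight R A)
  rank : ∀ p : PrimeSpectrum R, Module.rankAtStalk (R := R) A p = n ^ 2

theorem Az.of_isAzumayaDeg {R : Type v} {A : Type w} [CommRing R] [Ring A] [Algebra R A] {n : ℕ}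
    (h : AzInv.IsAzumayaDeg R A n) : Az R A n :=
  have := h.1
  { finite := inferInstance
    proj := inferInstance
    surj := h.1.bij.2
    rank := h.2 }

section dualbasis

variable (R : Type*) (A : Type*) [CommRing R] [AddCommGroup A] [Module R A] [Module.Finite R A]
  [Module.Projective R A]

/-- dual bases of finite projective modules -/
theorem exists_dualBasis : ∃ (m : ℕ) (a : Fin m → A) (f : Fin m → Module.Dual R A),
    ∀ x : A, ∑ i, f i x • a i = x := by
  obtain ⟨m, g, s, hg, hs, hgs⟩ := Module.Finite.exists_comp_eq_id_of_projective R A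
  refine ⟨m, fun i => g (Pi.single i 1), fun i => LinearMap.proj i ∘ₗ s, fun x => ?_⟩
  have h1 := LinearMap.congr_fun hgs x
  rw [LinearMap.comp_apply, LinearMap.id_apply] at h1
  conv_rhs => rw [← h1]
  conv_rhs => rw [pi_eq_sum_univ' (s x)]
  rw [map_sum]
  refine Finset.sum_congr rfl fun i _ => ?_
  rw [LinearMap.comp_apply, LinearMap.proj_apply, ← map_smul]

end dualbasis

section baseChange

variable {R : Type*} [CommRing R] {k : Type*} [CommRing k] [Algebra R k]
  {A : Type*} [Ring A] [Algebra R A]

theorem exists_mulLeftRight_baseChange (t : A ⊗[R] Aᵐᵒᵖ) :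
    ∃ t' : (k ⊗[R] A) ⊗[k] (k ⊗[R] A)ᵐᵒᵖ,
      AlgHom.mulLeftRight k (k ⊗[R] A) t' = (AlgHom.mulLeftRight R A t).baseChange k := by
  induction t using TensorProduct.induction_on with
  | zero => exact ⟨0, by simp⟩
  | tmul x y =>
    refine ⟨((1 : k) ⊗ₜ[R] x) ⊗ₜ[k] MulOpposite.op ((1 : k) ⊗ₜ[R] y.unop), ?_⟩
    apply LinearMap.ext
    intro z
    induction z using TensorProduct.induction_on with
    | zero => simp
    | tmul c a => simp [AlgHom.mulLeftRight_apply]
    | add z z' hz hz' => rw [map_add, map_add, hz, hz']
  | add x y hx hy =>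
    obtain ⟨x', hx'⟩ := hx
    obtain ⟨y', hy'⟩ := hy
    exact ⟨x' + y', by rw [map_add, map_add, hx', hy', LinearMap.baseChange_add]⟩

theorem surjective_mulLeftRight_baseChange [Module.Finite R A] [Module.Projective R A]
    (h : Function.Surjective (AlgHom.mulLeftRight R A)) :
    Function.Surjective (AlgHom.mulLeftRight k (k ⊗[R] A)) := by
  obtain ⟨m, a, f, haf⟩ := exists_dualBasis R A
  have key : ∀ (i : Fin m) (y : k ⊗[R] A),
      ((Algebra.TensorProduct.rid R k k).toLinearMap ∘ₗ (f i).baseChange k).smulRight y ∈
        LinearMap.range (AlgHom.mulLeftRight k (k ⊗[R] A)).toLinearMap := by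
    intro i y
    induction y using TensorProduct.induction_on with
    | zero => rw [LinearMap.smulRight_zero]; exact Submodule.zero_mem _
    | tmul c b =>
      obtain ⟨t, ht⟩ := h ((f i).smulRight b)
      obtain ⟨t', ht'⟩ := exists_mulLeftRight_baseChange (k := k) t
      have h2 : ((Algebra.TensorProduct.rid R k k).toLinearMap ∘ₗ (f i).baseChange k).smulRight
          (c ⊗ₜ[R] b) = c • AlgHom.mulLeftRight k (k ⊗[R] A) t' := by
        rw [ht', ht]
        apply LinearMap.ext
        intro z
        induction z using TensorProduct.induction_on with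
        | zero => simp
        | tmul d z =>
          simp only [LinearMap.smulRight_apply, LinearMap.comp_apply, LinearMap.baseChange_tmul,
            LinearMap.smul_apply]
          rw [TensorProduct.smul_tmul', TensorProduct.tmul_smul]
          simp [TensorProduct.smul_tmul', mul_comm]
        | add z z' hz hz' => rw [map_add, map_add, hz, hz']
      rw [h2]
      exact Submodule.smul_mem _ _ ⟨t', rfl⟩
    | add y y' hy hy' =>
      have : ((Algebra.TensorProduct.rid R k k).toLinearMap ∘ₗ (f i).baseChange k).smulRight
          (y + y') = ((Algebra.TensorProduct.rid R k k).toLinearMap ∘ₗ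
            (f i).baseChange k).smulRight y + ((Algebra.TensorProduct.rid R k k).toLinearMap ∘ₗ
            (f i).baseChange k).smulRight y' := by
        apply LinearMap.ext
        intro z
        simp [smul_add]
      rw [this]
      exact Submodule.add_mem _ hy hy'
  intro g
  have h3 : g = ∑ i, ((Algebra.TensorProduct.rid R k k).toLinearMap ∘ₗ
      (f i).baseChange k).smulRight (g (1 ⊗ₜ[R] a i)) := by
    apply LinearMap.ext
    intro z
    rw [LinearMap.sum_apply]
    induction z using TensorProduct.induction_on with
    | zero => simp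
    | tmul d z =>
      simp only [LinearMap.smulRight_apply, LinearMap.comp_apply, LinearMap.baseChange_tmul,
        AlgEquiv.toLinearMap_apply, Algebra.TensorProduct.rid_tmul]
      have : d ⊗ₜ[R] z = ∑ i, (f i z • d) • ((1 : k) ⊗ₜ[R] a i) := by
        conv_lhs => rw [← haf z, TensorProduct.tmul_sum]
        refine Finset.sum_congr rfl fun i _ => ?_
        rw [TensorProduct.smul_tmul', smul_eq_mul, mul_one, TensorProduct.smul_tmul]
      rw [this, map_sum]
      exact Finset.sum_congr rfl fun i _ => by rw [map_smul]
    | add z z' hz hz' =>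
      rw [map_add, hz, hz', ← Finset.sum_add_distrib]
      exact Finset.sum_congr rfl fun i _ => by rw [map_add]
  have h4 : g ∈ LinearMap.range (AlgHom.mulLeftRight k (k ⊗[R] A)).toLinearMap := by
    rw [h3]
    exact Submodule.sum_mem _ fun i _ => key i _
  exact h4

theorem Az.baseChange (k : Type*) [CommRing k] [Algebra R k] {n : ℕ} (h : Az R A n) :
    Az k (k ⊗[R] A) n :=
  have := h.finite
  have := h.proj
  { finite := inferInstance
    proj := inferInstance
    surj := surjective_mulLeftRight_baseChange h.surj
    rank := fun p => by rw [Module.rankAtStalk_baseChange, h.rank] }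

theorem Az.of_algEquiv {B : Type*} [Ring B] [Algebra R B] {n : ℕ} (h : Az R A n)
    (e : A ≃ₐ[R] B) : Az R B n :=
  have := h.finite
  have := h.proj
  { finite := Module.Finite.equiv e.toLinearEquiv
    proj := Module.Projective.of_equiv e.toLinearEquiv
    surj := by
      have h1 := IsAzumaya.mulLeftRight_comp_congr R A B e
      have h2 : Function.Surjective ((AlgHom.mulLeftRight R B).comp
          (Algebra.TensorProduct.congr e e.op).toAlgHom) := by
        rw [h1]
        exact (e.toLinearEquiv.conjAlgEquiv R).surjective.comp h.surj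
      exact Function.Surjective.of_comp h2
    rank := fun p => by
      rw [← h.rank p]
      exact congrFun (Module.rankAtStalk_eq_of_equiv e.symm.toLinearEquiv) p }

end baseChange

section hom

variable {R : Type*} [CommRing R] {A : Type*} [Ring A] [Algebra R A]
  {B : Type*} [Ring B] [Algebra R B]

theorem map_mulLeftRight_eq_zero (φ : A →ₐ[R] B) {x : A} (hx : φ x = 0) (z : A ⊗[R] Aᵐᵒᵖ) :
    φ (AlgHom.mulLeftRight R A z x) = 0 := by
  induction z using TensorProduct.induction_on with
  | zero => simp
  | tmul a b => rw [AlgHom.mulLeftRight_apply, map_mul, map_mul, hx, mul_zero, zero_mul]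
  | add z z' hz hz' => rw [map_add, LinearMap.add_apply, map_add, hz, hz', add_zero]

/-- Algebra homomorphisms from an Azumaya algebra to a faithful algebra are injective. -/
theorem injective_of_surj [Module.Projective R A]
    (h : Function.Surjective (AlgHom.mulLeftRight R A)) (φ : A →ₐ[R] B)
    (hB : Function.Injective (algebraMap R B)) : Function.Injective φ := by
  rw [injective_iff_map_eq_zero]
  intro x hx
  rw [← Module.forall_dual_apply_eq_zero_iff R x]
  intro f
  obtain ⟨z, hz⟩ := h (f.smulRight (1 : A))
  have h1 := map_mulLeftRight_eq_zero φ hx z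
  rw [hz, LinearMap.smulRight_apply, map_smul, map_one, ← Algebra.algebraMap_eq_smul_one] at h1
  exact hB (by rw [h1, map_zero])

end hom

end K925.AzBasic
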