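import Groth.Agent.AzInv.K925.AzBasic
import Mathlib.RingTheory.Flat.LocallyFree
import Mathlib.RingTheory.SimpleRing.Basic
import Mathlib.LinearAlgebra.FiniteDimensional.Lemmas
import Mathlib.LinearAlgebra.TensorProduct.RightExactness

/-!
# Azumaya algebras: fibres are central simple; homomorphisms between Azumaya algebras of equal
rank are bijective
-/

set_option autoImplicit false

universe u v w

noncomputable section

namespace K925.AzLocal

open scoped TensorProduct
open K925.AzBasic

section field

variable {K : Type*} [Field K] {C : Type*} [Ring C] [Algebra K C]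

theorem isSimpleRing_of_surj [Nontrivial C] (h : Function.Surjective (AlgHom.mulLeftRight K C)) :
    IsSimpleRing C := by
  refine ⟨⟨?_⟩⟩
  intro I
  by_cases hI : I = ⊥
  · left; exact hI
  · right
    obtain ⟨x, hx, hx0⟩ : ∃ x ∈ I, x ≠ 0 := by
      by_contra hcon
      push Not at hcon
      apply hI
      rw [eq_bot_iff]
      intro x hx
      simpa using hcon x hx
    have hstab : ∀ (f : Module.End K C), f x ∈ I := by
      intro f
      obtain ⟨t, rfl⟩ := h f
      induction t using TensorProduct.induction_on with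
      | zero => simp [I.zero_mem]
      | tmul y z =>
        rw [AlgHom.mulLeftRight_apply]
        exact I.mul_mem_right _ _ (I.mul_mem_left _ _ hx)
      | add y z hy hz =>
        rw [map_add, LinearMap.add_apply]
        exact I.add_mem hy hz
    rw [eq_top_iff]
    intro y _
    obtain ⟨f, hf⟩ := Module.Projective.exists_dual_eq_one K hx0
    have h2 := hstab (f.smulRight y)
    rw [LinearMap.smulRight_apply, hf, one_smul] at h2
    exact h2

end field

section center

variable {K : Type*} [CommRing K] {C : Type*} [Ring C] [Algebra K C]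

theorem mul_mulLeftRight_of_commute {z : C} (hz : ∀ x, z * x = x * z) (t : C ⊗[K] Cᵐᵒᵖ) (y : C) :
    z * AlgHom.mulLeftRight K C t y = AlgHom.mulLeftRight K C t (z * y) := by
  induction t using TensorProduct.induction_on with
  | zero => simp
  | tmul a b =>
    rw [AlgHom.mulLeftRight_apply, AlgHom.mulLeftRight_apply, ← mul_assoc, ← mul_assoc, hz a,
      mul_assoc a z y]
  | add t t' ht ht' => rw [map_add, LinearMap.add_apply, LinearMap.add_apply, mul_add, ht, ht']

/-- central elements are scalars, as soon as there is a linear form with value one at one. -/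
theorem exists_algebraMap_eq_of_commute (h : Function.Surjective (AlgHom.mulLeftRight K C))
    (f : Module.Dual K C) (hf : f 1 = 1) {z : C} (hz : ∀ x, z * x = x * z) :
    ∃ r : K, algebraMap K C r = z := by
  obtain ⟨t, ht⟩ := h (f.smulRight (1 : C))
  have h1 := mul_mulLeftRight_of_commute (K := K) hz t 1
  rw [ht, LinearMap.smulRight_apply, LinearMap.smulRight_apply, hf, one_smul, mul_one,
    ← Algebra.algebraMap_eq_smul_one] at h1
  exact ⟨f z, h1.symm⟩

theorem isCentral_of_surj {K : Type*} [Field K] {C : Type*} [Ring C] [Algebra K C] [Nontrivial C]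
    (h : Function.Surjective (AlgHom.mulLeftRight K C)) : Algebra.IsCentral K C := by
  obtain ⟨f, hf⟩ := Module.Projective.exists_dual_eq_one K (one_ne_zero : (1 : C) ≠ 0)
  refine ⟨fun z hz => ?_⟩
  rw [Subalgebra.mem_center_iff] at hz
  obtain ⟨r, hr⟩ := exists_algebraMap_eq_of_commute h f hf (fun x => (hz x).symm)
  exact ⟨r, hr⟩

end center

theorem finrank_of_field {K : Type*} [Field K] {C : Type*} [Ring C] [Algebra K C] {n : ℕ}
    (h : Az K C n) : Module.finrank K C = n ^ 2 := by
  have := h.finite
  have h1 := h.rank ⟨⊥, Ideal.isPrime_bot⟩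
  rw [Module.rankAtStalk_eq_finrank_of_free] at h1
  exact h1

theorem nontrivial_of_field {K : Type*} [Field K] {C : Type*} [Ring C] [Algebra K C] {n : ℕ}
    (hn : 0 < n) (h : Az K C n) : Nontrivial C := by
  have h1 := finrank_of_field h
  apply Module.nontrivial_of_finrank_pos (R := K)
  rw [h1]
  positivity

section general

variable {T : Type*} [CommRing T] {B : Type*} [Ring B] [Algebra T B] {B' : Type*} [Ring B']
  [Algebra T B'] {n : ℕ}

theorem bijective_of_field {K : Type*} [Field K] {B : Type*} [Ring B] [Algebra K B] {B' : Type*}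
    [Ring B'] [Algebra K B'] (hn : 0 < n) (hB : Az K B n) (hB' : Az K B' n) (φ : B →ₐ[K] B') :
    Function.Bijective φ := by
  have := hB.finite
  have := hB'.finite
  have := nontrivial_of_field hn hB
  have := nontrivial_of_field hn hB'
  have := isSimpleRing_of_surj hB.surj
  have hinj : Function.Injective φ := φ.toRingHom.injective
  refine ⟨hinj, ?_⟩
  have h1 := LinearMap.injective_iff_surjective_of_finrank_eq_finrank (f := φ.toLinearMap)
    (by rw [finrank_of_field hB, finrank_of_field hB'])
  exact h1.mp hinj

/-- surjectivity can be checked modulo maximal ideals -/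
theorem surjective_of_quotient {M N : Type*} [AddCommGroup M] [Module T M] [AddCommGroup N]
    [Module T N] [Module.Finite T N] (f : M →ₗ[T] N)
    (h : ∀ m : Ideal T, m.IsMaximal → Function.Surjective (f.baseChange (T ⧸ m))) :
    Function.Surjective f := by
  rw [← LinearMap.range_eq_top]
  by_contra hne
  -- the quotient is a nonzero finite module
  have hann : Module.annihilator T (N ⧸ LinearMap.range f) ≠ ⊤ := by
    rw [Ne, Module.annihilator_eq_top_iff]
    intro hs
    exact hne (Submodule.Quotient.subsingleton_iff.mp hs)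
  obtain ⟨m, hm, hle⟩ := Ideal.exists_le_maximal _ hann
  have hsup : (⊤ : Submodule T (N ⧸ LinearMap.range f)) ≤ m • ⊤ := by
    intro x _
    obtain ⟨y, rfl⟩ := Submodule.Quotient.mk_surjective _ x
    obtain ⟨z, hz⟩ := h m hm ((1 : T ⧸ m) ⊗ₜ[T] y)
    obtain ⟨z', rfl⟩ : ∃ z' : M, (1 : T ⧸ m) ⊗ₜ[T] z' = z :=
      TensorProduct.mk_surjective T M (T ⧸ m) Ideal.Quotient.mk_surjective z
    rw [LinearMap.baseChange_tmul] at hz
    have h2 : y - f z' ∈ (m • ⊤ : Submodule T N) := by
      rw [← LinearMap.ker_tensorProductMk, LinearMap.mem_ker, map_sub]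
      exact sub_eq_zero.mpr hz.symm
    have h3 := Submodule.mem_map_of_mem (f := (LinearMap.range f).mkQ) h2
    rw [Submodule.map_smul'', map_sub] at h3
    have h4 : (LinearMap.range f).mkQ (f z') = 0 := by
      rw [Submodule.mkQ_apply, Submodule.Quotient.mk_eq_zero]
      exact ⟨z', rfl⟩
    rw [h4, sub_zero] at h3
    exact Submodule.smul_mono le_rfl le_top h3
  obtain ⟨r, hr, hr0⟩ := Submodule.exists_sub_one_mem_and_smul_eq_zero_of_fg_of_le_smul m ⊤
    Module.Finite.fg_top hsup
  have h5 : r ∈ m := hle (Module.mem_annihilator.mpr fun x => hr0 x Submodule.mem_top)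
  apply hm.ne_top
  rw [Ideal.eq_top_iff_one]
  have := m.sub_mem h5 hr
  rwa [sub_sub_cancel] at this

/-- Homomorphisms between Azumaya algebras of the same rank are bijective. -/
theorem Az.bijective (hn : 0 < n) (hB : Az T B n) (hB' : Az T B' n) (φ : B →ₐ[T] B') :
    Function.Bijective φ := by
  have := hB.finite
  have := hB'.finite
  have := hB.proj
  have := hB'.proj
  have hs : Function.Surjective φ.toLinearMap := by
    refine surjective_of_quotient φ.toLinearMap fun m hm => ?_
    let _ : Field (T ⧸ m) := Ideal.Quotient.field m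
    have h1 := bijective_of_field hn (hB.baseChange (T ⧸ m)) (hB'.baseChange (T ⧸ m))
      (Algebra.TensorProduct.map (AlgHom.id (T ⧸ m) (T ⧸ m)) φ)
    exact h1.2
  exact Module.bijective_of_surjective_of_rankAtStalk_eq hs fun m _ => by
    rw [hB.rank, hB'.rank]

end general

section trace

variable {T : Type*} [CommRing T] {M : Type*} [AddCommGroup M] [Module T M] [Module.Finite T M]
  [Module.Projective T M]

/-- A finite projective module of positive rank everywhere has trace ideal the unit ideal. -/
theorem exists_sum_eq_one (h : ∀ p : PrimeSpectrum T, Module.rankAtStalk (R := T) M p ≠ 0) :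
    ∃ (ι : Type) (_ : Fintype ι) (f : ι → Module.Dual T M) (x : ι → M), ∑ i, f i (x i) = 1 := by
  obtain ⟨m, a, f, haf⟩ := exists_dualBasis T M
  let I : Ideal T := Ideal.span (Set.range fun p : Fin m × Fin m => f p.1 (a p.2))
  have h1 : (⊤ : Submodule T M) ≤ I • ⊤ := by
    have h2 : ∀ j, a j ∈ (I • ⊤ : Submodule T M) := by
      intro j
      rw [← haf (a j)]
      exact Submodule.sum_mem _ fun i _ => Submodule.smul_mem_smul
        (Ideal.subset_span ⟨(i, j), rfl⟩) Submodule.mem_top
    intro x _
    rw [← haf x]
    exact Submodule.sum_mem _ fun i _ => Submodule.smul_mem _ _ (h2 i)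
  obtain ⟨r, hr, hr0⟩ := Submodule.exists_sub_one_mem_and_smul_eq_zero_of_fg_of_le_smul I ⊤
    Module.Finite.fg_top h1
  have hI : I = ⊤ := by
    by_contra hne
    obtain ⟨p, hp, hle⟩ := Ideal.exists_le_maximal _ hne
    apply h ⟨p, hp.isPrime⟩
    rw [Module.rankAtStalk_eq_zero_iff_notMem_support, Module.notMem_support_iff]
    have hrp : r ∉ p := by
      intro hrp
      apply hp.ne_top
      rw [Ideal.eq_top_iff_one]
      have := p.sub_mem hrp (hle hr)
      rwa [sub_sub_cancel] at this
    rw [LocalizedModule.subsingleton_iff]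
    intro x
    exact ⟨r, hrp, hr0 x Submodule.mem_top⟩
  have h3 : (1 : T) ∈ Ideal.span (Set.range fun p : Fin m × Fin m => f p.1 (a p.2)) := by
    change (1 : T) ∈ I
    rw [hI]; exact Submodule.mem_top
  obtain ⟨c, hc⟩ := (Ideal.mem_span_range_iff_exists_fun).mp h3
  refine ⟨Fin m × Fin m, inferInstance, fun p => f p.1, fun p => c p • a p.2, ?_⟩
  rw [← hc]
  exact Finset.sum_congr rfl fun p _ => by rw [map_smul, smul_eq_mul]

theorem injective_algebraMap {B : Type*} [Ring B] [Algebra T B] {n : ℕ} (hn : 0 < n)
    (hB : Az T B n) : Function.Injective (algebraMap T B) := by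
  have := hB.finite
  have := hB.proj
  obtain ⟨ι, _, f, x, hfx⟩ := exists_sum_eq_one (T := T) (M := B) (fun p => by
    rw [hB.rank]; positivity)
  rw [injective_iff_map_eq_zero]
  intro r hr
  have : r = ∑ i, f i (algebraMap T B r * x i) := by
    conv_lhs => rw [← mul_one r, ← hfx, Finset.mul_sum]
    exact Finset.sum_congr rfl fun i _ => by rw [← Algebra.smul_def, map_smul, smul_eq_mul]
  rw [this]
  simp [hr]

/-- The centre of an Azumaya algebra. -/
theorem exists_algebraMap_eq {B : Type*} [Ring B] [Algebra T B] {n : ℕ} (hn : 0 < n)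
    (hB : Az T B n) {z : B} (hz : ∀ x, z * x = x * z) : ∃ r : T, algebraMap T B r = z := by
  have := hB.finite
  have := hB.proj
  obtain ⟨ι, _, f, x, hfx⟩ := exists_sum_eq_one (T := T) (M := B) (fun p => by
    rw [hB.rank]; positivity)
  refine ⟨∑ i, f i (z * x i), ?_⟩
  have h1 : ∀ i, z * algebraMap T B (f i (x i)) = algebraMap T B (f i (z * x i)) := by
    intro i
    obtain ⟨t, ht⟩ := hB.surj ((f i).smulRight (1 : B))
    have h2 := mul_mulLeftRight_of_commute (K := T) hz t (x i)
    rw [ht, LinearMap.smulRight_apply, LinearMap.smulRight_apply,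
      ← Algebra.algebraMap_eq_smul_one, ← Algebra.algebraMap_eq_smul_one] at h2
    exact h2
  rw [map_sum, ← Finset.sum_congr rfl fun i _ => h1 i, ← Finset.mul_sum, ← map_sum, hfx, map_one,
    mul_one]

end trace

end K925.AzLocal
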