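import Groth.Agent.AzInv.K925.FixDim
import Groth.Prelude.Def_AzInv
import Mathlib.LinearAlgebra.TensorProduct.Pi
import Mathlib.LinearAlgebra.Matrix.ConjTranspose

/-!
# The dimension of symmetric elements of an involution at a ramified point
-/

set_option autoImplicit false

universe u v w

namespace K925.Sign

open scoped TensorProduct
open AzInv K925.FixDim Module

noncomputable section

section def_

variable {R : Type*} [CommRing R] {A : Type*} [Ring A] [Algebra R A] {lam : R → R}
  (t : LamInv R A lam) {K : Type*} [Field K] [Algebra R K]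
  (hK : ∀ r, algebraMap R K (lam r) = algebraMap R K r)

/-- The linear map induced on `K ⊗ A`. -/
def tK : K ⊗[R] A →ₗ[K] K ⊗[R] A :=
  TensorProduct.AlgebraTensorModule.lift
    { toFun := fun k =>
        { toFun := fun a => k ⊗ₜ[R] t a
          map_add' := fun a b => by rw [t.map_add, TensorProduct.tmul_add]
          map_smul' := fun r a => by
            rw [t.map_smul, TensorProduct.tmul_smul, TensorProduct.smul_tmul', RingHom.id_apply,
              TensorProduct.smul_tmul', Algebra.smul_def, hK, Algebra.smul_def] }
      map_add' := fun k l => by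
        ext a
        exact TensorProduct.add_tmul _ _ _
      map_smul' := fun k l => by
        ext a
        rfl }

@[simp] theorem tK_tmul (k : K) (a : A) : tK t hK (k ⊗ₜ[R] a) = k ⊗ₜ[R] t a := rfl

/-- Dimension of the space of symmetric elements. -/
def dK : ℕ := dF (tK t hK)

theorem tK_tK (x : K ⊗[R] A) : tK t hK (tK t hK x) = x := by
  induction x using TensorProduct.induction_on with
  | zero => simp
  | tmul k a => simp
  | add x y hx hy => rw [map_add, map_add, hx, hy]

theorem span_eq (h2 : (2 : K) ≠ 0) :
    Submodule.span K (Set.range fun a : {a : A // t a = a} => (1 : K) ⊗ₜ[R] (a : A)) =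
      LinearMap.eqLocus (tK t hK) LinearMap.id := by
  apply le_antisymm
  · rw [Submodule.span_le]
    rintro _ ⟨a, rfl⟩
    change tK t hK ((1 : K) ⊗ₜ[R] (a : A)) = (1 : K) ⊗ₜ[R] (a : A)
    rw [tK_tmul, a.2]
  · intro x hx
    have h1 : ∀ y : K ⊗[R] A, y + tK t hK y ∈
        Submodule.span K (Set.range fun a : {a : A // t a = a} => (1 : K) ⊗ₜ[R] (a : A)) := by
      intro y
      induction y using TensorProduct.induction_on with
      | zero => rw [map_zero, add_zero]; exact Submodule.zero_mem _
      | tmul k a =>
        have h3 : k ⊗ₜ[R] a + tK t hK (k ⊗ₜ[R] a) = k • ((1 : K) ⊗ₜ[R] (a + t a)) := by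
          rw [tK_tmul, TensorProduct.smul_tmul', smul_eq_mul, mul_one, TensorProduct.tmul_add]
        rw [h3]
        exact Submodule.smul_mem _ _ (Submodule.subset_span
          ⟨⟨a + t a, by rw [t.map_add, t.invol, add_comm]⟩, rfl⟩)
      | add y z hy hz =>
        rw [map_add, add_add_add_comm]
        exact Submodule.add_mem _ hy hz
    have hx' : tK t hK x = x := hx
    have h4 : x = (2 : K)⁻¹ • (x + tK t hK x) := by
      rw [hx', ← two_smul K x, smul_smul, inv_mul_cancel₀ h2, one_smul]
    rw [h4]
    exact Submodule.smul_mem _ _ (h1 x)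

theorem finrank_span_eq (h2 : (2 : K) ≠ 0) :
    finrank K (Submodule.span K (Set.range fun a : {a : A // t a = a} =>
      (1 : K) ⊗ₜ[R] (a : A))) = dK t hK := by
  rw [span_eq t hK h2]
  rfl

end def_

section tower

variable {R : Type*} [CommRing R] {A : Type*} [Ring A] [Algebra R A] {lam : R → R}
  (t : LamInv R A lam) {K : Type*} [Field K] [Algebra R K]
  (hK : ∀ r, algebraMap R K (lam r) = algebraMap R K r)
  {K' : Type*} [Field K'] [Algebra R K'] [Algebra K K'] [IsScalarTower R K K']
  (hK' : ∀ r, algebraMap R K' (lam r) = algebraMap R K' r)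

/-- Invariance under field extension. -/
theorem dK_tower : dK t hK' = dK t hK := by
  have h1 := dF_baseChange K' (tK t hK)
  rw [dK, dK, ← h1]
  symm
  refine dF_congr (TensorProduct.AlgebraTensorModule.cancelBaseChange R K K' K' A) fun x => ?_
  induction x using TensorProduct.induction_on with
  | zero => simp
  | tmul k y =>
    induction y using TensorProduct.induction_on with
    | zero => simp
    | tmul l a => simp
    | add y z hy hz =>
      rw [TensorProduct.tmul_add, map_add, map_add, map_add, map_add, hy, hz]
  | add x y hx hy => rw [map_add, map_add, map_add, map_add, hx, hy]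

end tower

section congr

variable {R : Type*} [CommRing R] {A : Type*} [Ring A] [Algebra R A] {lam : R → R}
  (t : LamInv R A lam) {A' : Type*} [Ring A'] [Algebra R A'] (t' : LamInv R A' lam)
  {K : Type*} [Field K] [Algebra R K]
  (hK : ∀ r, algebraMap R K (lam r) = algebraMap R K r)

theorem dK_congr (f : A ≃ₗ[R] A') (hf : ∀ a, f (t a) = t' (f a)) : dK t hK = dK t' hK := by
  refine dF_congr (f.baseChange R K A A') fun x => ?_
  induction x using TensorProduct.induction_on with
  | zero => simp
  | tmul k a => simp [hf]
  | add x y hx hy => rw [map_add, map_add, map_add, map_add, hx, hy]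

end congr

section map

variable {R : Type*} [CommRing R] {A : Type*} [Ring A] [Algebra R A] {lam : R → R}
  (t : LamInv R A lam) {T : Type*} [CommRing T] [Algebra R T] {B : Type*} [Ring B] [Algebra T B]
  {lamT : T → T} (τ : LamInv T B lamT) {K : Type*} [Field K] [Algebra R K] [Algebra T K]
  [IsScalarTower R T K]
  (hK : ∀ r, algebraMap R K (lam r) = algebraMap R K r)
  (hK' : ∀ r, algebraMap T K (lamT r) = algebraMap T K r)

/-- Comparison of `K ⊗[R] A` and `K ⊗[T] B`. -/
theorem dK_of_map (i : A →+ B) (hi : ∀ (r : R) (a : A), i (r • a) = algebraMap R T r • i a)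
    (hspan : ∀ b : B, b ∈ Submodule.span T (Set.range i)) (hit : ∀ a, i (t a) = τ (i a))
    [Module.Finite K (K ⊗[R] A)] [Module.Finite K (K ⊗[T] B)]
    (hr : finrank K (K ⊗[R] A) = finrank K (K ⊗[T] B)) : dK t hK = dK τ hK' := by
  let g : K ⊗[R] A →ₗ[K] K ⊗[T] B :=
    TensorProduct.AlgebraTensorModule.lift
      { toFun := fun k =>
          { toFun := fun a => k ⊗ₜ[T] i a
            map_add' := fun a b => by rw [map_add, TensorProduct.tmul_add]
            map_smul' := fun r a => by
              rw [hi, ← TensorProduct.smul_tmul, RingHom.id_apply, algebraMap_smul,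
                TensorProduct.smul_tmul'] }
        map_add' := fun k l => by
          ext a
          exact TensorProduct.add_tmul _ _ _
        map_smul' := fun k l => by
          ext a
          rfl }
  have hg : ∀ (k : K) (a : A), g (k ⊗ₜ[R] a) = k ⊗ₜ[T] i a := fun k a => rfl
  refine dF_of_surjective g ?_ hr fun x => ?_
  · rw [← LinearMap.range_eq_top, eq_top_iff]
    rintro y -
    induction y using TensorProduct.induction_on with
    | zero => exact Submodule.zero_mem _
    | tmul k b =>
      have h1 : ∀ b ∈ Submodule.span T (Set.range i), ∀ k : K, k ⊗ₜ[T] b ∈ LinearMap.range g := by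
        intro b hb
        induction hb using Submodule.span_induction with
        | mem b hb =>
          obtain ⟨a, rfl⟩ := hb
          exact fun k => ⟨k ⊗ₜ[R] a, rfl⟩
        | zero => intro k; rw [TensorProduct.tmul_zero]; exact Submodule.zero_mem _
        | add b c _ _ hb hc =>
          intro k
          rw [TensorProduct.tmul_add]
          exact Submodule.add_mem _ (hb k) (hc k)
        | smul c b _ hb =>
          intro k
          rw [← TensorProduct.smul_tmul]
          exact hb _
      exact h1 b (hspan b) k
    | add x y hx hy => exact Submodule.add_mem _ hx hy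
  · induction x using TensorProduct.induction_on with
    | zero => simp
    | tmul k a => rw [tK_tmul, hg, hg, tK_tmul, hit]
    | add x y hx hy => rw [map_add, map_add, map_add, map_add, hx, hy]

end map

section matrix

variable {R : Type*} [CommRing R] {A : Type*} [Ring A] [Algebra R A] {lam : R → R}
  (t : LamInv R A lam) {K : Type*} [Field K] [Algebra R K]
  (hK : ∀ r, algebraMap R K (lam r) = algebraMap R K r)

/-- `K ⊗ M_m(A) ≃ M_m(K ⊗ A)`. -/
def matEquiv (R : Type*) [CommRing R] (A : Type*) [Ring A] [Algebra R A] (K : Type*) [Field K]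
    [Algebra R K] (m : ℕ) :
    K ⊗[R] (Matrix (Fin m) (Fin m) A) ≃ₗ[K] Matrix (Fin m) (Fin m) (K ⊗[R] A) :=
  (TensorProduct.piRight R K K (fun _ : Fin m => (Fin m → A))).trans
    (LinearEquiv.piCongrRight fun _ => TensorProduct.piRight R K K (fun _ : Fin m => A))

theorem matEquiv_tmul (m : ℕ) (k : K) (M : Matrix (Fin m) (Fin m) A) (i j : Fin m) :
    matEquiv R A K m (k ⊗ₜ[R] M) i j = k ⊗ₜ[R] M i j := rfl

theorem dK_matrix (m : ℕ) [Module.Finite K (K ⊗[R] A)] :
    dK (t.matrix (Fin m)) hK = m * dK t hK + m.choose 2 * finrank K (K ⊗[R] A) := by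
  rw [dK, dK, ← dF_matTau m _ (tK_tK t hK)]
  refine dF_congr (matEquiv R A K m) fun x => ?_
  induction x using TensorProduct.induction_on with
  | zero => simp
  | tmul k M =>
    ext i j
    rw [tK_tmul, matEquiv_tmul, matTau_apply, matEquiv_tmul, tK_tmul]
    rfl
  | add x y hx hy => rw [map_add, map_add, map_add, map_add, hx, hy]

end matrix

section normal

open Matrix

variable {T : Type*} [CommRing T] [StarRing T] {n : ℕ} {K : Type*} [Field K] [Algebra T K]
  (hK : ∀ r : T, algebraMap T K (star r) = algebraMap T K r)

theorem dK_normal (τ : LamInv T (Matrix (Fin n) (Fin n) T) (star : T → T))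
    {h g : Matrix (Fin n) (Fin n) T} {ε : T} (hg : h * g = 1) (hh : hᴴ = ε • h)
    (hτ : ∀ x, τ x = h * xᴴ * g) (δ : K) (hε : algebraMap T K ε = δ) (hδ : δ * δ = 1) :
    dK τ hK = dF (matTau n (δ • (LinearMap.id : K →ₗ[K] K))) := by
  let q : Matrix (Fin n) (Fin n) T →+* Matrix (Fin n) (Fin n) K := (algebraMap T K).mapMatrix
  let hb := q h
  have hgh : g * h = 1 := mul_eq_one_comm.mp hg
  have hqs : ∀ M, q Mᴴ = (q M)ᵀ := by
    intro M
    ext i j
    exact hK _
  let e : K ⊗[T] Matrix (Fin n) (Fin n) T →ₗ[K] Matrix (Fin n) (Fin n) K :=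
    TensorProduct.AlgebraTensorModule.lift
      { toFun := fun k =>
          { toFun := fun M => k • (q M * hb)
            map_add' := fun a b => by rw [map_add, Matrix.add_mul, smul_add]
            map_smul' := fun r M => by
              have h1 : q (r • M) = algebraMap T K r • q M := by
                ext i j
                change algebraMap T K (r * M i j) = algebraMap T K r * algebraMap T K (M i j)
                rw [map_mul]
              rw [h1, Matrix.smul_mul, smul_comm, RingHom.id_apply, algebraMap_smul] }
        map_add' := fun k l => by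
          ext1 M
          exact add_smul _ _ _
        map_smul' := fun k l => by
          ext1 M
          exact mul_smul _ _ _ }
  have he : ∀ (k : K) (M : Matrix (Fin n) (Fin n) T), e (k ⊗ₜ[T] M) = k • (q M * hb) :=
    fun k M => rfl
  have hf : Module.Finite K (K ⊗[T] Matrix (Fin n) (Fin n) T) := inferInstance
  refine dF_of_surjective e ?_ ?_ fun x => ?_
  · intro Y
    refine ⟨∑ i, ∑ j, (Y i j) ⊗ₜ[T] (Matrix.single i j 1 * g), ?_⟩
    rw [map_sum]
    simp_rw [map_sum, he]
    have h3 : ∀ i j : Fin n, Y i j • (q (Matrix.single i j 1 * g) * hb) =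
        Matrix.single i j (Y i j) := by
      intro i j
      have h4 : q (Matrix.single i j 1 * g) * hb = Matrix.single i j (1 : K) := by
        change q _ * q h = _
        rw [← map_mul, Matrix.mul_assoc, hgh, Matrix.mul_one]
        ext a b
        change algebraMap T K (Matrix.single i j 1 a b) = _
        simp only [Matrix.single, Matrix.of_apply]
        split_ifs <;> simp
      rw [h4, Matrix.smul_single, smul_eq_mul, mul_one]
    simp_rw [h3]
    exact (Matrix.matrix_eq_sum_single Y).symm
  · rw [Module.finrank_matrix]
    rcases subsingleton_or_nontrivial T with hT | hT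
    · exact absurd (congrArg (algebraMap T K) (Subsingleton.elim (1 : T) 0)) (by simp)
    · rw [Module.finrank_baseChange, Module.finrank_matrix]
      simp
  · induction x using TensorProduct.induction_on with
    | zero => simp
    | tmul k M =>
      rw [tK_tmul, he, he, hτ, map_mul, map_mul, Matrix.mul_assoc, ← map_mul q g h, hgh, map_one,
        Matrix.mul_one, hqs]
      ext i j
      rw [matTau_apply]
      change k * (hb * (q M)ᵀ) i j = δ • (k * (q M * hb) j i)
      have h5 : (q M * hb) j i = δ * (hb * (q M)ᵀ) i j := by
        change (q M * hb)ᵀ i j = _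
        rw [Matrix.transpose_mul]
        have h6 : hbᵀ = δ • hb := by
          change (q h)ᵀ = δ • q h
          rw [← hqs, hh]
          ext a b
          change algebraMap T K (ε * h a b) = δ * algebraMap T K (h a b)
          rw [map_mul, hε]
        rw [h6, Matrix.smul_mul, Matrix.smul_apply, smul_eq_mul]
      rw [h5, smul_eq_mul]
      linear_combination (-k * (hb * (q M)ᵀ) i j) * hδ
    | add x y hx hy => rw [map_add, map_add, map_add, map_add, hx, hy]

/-- The dimension in terms of the sign. -/
theorem dK_normal_pos (τ : LamInv T (Matrix (Fin n) (Fin n) T) (star : T → T))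
    {h g : Matrix (Fin n) (Fin n) T} {ε : T} (hg : h * g = 1) (hh : hᴴ = ε • h)
    (hτ : ∀ x, τ x = h * xᴴ * g) (hε : algebraMap T K ε = 1) :
    dK τ hK = (n + 1).choose 2 := by
  rw [dK_normal hK τ hg hh hτ 1 hε (one_mul 1), one_smul, dF_matTau_id]

theorem dK_normal_neg (h2 : (2 : K) ≠ 0) (τ : LamInv T (Matrix (Fin n) (Fin n) T) (star : T → T))
    {h g : Matrix (Fin n) (Fin n) T} {ε : T} (hg : h * g = 1) (hh : hᴴ = ε • h)
    (hτ : ∀ x, τ x = h * xᴴ * g) (hε : algebraMap T K ε = -1) :
    dK τ hK = n.choose 2 := by
  have h3 : ((-1 : K) • (LinearMap.id : K →ₗ[K] K)) = -LinearMap.id := by ext; simp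
  rw [dK_normal hK τ hg hh hτ (-1) hε (by ring), h3, dF_matTau_neg h2]

end normal

end

end K925.Sign
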