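import Groth.Agent.AzInv.K925.AzBasic
import Groth.Agent.AzInv.K925.Sign
import Groth.Agent.AzInv.K925.AzLocal
import Groth.Prelude.Def_W4c2azumayainvolQEt
import Mathlib.RingTheory.Flat.Basic

/-!
# Base change of rings and algebras with involution
-/

set_option autoImplicit false

universe u v w w' u'

namespace K925.BC

open scoped TensorProduct
open AzInv K925.AzBasic

noncomputable section

variable {S : Type u} [CommRing S] {R : Type v} [CommRing R] [Algebra S R]
  {A : Type w} [Ring A] [Algebra S A] [Algebra R A] [IsScalarTower S R A]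
  {E : Type u'} [CommRing E] [Algebra S E]

section alg

variable (S R A E)

/-- The structure map `E ⊗ R → E ⊗ A`. -/
def str : E ⊗[S] R →ₐ[E] E ⊗[S] A :=
  Algebra.TensorProduct.map (AlgHom.id E E) (IsScalarTower.toAlgHom S R A)

@[simp] theorem str_tmul (e : E) (r : R) : str S R A E (e ⊗ₜ[S] r) = e ⊗ₜ[S] algebraMap R A r :=
  rfl

theorem str_commutes (c : E ⊗[S] R) (x : E ⊗[S] A) :
    str S R A E c * x = x * str S R A E c := by
  induction c using TensorProduct.induction_on with
  | zero => simp
  | tmul e r =>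
    induction x using TensorProduct.induction_on with
    | zero => simp
    | tmul e' a =>
      rw [str_tmul, Algebra.TensorProduct.tmul_mul_tmul, Algebra.TensorProduct.tmul_mul_tmul,
        mul_comm, Algebra.commutes]
    | add x y hx hy => rw [mul_add, add_mul, hx, hy]
  | add c d hc hd => rw [map_add, mul_add, add_mul, hc, hd]

/-- The `E ⊗ R`-algebra structure on `E ⊗ A`. -/
@[reducible] def alg : Algebra (E ⊗[S] R) (E ⊗[S] A) :=
  (str S R A E).toRingHom.toAlgebra' (str_commutes S R A E)

end alg

attribute [local instance 50] alg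

theorem algebraMap_eq (c : E ⊗[S] R) : algebraMap (E ⊗[S] R) (E ⊗[S] A) c = str S R A E c := rfl

theorem smul_eq (c : E ⊗[S] R) (x : E ⊗[S] A) : c • x = str S R A E c * x := rfl

theorem tmul_smul_tmul (e : E) (r : R) (e' : E) (a : A) :
    (e ⊗ₜ[S] r) • (e' ⊗ₜ[S] a) = (e * e') ⊗ₜ[S] (r • a) := by
  rw [smul_eq, str_tmul, Algebra.TensorProduct.tmul_mul_tmul, Algebra.smul_def]

instance isScalarTower : IsScalarTower E (E ⊗[S] R) (E ⊗[S] A) :=
  IsScalarTower.of_algebraMap_eq fun e => by
    rw [algebraMap_eq]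
    exact ((str S R A E).commutes e).symm

section az

attribute [local instance 40] Algebra.TensorProduct.rightAlgebra

theorem algebraMap_right (r : R) : algebraMap R (E ⊗[S] R) r = (1 : E) ⊗ₜ[S] r := rfl

/-- `(E ⊗ R) ⊗[R] A → E ⊗ A`. -/
def cancelHom : (E ⊗[S] R) ⊗[R] A →ₐ[E ⊗[S] R] E ⊗[S] A :=
  letI : Algebra R (E ⊗[S] A) := ((algebraMap (E ⊗[S] R) (E ⊗[S] A)).comp
    (algebraMap R (E ⊗[S] R))).toAlgebra' (fun r x =>
      Algebra.commutes (algebraMap R (E ⊗[S] R) r) x)
  letI : IsScalarTower R (E ⊗[S] R) (E ⊗[S] A) := IsScalarTower.of_algebraMap_eq fun r => rfl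
  Algebra.TensorProduct.lift (Algebra.ofId _ _)
    { toRingHom := (Algebra.TensorProduct.includeRight : A →ₐ[S] E ⊗[S] A).toRingHom
      commutes' := fun r => rfl } (fun c a => Algebra.commutes c _)

theorem cancelHom_tmul (c : E ⊗[S] R) (a : A) :
    cancelHom (c ⊗ₜ[R] a) = c • ((1 : E) ⊗ₜ[S] a) := rfl

/-- the inverse of `cancelHom` -/
def cancelInv : E ⊗[S] A →+ (E ⊗[S] R) ⊗[R] A :=
  TensorProduct.liftAddHom
    { toFun := fun e =>
        { toFun := fun a => (e ⊗ₜ[S] (1 : R)) ⊗ₜ[R] a
          map_zero' := TensorProduct.tmul_zero _ _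
          map_add' := fun a b => TensorProduct.tmul_add _ _ _ }
      map_zero' := by
        ext a
        change ((0 : E) ⊗ₜ[S] (1 : R)) ⊗ₜ[R] a = 0
        rw [TensorProduct.zero_tmul, TensorProduct.zero_tmul]
      map_add' := fun e f => by
        ext a
        change ((e + f) ⊗ₜ[S] (1 : R)) ⊗ₜ[R] a = (e ⊗ₜ[S] (1 : R)) ⊗ₜ[R] a +
          (f ⊗ₜ[S] (1 : R)) ⊗ₜ[R] a
        rw [TensorProduct.add_tmul, TensorProduct.add_tmul] }
    (fun s e a => by
      change ((s • e) ⊗ₜ[S] (1 : R)) ⊗ₜ[R] a = (e ⊗ₜ[S] (1 : R)) ⊗ₜ[R] (s • a)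
      have h1 : s • a = algebraMap S R s • a := (algebraMap_smul R s a).symm
      rw [h1, ← TensorProduct.smul_tmul]
      congr 1
      have h2 : algebraMap S R s • (e ⊗ₜ[S] (1 : R)) = e ⊗ₜ[S] (algebraMap S R s) := by
        rw [Algebra.smul_def (algebraMap S R s) (e ⊗ₜ[S] (1 : R)), algebraMap_right,
          Algebra.TensorProduct.tmul_mul_tmul, one_mul, mul_one]
      rw [h2, TensorProduct.smul_tmul, Algebra.algebraMap_eq_smul_one])

theorem cancelInv_tmul (e : E) (a : A) :
    cancelInv (e ⊗ₜ[S] a) = (e ⊗ₜ[S] (1 : R)) ⊗ₜ[R] a := rfl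

theorem cancelInv_cancelHom (x : (E ⊗[S] R) ⊗[R] A) : cancelInv (cancelHom x) = x := by
  induction x using TensorProduct.induction_on with
  | zero => simp
  | tmul c a =>
    induction c using TensorProduct.induction_on with
    | zero => simp
    | tmul e r =>
      rw [cancelHom_tmul, tmul_smul_tmul, mul_one, cancelInv_tmul, ← TensorProduct.smul_tmul]
      congr 1
      rw [Algebra.smul_def, algebraMap_right, Algebra.TensorProduct.tmul_mul_tmul, one_mul, mul_one]
    | add c d hc hd => rw [TensorProduct.add_tmul, map_add, map_add, hc, hd]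
  | add x y hx hy => rw [map_add, map_add, hx, hy]

theorem cancelHom_surjective : Function.Surjective (cancelHom (S := S) (R := R) (A := A)
    (E := E)) := by
  intro y
  induction y using TensorProduct.induction_on with
  | zero => exact ⟨0, map_zero _⟩
  | tmul e a =>
    refine ⟨(e ⊗ₜ[S] (1 : R)) ⊗ₜ[R] a, ?_⟩
    rw [cancelHom_tmul, tmul_smul_tmul, mul_one, one_smul]
  | add x y hx hy =>
    obtain ⟨a, ha⟩ := hx
    obtain ⟨b, hb⟩ := hy
    exact ⟨a + b, by rw [map_add, ha, hb]⟩

/-- `(E ⊗ R) ⊗[R] A ≃ E ⊗ A`. -/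
def cancelEquiv : (E ⊗[S] R) ⊗[R] A ≃ₐ[E ⊗[S] R] E ⊗[S] A :=
  AlgEquiv.ofBijective cancelHom
    ⟨Function.LeftInverse.injective cancelInv_cancelHom, cancelHom_surjective⟩

variable (S E) in
theorem az {n : ℕ} (h : Az R A n) : Az (E ⊗[S] R) (E ⊗[S] A) n :=
  (h.baseChange (E ⊗[S] R)).of_algEquiv cancelEquiv

end az

section inv

variable (S E) (lam : R ≃ₐ[S] R)

/-- The base change of the involution of `R`. -/
def lamE : E ⊗[S] R ≃ₐ[E] E ⊗[S] R :=
  Algebra.TensorProduct.congr AlgEquiv.refl lam

@[simp] theorem lamE_tmul (e : E) (r : R) : lamE S E lam (e ⊗ₜ[S] r) = e ⊗ₜ[S] lam r := rfl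

theorem lamE_lamE (hlam : ∀ r, lam (lam r) = r) (x : E ⊗[S] R) :
    lamE S E lam (lamE S E lam x) = x := by
  induction x using TensorProduct.induction_on with
  | zero => simp
  | tmul e r => rw [lamE_tmul, lamE_tmul, hlam]
  | add x y hx hy => rw [map_add, map_add, hx, hy]

variable {lam}

/-- The base change of a `lam`-involution. -/
def tE (t : LamInv R A lam) : LamInv (E ⊗[S] R) (E ⊗[S] A) (lamE S E lam) where
  toFun := t.bc S lam E
  map_add' := map_add _
  map_mul' x y := by
    induction x using TensorProduct.induction_on with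
    | zero => simp
    | tmul e a =>
      induction y using TensorProduct.induction_on with
      | zero => simp
      | tmul e' a' =>
        rw [Algebra.TensorProduct.tmul_mul_tmul, LamInv.bc_tmul, LamInv.bc_tmul, LamInv.bc_tmul,
          Algebra.TensorProduct.tmul_mul_tmul, t.map_mul, mul_comm]
      | add y z hy hz => rw [mul_add, map_add, map_add, add_mul, hy, hz]
    | add x z hx hz => rw [add_mul, map_add, map_add, mul_add, hx, hz]
  map_smul' c x := by
    induction c using TensorProduct.induction_on with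
    | zero => simp
    | tmul e r =>
      induction x using TensorProduct.induction_on with
      | zero => simp
      | tmul e' a' =>
        rw [tmul_smul_tmul, LamInv.bc_tmul, LamInv.bc_tmul, lamE_tmul, tmul_smul_tmul,
          t.map_smul]
      | add y z hy hz => rw [smul_add, map_add, map_add, smul_add, hy, hz]
    | add c d hc hd => rw [add_smul, map_add, map_add, add_smul, hc, hd]
  invol' x := by
    induction x using TensorProduct.induction_on with
    | zero => simp
    | tmul e a => rw [LamInv.bc_tmul, LamInv.bc_tmul, t.invol]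
    | add x y hx hy => rw [map_add, map_add, hx, hy]

theorem tE_apply (t : LamInv R A lam) (x : E ⊗[S] A) : tE S E t x = t.bc S lam E x := rfl

@[simp] theorem tE_tmul (t : LamInv R A lam) (e : E) (a : A) :
    tE S E t (e ⊗ₜ[S] a) = e ⊗ₜ[S] t a := by
  rw [tE_apply, LamInv.bc_tmul]

end inv

section fixed

variable (S E) (lam : R ≃ₐ[S] R)

theorem isFixedRing [Module.Flat S E] (hfix : RInv.IsFixedRing S R lam.toRingEquiv) :
    RInv.IsFixedRing E (E ⊗[S] R) (lamE S E lam).toRingEquiv := by
  refine ⟨Algebra.TensorProduct.includeLeft_injective (S := E) hfix.1, fun x => ?_⟩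
  constructor
  · intro hx
    have hx' : lamE S E lam x = x := hx
    have h1 : Function.Exact (Algebra.linearMap S R)
        (lam.toLinearMap - (LinearMap.id : R →ₗ[S] R)) := by
      intro r
      rw [LinearMap.sub_apply, sub_eq_zero]
      exact hfix.2 r
    have h2 := Module.Flat.lTensor_exact E h1
    have h3 : LinearMap.lTensor E (lam.toLinearMap - (LinearMap.id : R →ₗ[S] R)) x = 0 := by
      rw [LinearMap.lTensor_sub, LinearMap.sub_apply, LinearMap.lTensor_id, LinearMap.id_apply,
        sub_eq_zero]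
      exact hx'
    obtain ⟨y, hy⟩ := (h2 x).mp h3
    have h4 : ∀ y : E ⊗[S] S, algebraMap E (E ⊗[S] R) (TensorProduct.rid S E y) =
        LinearMap.lTensor E (Algebra.linearMap S R) y := by
      intro y
      induction y using TensorProduct.induction_on with
      | zero => simp
      | tmul e s =>
        rw [TensorProduct.rid_tmul, LinearMap.lTensor_tmul, Algebra.linearMap_apply,
          Algebra.algebraMap_eq_smul_one (A := R), ← TensorProduct.smul_tmul]
        rfl
      | add y z hy' hz => rw [map_add, map_add, map_add, hy', hz]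
    exact ⟨TensorProduct.rid S E y, by rw [h4, hy]⟩
  · rintro ⟨e, rfl⟩
    exact (lamE S E lam).commutes e

end fixed

end

end K925.BC
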