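import Groth.Agent.AzInv.K925.Sgn

/-!
# The sign of explicit involutions
-/

set_option autoImplicit false

universe u v w w' u'

namespace K925.Conj

open scoped TensorProduct
open AzInv K925.Sign K925.FixDim Module

noncomputable section

theorem dF_id {K : Type*} [Field K] {V : Type*} [AddCommGroup V] [Module K V] :
    dF (LinearMap.id : V →ₗ[K] V) = finrank K V := by
  have h1 : LinearMap.eqLocus (LinearMap.id : V →ₗ[K] V) LinearMap.id = ⊤ := by
    ext x; simp
  rw [dF, h1, finrank_top]

theorem az_self (R : Type v) [CommRing R] : K925.AzBasic.Az R R 1 := by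
  have hb : Function.Bijective (Algebra.ofId R (Matrix (Fin 1) (Fin 1) R)) := by
    constructor
    · intro a b hab
      have h1 := congrFun (congrFun hab 0) 0
      rwa [Algebra.ofId_apply, Algebra.ofId_apply, Matrix.algebraMap_matrix_apply, if_pos rfl,
        Matrix.algebraMap_matrix_apply, if_pos rfl] at h1
    · intro M
      refine ⟨M 0 0, ?_⟩
      ext i j
      rw [Algebra.ofId_apply, Matrix.algebraMap_matrix_apply, if_pos (Subsingleton.elim i j),
        Subsingleton.elim i 0, Subsingleton.elim j 0]
      rfl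
  exact (K925.LocSplit.az_matrix' R (n := 1) Nat.one_pos).of_algEquiv
    (AlgEquiv.ofBijective _ hb).symm

variable {S : Type u} [CommRing S] {R : Type v} [CommRing R] [Algebra S R]
  {lam : R ≃ₐ[S] R} (hlam : ∀ r, lam (lam r) = r)
  {K : Type w'} [Field K] [Algebra R K]
  (hK : ∀ r, algebraMap R K (lam r) = algebraMap R K r)

theorem dK_self : dK (LamInv.self lam hlam) hK = 1 := by
  rw [dK, dF_congr (τ' := (LinearMap.id : K →ₗ[K] K))
    (TensorProduct.AlgebraTensorModule.rid R K K) (fun x => ?_), dF_id, finrank_self]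
  induction x using TensorProduct.induction_on with
  | zero => simp
  | tmul k r =>
    rw [tK_tmul, TensorProduct.AlgebraTensorModule.rid_tmul,
      TensorProduct.AlgebraTensorModule.rid_tmul, LinearMap.id_apply]
    change lam r • k = r • k
    rw [Algebra.smul_def, hK, ← Algebra.smul_def]
  | add x y hx hy => rw [map_add, map_add, map_add, map_add, hx, hy]

variable {n : ℕ} (w : (Matrix (Fin n) (Fin n) R)ˣ) (e : R)
  (hw : LamInv.transpose lam (Fin n) hlam (↑w : Matrix (Fin n) (Fin n) R) =
    e • (↑w : Matrix (Fin n) (Fin n) R))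
  (he : lam e * e = 1)

theorem dK_conj_pos (h1 : algebraMap R K e = 1) :
    dK ((LamInv.transpose lam (Fin n) hlam).conj w e hw he) hK = (n + 1).choose 2 := by
  letI : StarRing R := K925.WInv.starRing lam hlam
  exact dK_normal_pos (T := R) hK ((LamInv.transpose lam (Fin n) hlam).conj w e hw he)
    (h := ↑w) (g := ↑w⁻¹) (ε := e) (Units.mul_inv w) hw (fun x => rfl) h1

theorem dK_conj_neg (h2 : (2 : K) ≠ 0) (h1 : algebraMap R K e = -1) :
    dK ((LamInv.transpose lam (Fin n) hlam).conj w e hw he) hK = n.choose 2 := by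
  letI : StarRing R := K925.WInv.starRing lam hlam
  exact dK_normal_neg (T := R) hK h2 ((LamInv.transpose lam (Fin n) hlam).conj w e hw he)
    (h := ↑w) (g := ↑w⁻¹) (ε := e) (Units.mul_inv w) hw (fun x => rfl) h1

end

end K925.Conj
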