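import Groth.Agent.Hensel.Lazard
import Mathlib.LinearAlgebra.TensorProduct.Vanishing
import Mathlib.RingTheory.Etale.Pi
import Mathlib.RingTheory.Spectrum.Prime.Chevalley
import Mathlib.RingTheory.Flat.FaithfullyFlat.Algebra
import Mathlib.RingTheory.Ideal.GoingDown
import Mathlib.FieldTheory.IsAlgClosed.AlgebraicClosure
import Mathlib.RingTheory.LocalRing.ResidueField.Ideal

/-!
# Descent of solutions of finite systems of equations in `E ⊗ M` along etale covers

* `Sys.Solv`: solvability over `E` of a finite system of natural equations in `E ⊗[S] M`.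
* `exists_cover`: if the system is solvable over the hull (strict henselization) at every point of
  `Spec S`, it is solvable over an etale faithfully flat `S`-algebra.
-/

set_option autoImplicit false

universe u v w

noncomputable section

namespace K925.Descent

open scoped TensorProduct
open Groth.Agent.Hensel.Lazard Groth.Agent.Hensel.Hull

variable {S : Type u} [CommRing S]

section bc

variable {E E' E'' : Type*} [CommRing E] [Algebra S E] [CommRing E'] [Algebra S E']
  [CommRing E''] [Algebra S E'']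

/-- The base change map `E ⊗ M → E' ⊗ M` of an algebra homomorphism. -/
def bc (f : E →ₐ[S] E') (M : Type*) [AddCommGroup M] [Module S M] :
    E ⊗[S] M →ₗ[S] E' ⊗[S] M := LinearMap.rTensor M f.toLinearMap

variable (M : Type*) [AddCommGroup M] [Module S M]

@[simp] theorem bc_tmul (f : E →ₐ[S] E') (e : E) (m : M) :
    bc f M (e ⊗ₜ[S] m) = f e ⊗ₜ[S] m := rfl

theorem bc_comp (f : E →ₐ[S] E') (g : E' →ₐ[S] E'') (x : E ⊗[S] M) :
    bc (g.comp f) M x = bc g M (bc f M x) := by
  induction x using TensorProduct.induction_on with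
  | zero => simp
  | tmul a b => simp
  | add x y hx hy => rw [map_add, map_add, map_add, hx, hy]

theorem bc_id (x : E ⊗[S] M) : bc (AlgHom.id S E) M x = x := by
  induction x using TensorProduct.induction_on with
  | zero => simp
  | tmul a b => simp
  | add x y hx hy => rw [map_add, hx, hy]

end bc

section pi

variable {ι : Type*} [Finite ι] (E : ι → Type*) [∀ i, CommRing (E i)] [∀ i, Algebra S (E i)]
  (M : Type*) [AddCommGroup M] [Module S M]

theorem pi_surjective (y : ∀ i, E i ⊗[S] M) :
    ∃ x : (∀ i, E i) ⊗[S] M, ∀ i, bc (Pi.evalAlgHom S E i) M x = y i := by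
  classical
  cases nonempty_fintype ι
  refine ⟨∑ i, LinearMap.rTensor M (LinearMap.single S E i) (y i), fun i => ?_⟩
  have key : ∀ j, bc (Pi.evalAlgHom S E i) M (LinearMap.rTensor M (LinearMap.single S E j) (y j)) =
      if h : j = i then h ▸ y j else 0 := by
    intro j
    rw [bc, ← LinearMap.comp_apply, ← LinearMap.rTensor_comp]
    split_ifs with h
    · subst h
      have : (Pi.evalAlgHom S E j).toLinearMap ∘ₗ LinearMap.single S E j = LinearMap.id := by
        ext x; simp
      rw [this, LinearMap.rTensor_id, LinearMap.id_apply]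
    · have : (Pi.evalAlgHom S E i).toLinearMap ∘ₗ LinearMap.single S E j = 0 := by
        ext x; simp [Pi.single_eq_of_ne (Ne.symm h)]
      rw [this, LinearMap.rTensor_zero, LinearMap.zero_apply]
  rw [map_sum, Finset.sum_congr rfl fun j _ => key j]
  simp

theorem pi_injective (x : (∀ i, E i) ⊗[S] M)
    (h : ∀ i, bc (Pi.evalAlgHom S E i) M x = 0) : x = 0 := by
  classical
  cases nonempty_fintype ι
  have h1 : (LinearMap.id : (∀ i, E i) →ₗ[S] (∀ i, E i)) =
      ∑ i, LinearMap.single S E i ∘ₗ (Pi.evalAlgHom S E i).toLinearMap := by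
    apply LinearMap.ext
    intro x
    ext j
    simp [LinearMap.sum_apply, Finset.sum_apply]
  have h2 : x = LinearMap.rTensor M (LinearMap.id : (∀ i, E i) →ₗ[S] (∀ i, E i)) x := by
    rw [LinearMap.rTensor_id, LinearMap.id_apply]
  rw [h2, h1, ← LinearMap.coe_rTensorHom, map_sum, LinearMap.sum_apply]
  refine Finset.sum_eq_zero fun i _ => ?_
  rw [LinearMap.coe_rTensorHom, LinearMap.rTensor_comp, LinearMap.comp_apply]
  have := h i
  rw [bc] at this
  rw [this, map_zero]

end pi

section colim

variable {W : Type u} [CommRing W] [Algebra S W] (h : Laz S W)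
  (M : Type*) [AddCommGroup M] [Module S M]

include h

theorem exists_lift_family {ι : Type*} [Finite ι] (x : ι → W ⊗[S] M) :
    ∃ (E : Type u) (_ : CommRing E) (_ : Algebra S E) (_ : Algebra.Etale S E) (χ : E →ₐ[S] W)
      (y : ι → E ⊗[S] M), ∀ i, bc χ M (y i) = x i := by
  classical
  cases nonempty_fintype ι
  choose s hs using fun i => TensorProduct.exists_finset (x i)
  obtain ⟨E, _, _, _, χ, e, he⟩ := h.exists_family (fun p : (Σ i, s i) => p.2.1.1)
  refine ⟨E, inferInstance, inferInstance, inferInstance, χ,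
    fun i => ∑ p : s i, e ⟨i, p⟩ ⊗ₜ[S] p.1.2, fun i => ?_⟩
  rw [map_sum, hs i, ← Finset.sum_coe_sort (s i)]
  refine Finset.sum_congr rfl fun p _ => ?_
  rw [bc_tmul, he]

theorem exists_kill {E : Type u} [CommRing E] [Algebra S E] [Algebra.Etale S E] (χ : E →ₐ[S] W)
    (y : E ⊗[S] M) (hy : bc χ M y = 0) :
    ∃ (E' : Type u) (_ : CommRing E') (_ : Algebra S E') (_ : Algebra.Etale S E')
      (ψ : E →ₐ[S] E') (χ' : E' →ₐ[S] W), χ'.comp ψ = χ ∧ bc ψ M y = 0 := by
  classical
  obtain ⟨s, rfl⟩ := TensorProduct.exists_finset y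
  have hflat : Module.Flat S W := h.flat
  rw [← Finset.sum_coe_sort s, map_sum] at hy
  simp only [bc_tmul] at hy
  have hy' : ∑ p : s, (p.1.2 : M) ⊗ₜ[S] χ p.1.1 = 0 := by
    have := congrArg (TensorProduct.comm S W M) hy
    simpa using this
  obtain ⟨k, a, z, hz, haz⟩ :=
    TensorProduct.vanishesTrivially_of_sum_tmul_eq_zero_of_rTensor_injective S
      (Module.Flat.rTensor_preserves_injective_linearMap _ (Submodule.injective_subtype _)) hy'
  obtain ⟨E₁, _, _, _, χ₁, e₁, he₁⟩ := h.exists_family z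
  have : Algebra.Etale S (E ⊗[S] E₁) := Algebra.Etale.comp S E (E ⊗[S] E₁)
  let χ₂ : E ⊗[S] E₁ →ₐ[S] W := Algebra.TensorProduct.lift χ χ₁ (fun _ _ => Commute.all _ _)
  obtain ⟨E', _, _, _, ψ, χ', hχ', hψ⟩ := h.exists_eq_zero χ₂
    (fun p : s => (p.1.1 ⊗ₜ[S] (1 : E₁) - ∑ j, a p j • ((1 : E) ⊗ₜ[S] e₁ j))) (by
      intro p
      rw [map_sub, map_sum, sub_eq_zero]
      simp only [χ₂, Algebra.TensorProduct.lift_tmul, map_one, mul_one, map_smul, one_mul, he₁]
      exact hz p)
  refine ⟨E', inferInstance, inferInstance, inferInstance,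
    ψ.comp Algebra.TensorProduct.includeLeft, χ', ?_, ?_⟩
  · rw [← AlgHom.comp_assoc, hχ']
    ext x
    simp [χ₂]
  · rw [← Finset.sum_coe_sort s, map_sum]
    simp only [bc_tmul, AlgHom.comp_apply, Algebra.TensorProduct.includeLeft_apply]
    have h3 : ∀ p : s, ψ (p.1.1 ⊗ₜ[S] (1 : E₁)) = ∑ j, a p j • ψ ((1 : E) ⊗ₜ[S] e₁ j) := by
      intro p
      have := hψ p
      rw [map_sub, sub_eq_zero, map_sum] at this
      rw [this]
      exact Finset.sum_congr rfl fun j _ => by rw [map_smul]
    simp_rw [h3, TensorProduct.sum_tmul, TensorProduct.smul_tmul]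
    rw [Finset.sum_comm]
    refine Finset.sum_eq_zero fun j _ => ?_
    rw [← TensorProduct.tmul_sum, haz j, TensorProduct.tmul_zero]

theorem exists_kill_family {E : Type u} [CommRing E] [Algebra S E] [Algebra.Etale S E]
    (χ : E →ₐ[S] W) {J : Type*} [Finite J] (y : J → E ⊗[S] M) (hy : ∀ j, bc χ M (y j) = 0) :
    ∃ (E' : Type u) (_ : CommRing E') (_ : Algebra S E') (_ : Algebra.Etale S E')
      (ψ : E →ₐ[S] E') (χ' : E' →ₐ[S] W), χ'.comp ψ = χ ∧ ∀ j, bc ψ M (y j) = 0 := by
  classical
  cases nonempty_fintype J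
  have key : ∀ t : Finset J, ∃ (E' : Type u) (_ : CommRing E') (_ : Algebra S E')
      (_ : Algebra.Etale S E') (ψ : E →ₐ[S] E') (χ' : E' →ₐ[S] W),
      χ'.comp ψ = χ ∧ ∀ j ∈ t, bc ψ M (y j) = 0 := by
    intro t
    induction t using Finset.induction_on with
    | empty => exact ⟨E, inferInstance, inferInstance, inferInstance, AlgHom.id S E, χ, by simp,
        by simp⟩
    | insert j t hj ih =>
      obtain ⟨E₁, _, _, _, ψ₁, χ₁, h1, h2⟩ := ih
      obtain ⟨E₂, _, _, _, ψ₂, χ₂, h3, h4⟩ := exists_kill h M χ₁ (bc ψ₁ M (y j)) (by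
        rw [← bc_comp, h1, hy])
      refine ⟨E₂, inferInstance, inferInstance, inferInstance, ψ₂.comp ψ₁, χ₂, ?_, ?_⟩
      · rw [← AlgHom.comp_assoc, h3, h1]
      · intro i hi
        rw [bc_comp]
        rcases Finset.mem_insert.mp hi with rfl | hi
        · exact h4
        · rw [h2 i hi, map_zero]
  obtain ⟨E', _, _, _, ψ, χ', h1, h2⟩ := key Finset.univ
  exact ⟨E', inferInstance, inferInstance, inferInstance, ψ, χ', h1, fun j => h2 j (by simp)⟩

end colim

/-- A finite system of equations in `E ⊗ M`, natural in the `S`-algebra `E`. -/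
structure Sys (S : Type u) [CommRing S] (M : Type v) [AddCommGroup M] [Module S M]
    (N : Type w) [AddCommGroup N] [Module S N] (ι J : Type) where
  /-- the equations -/
  eqn : ∀ (E : Type u) [CommRing E] [Algebra S E], (ι → E ⊗[S] M) → J → E ⊗[S] N
  nat : ∀ (E E' : Type u) [CommRing E] [Algebra S E] [CommRing E'] [Algebra S E']
    (f : E →ₐ[S] E') (x : ι → E ⊗[S] M) (j : J),
    bc f N (eqn E x j) = eqn E' (fun i => bc f M (x i)) j

namespace Sys

variable {M : Type v} [AddCommGroup M] [Module S M] {N : Type w} [AddCommGroup N] [Module S N]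
  {ι J : Type} (F : Sys S M N ι J)

/-- Solvability over `E`. -/
def Solv (E : Type u) [CommRing E] [Algebra S E] : Prop :=
  ∃ x : ι → E ⊗[S] M, ∀ j, F.eqn E x j = 0

variable {F}

theorem Solv.map {E E' : Type u} [CommRing E] [Algebra S E] [CommRing E'] [Algebra S E']
    (f : E →ₐ[S] E') (h : F.Solv E) : F.Solv E' := by
  obtain ⟨x, hx⟩ := h
  exact ⟨fun i => bc f M (x i), fun j => by rw [← F.nat, hx, map_zero]⟩

theorem Solv.pi {κ : Type u} [Finite κ] (E : κ → Type u) [∀ i, CommRing (E i)]
    [∀ i, Algebra S (E i)] (h : ∀ i, F.Solv (E i)) : F.Solv (∀ i, E i) := by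
  choose x hx using h
  choose z hz using fun i => pi_surjective E M (fun k => x k i)
  refine ⟨z, fun j => ?_⟩
  apply pi_injective
  intro k
  rw [F.nat, ← hx k j]
  congr 1
  funext i
  exact hz i k

theorem Solv.exists_etale [Finite ι] [Finite J] {W : Type u} [CommRing W] [Algebra S W]
    (hW : Laz S W) (h : F.Solv W) :
    ∃ (E : Type u) (_ : CommRing E) (_ : Algebra S E) (_ : Algebra.Etale S E) (_ : E →ₐ[S] W),
      F.Solv E := by
  obtain ⟨x, hx⟩ := h
  obtain ⟨E, _, _, _, χ, y, hy⟩ := exists_lift_family hW M x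
  obtain ⟨E', _, _, _, ψ, χ', h1, h2⟩ := exists_kill_family hW N χ (F.eqn E y) (by
    intro j
    rw [F.nat, ← hx j]
    congr 1
    funext i
    exact hy i)
  refine ⟨E', inferInstance, inferInstance, inferInstance, χ', fun i => bc ψ M (y i), fun j => ?_⟩
  rw [← F.nat, h2]

end Sys

/-- Gluing: a property of `S`-algebras which is functorial and compatible with finite products and
holds over etale neighbourhoods of all points holds over an etale cover. -/
theorem exists_etale_cover (P : ∀ (E : Type u) [CommRing E] [Algebra S E], Prop)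
    (hpi : ∀ (κ : Type u) [Finite κ] (E : κ → Type u) [∀ i, CommRing (E i)]
      [∀ i, Algebra S (E i)], (∀ i, P (E i)) → P (∀ i, E i))
    (hloc : ∀ p : PrimeSpectrum S, ∃ (E : Type u) (_ : CommRing E) (_ : Algebra S E)
      (_ : Algebra.Etale S E), P E ∧ p ∈ Set.range (PrimeSpectrum.comap (algebraMap S E))) :
    ∃ (E : Type u) (_ : CommRing E) (_ : Algebra S E) (_ : Algebra.Etale S E)
      (_ : Module.FaithfullyFlat S E), P E := by
  classical
  choose E i1 i2 i3 hP hp using hloc
  have hopen : ∀ p, IsOpen (Set.range (PrimeSpectrum.comap (algebraMap S (E p)))) := by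
    intro p
    have : IsOpenMap (PrimeSpectrum.comap (algebraMap S (E p))) :=
      PrimeSpectrum.isOpenMap_comap_of_hasGoingDown_of_finitePresentation
    exact this.isOpen_range
  obtain ⟨t, ht⟩ := isCompact_univ.elim_finite_subcover
    (fun p : PrimeSpectrum S => Set.range (PrimeSpectrum.comap (algebraMap S (E p)))) hopen
    (fun p _ => Set.mem_iUnion.mpr ⟨p, hp p⟩)
  refine ⟨∀ p : t, E p.1, inferInstance, inferInstance, inferInstance, ?_,
    hpi t (fun p => E p.1) (fun p => hP p.1)⟩
  refine Module.FaithfullyFlat.of_comap_surjective fun q => ?_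
  have hq := ht (Set.mem_univ q)
  simp only [Set.mem_iUnion] at hq
  obtain ⟨p, hpt, r, hr⟩ := hq
  refine ⟨PrimeSpectrum.comap (Pi.evalAlgHom S (fun p : t => E p.1) ⟨p, hpt⟩).toRingHom r, ?_⟩
  rw [← PrimeSpectrum.comap_comp_apply, ← hr]
  rfl

/-- A system which is solvable over the hull at each point is solvable over an etale cover. -/
theorem Sys.exists_cover {M : Type v} [AddCommGroup M] [Module S M] {N : Type w}
    [AddCommGroup N] [Module S N] {ι J : Type} [Finite ι] [Finite J] (F : Sys S M N ι J)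
    (hW : ∀ (p : PrimeSpectrum S) (K W : Type u) [Field K] [IsAlgClosed K] [Algebra S K]
      [CommRing W] [Algebra S W] (π : W →ₐ[S] K), IsHull S W K π →
      RingHom.ker (algebraMap S K) = p.asIdeal → F.Solv W) :
    ∃ (E : Type u) (_ : CommRing E) (_ : Algebra S E) (_ : Algebra.Etale S E)
      (_ : Module.FaithfullyFlat S E), F.Solv E := by
  refine exists_etale_cover (fun E _ _ => F.Solv E)
    (fun κ _ E _ _ h => Sys.Solv.pi E h) fun p => ?_
  let K := AlgebraicClosure p.asIdeal.ResidueField
  let _ : Algebra S K := ((algebraMap p.asIdeal.ResidueField K).comp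
    (algebraMap S p.asIdeal.ResidueField)).toAlgebra
  have hker : RingHom.ker (algebraMap S K) = p.asIdeal := by
    change RingHom.ker ((algebraMap p.asIdeal.ResidueField K).comp
      (algebraMap S p.asIdeal.ResidueField)) = _
    rw [RingHom.ker_comp_of_injective _ (algebraMap p.asIdeal.ResidueField K).injective]
    exact Ideal.ker_algebraMap_residueField p.asIdeal
  obtain ⟨W, _, _, π, h⟩ := exists_isHull S K
  obtain ⟨E, _, _, _, χ, hE⟩ := Sys.Solv.exists_etale (F := F) (fun P _ _ _ φ => h.lazard P φ)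
    (hW p K W π h hker)
  refine ⟨E, inferInstance, inferInstance, inferInstance, hE,
    ⟨RingHom.ker (π.comp χ), RingHom.ker_isPrime _⟩, ?_⟩
  ext x
  change (π.comp χ) (algebraMap S E x) = 0 ↔ _
  rw [AlgHom.commutes, ← RingHom.mem_ker, hker]

end K925.Descent
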