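import Mathlib.RingTheory.Flat.Equalizer
import Mathlib.LinearAlgebra.Dimension.Constructions
import Mathlib.LinearAlgebra.FiniteDimensional.Lemmas
import Mathlib.Order.Interval.Finset.Fin
import Mathlib.Algebra.BigOperators.Intervals
import Mathlib.Algebra.BigOperators.Fin
import Mathlib.Data.Nat.Choose.Basic
import Mathlib.LinearAlgebra.TensorProduct.Tower
import Mathlib.Data.Matrix.Basic
import Mathlib.Tactic.LinearCombination

/-!
# Dimensions of fixed spaces of linear involutions
-/

set_option autoImplicit false

universe u v w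

namespace K925.FixDim

open scoped TensorProduct
open Module

/-- Dimension of the fixed space. -/
noncomputable def dF {K : Type*} [Field K] {V : Type*} [AddCommGroup V] [Module K V]
    (τ : V →ₗ[K] V) : ℕ := finrank K (LinearMap.eqLocus τ LinearMap.id)

variable {K : Type*} [Field K] {V V' : Type*} [AddCommGroup V] [Module K V] [AddCommGroup V']
  [Module K V'] {τ : V →ₗ[K] V} {τ' : V' →ₗ[K] V'}

theorem dF_congr (e : V ≃ₗ[K] V') (h : ∀ x, e (τ x) = τ' (e x)) : dF τ = dF τ' := by
  have h1 : (LinearMap.eqLocus τ LinearMap.id).map (e : V →ₗ[K] V') =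
      LinearMap.eqLocus τ' LinearMap.id := by
    ext y
    rw [Submodule.mem_map]
    constructor
    · rintro ⟨x, hx, rfl⟩
      change τ' (e x) = e x
      rw [← h]
      exact congrArg e hx
    · intro hy
      refine ⟨e.symm y, ?_, e.apply_symm_apply y⟩
      change τ (e.symm y) = e.symm y
      apply e.injective
      rw [h, e.apply_symm_apply]
      exact hy
  exact (e.submoduleMap _).finrank_eq.trans (by rw [dF, ← h1])

theorem dF_of_surjective [Module.Finite K V] [Module.Finite K V'] (g : V →ₗ[K] V')
    (hg : Function.Surjective g) (hr : finrank K V = finrank K V') (h : ∀ x, g (τ x) = τ' (g x)) :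
    dF τ = dF τ' := by
  have hinj : Function.Injective g :=
    (LinearMap.injective_iff_surjective_of_finrank_eq_finrank hr).mpr hg
  exact dF_congr (LinearEquiv.ofBijective g ⟨hinj, hg⟩) h

theorem dF_baseChange (K' : Type*) [Field K'] [Algebra K K'] (τ : V →ₗ[K] V) :
    dF (τ.baseChange K') = dF τ := by
  have e := LinearMap.tensorEqLocusEquiv K' K' τ LinearMap.id
  have h1 := e.finrank_eq
  rw [finrank_baseChange] at h1
  have h2 : LinearMap.eqLocus (τ.baseChange K') LinearMap.id =
      LinearMap.eqLocus (TensorProduct.AlgebraTensorModule.lTensor K' K' τ)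
        (TensorProduct.AlgebraTensorModule.lTensor K' K' LinearMap.id) := by
    ext x
    have h3 : TensorProduct.AlgebraTensorModule.lTensor K' K' (LinearMap.id : V →ₗ[K] V) x = x :=
      LinearMap.lTensor_id_apply K' V x
    rw [LinearMap.mem_eqLocus, LinearMap.mem_eqLocus, h3]
    rfl
  rw [dF, h2, ← h1]
  rfl

theorem card_lt (m : ℕ) :
    Fintype.card {p : Fin m × Fin m // p.1 < p.2} = m.choose 2 := by
  let e : {p : Fin m × Fin m // p.1 < p.2} ≃ Σ j : Fin m, {i : Fin m // i < j} :=
    { toFun := fun p => ⟨p.1.2, ⟨p.1.1, p.2⟩⟩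
      invFun := fun q => ⟨(q.2.1, q.1), q.2.2⟩
      left_inv := fun p => rfl
      right_inv := fun q => rfl }
  rw [Fintype.card_congr e, Fintype.card_sigma]
  have h : ∀ j : Fin m, Fintype.card {i : Fin m // i < j} = (j : ℕ) := by
    intro j
    rw [Fintype.card_subtype]
    have : (Finset.univ.filter fun i : Fin m => i < j) = Finset.Iio j := by
      ext i; simp
    rw [this, Fin.card_Iio]
  rw [Finset.sum_congr rfl fun j _ => h j, Fin.sum_univ_eq_sum_range (fun i => i) m,
    Finset.sum_range_id, Nat.choose_two_right]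

/-- The involution `(M i j) ↦ (τ (M j i))` on matrices. -/
def matTau (m : ℕ) (τ : V →ₗ[K] V) : Matrix (Fin m) (Fin m) V →ₗ[K] Matrix (Fin m) (Fin m) V where
  toFun M := Matrix.of fun i j => τ (M j i)
  map_add' M N := by ext i j; simp
  map_smul' c M := by ext i j; simp

@[simp] theorem matTau_apply (m : ℕ) (τ : V →ₗ[K] V) (M : Matrix (Fin m) (Fin m) V)
    (i j : Fin m) : matTau m τ M i j = τ (M j i) := rfl

theorem dF_matTau [Module.Finite K V] (m : ℕ) (τ : V →ₗ[K] V) (hτ : ∀ x, τ (τ x) = x) :
    dF (matTau m τ) = m * dF τ + m.choose 2 * finrank K V := by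
  classical
  let F := LinearMap.eqLocus τ (LinearMap.id : V →ₗ[K] V)
  let e : LinearMap.eqLocus (matTau m τ) LinearMap.id ≃ₗ[K]
      ((Fin m → F) × ({p : Fin m × Fin m // p.1 < p.2} → V)) :=
    { toFun := fun M => (fun i => ⟨M.1 i i, congrFun (congrFun M.2 i) i⟩,
        fun p => M.1 p.1.1 p.1.2)
      map_add' := fun M N => rfl
      map_smul' := fun c M => rfl
      invFun := fun q => ⟨Matrix.of fun i j => if h : i < j then q.2 ⟨(i, j), h⟩ else
          if h' : j < i then τ (q.2 ⟨(j, i), h'⟩) else q.1 i, by
        ext i j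
        change τ (if h : j < i then q.2 ⟨(j, i), h⟩ else
          if h' : i < j then τ (q.2 ⟨(i, j), h'⟩) else q.1 j) =
          (if h : i < j then q.2 ⟨(i, j), h⟩ else
          if h' : j < i then τ (q.2 ⟨(j, i), h'⟩) else q.1 i)
        rcases lt_trichotomy i j with h | h | h
        · rw [dif_neg (lt_asymm h), dif_pos h, dif_pos h, hτ]
        · subst h
          rw [dif_neg (lt_irrefl i), dif_neg (lt_irrefl i)]
          exact (q.1 i).2
        · rw [dif_pos h, dif_neg (lt_asymm h), dif_pos h]⟩
      left_inv := fun M => by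
        apply Subtype.ext
        ext i j
        change (if h : i < j then M.1 i j else
          if h' : j < i then τ (M.1 j i) else M.1 i i) = M.1 i j
        rcases lt_trichotomy i j with h | h | h
        · rw [dif_pos h]
        · subst h
          rw [dif_neg (lt_irrefl i), dif_neg (lt_irrefl i)]
        · rw [dif_neg (lt_asymm h), dif_pos h]
          exact congrFun (congrFun M.2 i) j
      right_inv := fun q => by
        refine Prod.ext ?_ ?_
        · funext i
          apply Subtype.ext
          change (if h : i < i then q.2 ⟨(i, i), h⟩ else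
            if h' : i < i then τ (q.2 ⟨(i, i), h'⟩) else (q.1 i : V)) = q.1 i
          rw [dif_neg (lt_irrefl i), dif_neg (lt_irrefl i)]
        · funext p
          change (if h : p.1.1 < p.1.2 then q.2 ⟨(p.1.1, p.1.2), h⟩ else
            if h' : p.1.2 < p.1.1 then τ (q.2 ⟨(p.1.2, p.1.1), h'⟩) else (q.1 p.1.1 : V)) = q.2 p
          rw [dif_pos p.2] }
  have h1 := e.finrank_eq
  rw [Module.finrank_prod, Module.finrank_pi_fintype, Module.finrank_pi_fintype,
    Finset.sum_const, Finset.sum_const, Finset.card_univ, Finset.card_univ, Fintype.card_fin,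
    card_lt, smul_eq_mul, smul_eq_mul] at h1
  exact h1

/-- Symmetric matrices. -/
theorem dF_matTau_id (m : ℕ) :
    dF (matTau m (LinearMap.id : K →ₗ[K] K)) = (m + 1).choose 2 := by
  rw [dF_matTau m _ (fun x => rfl), finrank_self, mul_one]
  have : dF (LinearMap.id : K →ₗ[K] K) = 1 := by
    have h1 : LinearMap.eqLocus (LinearMap.id : K →ₗ[K] K) LinearMap.id = ⊤ := by
      ext x; simp
    rw [dF, h1, finrank_top, finrank_self]
  rw [this, mul_one, Nat.choose_succ_succ' m 1, Nat.choose_one_right]

/-- Skew-symmetric matrices. -/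
theorem dF_matTau_neg (h2 : (2 : K) ≠ 0) (m : ℕ) :
    dF (matTau m (-LinearMap.id : K →ₗ[K] K)) = m.choose 2 := by
  rw [dF_matTau m _ (fun x => by simp), finrank_self, mul_one]
  have : dF (-LinearMap.id : K →ₗ[K] K) = 0 := by
    have h1 : LinearMap.eqLocus (-LinearMap.id : K →ₗ[K] K) LinearMap.id = ⊥ := by
      ext x
      rw [Submodule.mem_bot]
      constructor
      · intro hx
        have hx' : -x = x := hx
        have : 2 * x = 0 := by linear_combination -hx'
        exact (mul_eq_zero.mp this).resolve_left h2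
      · rintro rfl
        exact Submodule.zero_mem _
    rw [dF, h1, finrank_bot]
  rw [this, mul_zero, zero_add]

theorem choose_ne {m : ℕ} (hm : 0 < m) : m.choose 2 ≠ (m + 1).choose 2 := by
  have := Nat.choose_succ_succ' m 1
  rw [Nat.choose_one_right] at this
  change (m + 1).choose 2 = m + m.choose 2 at this
  omega

end K925.FixDim
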