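import Mathlib.LinearAlgebra.Matrix.NonsingularInverse
import Mathlib.LinearAlgebra.Matrix.ConjTranspose
import Mathlib.LinearAlgebra.Matrix.Determinant.Basic
import Mathlib.Data.Matrix.Block
import Mathlib.RingTheory.LocalRing.ResidueField.Basic
import Mathlib.RingTheory.MvPolynomial.Basic
import Mathlib.Algebra.MvPolynomial.CommRing

/-!
# Hermitian and skew-hermitian forms over local rings with involution

`Cong h h'`: the forms with Gram matrices `h` and `h'` (possibly with different index types) are
isometric.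
-/

set_option autoImplicit false

universe u v w

namespace K925.Forms

open Matrix

section cong

variable {T : Type*} [CommRing T] [StarRing T]
variable {m m' n n' k : Type*} [Fintype m] [DecidableEq m] [Fintype m'] [DecidableEq m']
  [Fintype n] [DecidableEq n] [Fintype n'] [DecidableEq n'] [Fintype k] [DecidableEq k]

/-- Isometry of forms. -/
def Cong (h : Matrix m m T) (h' : Matrix n n T) : Prop :=
  ∃ (v : Matrix n m T) (w : Matrix m n T), v * w = 1 ∧ w * v = 1 ∧ v * h * vᴴ = h'

theorem Cong.refl (h : Matrix m m T) : Cong h h :=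
  ⟨1, 1, by simp, by simp, by simp⟩

theorem Cong.symm {h : Matrix m m T} {h' : Matrix n n T} (H : Cong h h') : Cong h' h := by
  obtain ⟨v, w, h1, h2, h3⟩ := H
  refine ⟨w, v, h2, h1, ?_⟩
  rw [← h3]
  calc w * (v * h * vᴴ) * wᴴ = (w * v) * h * (w * v)ᴴ := by
        rw [conjTranspose_mul]; simp only [Matrix.mul_assoc]
    _ = h := by rw [h2]; simp

theorem Cong.trans {h : Matrix m m T} {h' : Matrix n n T} {h'' : Matrix k k T}
    (H : Cong h h') (H' : Cong h' h'') : Cong h h'' := by
  obtain ⟨v, w, h1, h2, h3⟩ := H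
  obtain ⟨v', w', h1', h2', h3'⟩ := H'
  refine ⟨v' * v, w * w', ?_, ?_, ?_⟩
  · calc v' * v * (w * w') = v' * (v * w) * w' := by simp only [Matrix.mul_assoc]
      _ = 1 := by rw [h1, Matrix.mul_one, h1']
  · calc w * w' * (v' * v) = w * (w' * v') * v := by simp only [Matrix.mul_assoc]
      _ = 1 := by rw [h2', Matrix.mul_one, h2]
  · rw [← h3', ← h3, conjTranspose_mul]
    simp only [Matrix.mul_assoc]

theorem Cong.of_reindex (h : Matrix m m T) (e : m ≃ n) : Cong h (h.submatrix e.symm e.symm) := by
  refine ⟨(1 : Matrix m m T).submatrix e.symm id, (1 : Matrix m m T).submatrix id e.symm, ?_, ?_,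
    ?_⟩
  · have := submatrix_mul_equiv (1 : Matrix m m T) (1 : Matrix m m T) e.symm (Equiv.refl m) e.symm
    rw [Equiv.coe_refl] at this
    rw [this]
    simp
  · have := submatrix_mul_equiv (1 : Matrix m m T) (1 : Matrix m m T) id e.symm id
    rw [this]
    simp
  · have h1 : (1 : Matrix m m T).submatrix e.symm id * h = h.submatrix e.symm id := by
      have := submatrix_mul_equiv (1 : Matrix m m T) h e.symm (Equiv.refl m) id
      simpa using this
    rw [h1, conjTranspose_submatrix, conjTranspose_one]
    have := submatrix_mul_equiv h (1 : Matrix m m T) e.symm (Equiv.refl m) e.symm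
    simpa using this

theorem Cong.fromBlocks {h : Matrix m m T} {h' : Matrix m' m' T} {g : Matrix n n T}
    {g' : Matrix n' n' T} (H : Cong h h') (G : Cong g g') :
    Cong (Matrix.fromBlocks h 0 0 g) (Matrix.fromBlocks h' 0 0 g') := by
  obtain ⟨v, w, h1, h2, h3⟩ := H
  obtain ⟨v', w', h1', h2', h3'⟩ := G
  refine ⟨Matrix.fromBlocks v 0 0 v', Matrix.fromBlocks w 0 0 w', ?_, ?_, ?_⟩
  · rw [fromBlocks_multiply]; simp [h1, h1']
  · rw [fromBlocks_multiply]; simp [h2, h2']
  · rw [fromBlocks_conjTranspose, fromBlocks_multiply, fromBlocks_multiply]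
    simp [h3, h3']

theorem Cong.herm {h : Matrix m m T} {h' : Matrix n n T} (H : Cong h h') {e : T}
    (he : hᴴ = e • h) : h'ᴴ = e • h' := by
  obtain ⟨v, w, h1, h2, h3⟩ := H
  rw [← h3, conjTranspose_mul, conjTranspose_mul, conjTranspose_conjTranspose, he,
    Matrix.mul_assoc, Matrix.smul_mul, Matrix.mul_smul]

theorem Cong.isUnit {h : Matrix m m T} {h' : Matrix n n T} (H : Cong h h') (hu : IsUnit h) :
    IsUnit h' := by
  obtain ⟨v, w, h1, h2, h3⟩ := H
  obtain ⟨g, hg⟩ := hu.exists_right_inv
  have h4 : vᴴ * wᴴ = 1 := by rw [← conjTranspose_mul, h2, conjTranspose_one]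
  have key : h' * (wᴴ * g * w) = 1 := by
    rw [← h3]
    calc v * h * vᴴ * (wᴴ * g * w) = v * h * (vᴴ * wᴴ) * (g * w) := by
          simp only [Matrix.mul_assoc]
      _ = v * (h * g) * w := by
          rw [h4, Matrix.mul_one]; simp only [Matrix.mul_assoc]
      _ = 1 := by rw [hg, Matrix.mul_one, h1]
  exact IsUnit.of_mul_eq_one _ key

/-- Congruence by an invertible square matrix. -/
theorem Cong.of_isUnit (h : Matrix m m T) {v : Matrix m m T} (hv : IsUnit v) :
    Cong h (v * h * vᴴ) := by
  obtain ⟨u, rfl⟩ := hv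
  exact ⟨↑u, ↑u⁻¹, Units.mul_inv u, Units.inv_mul u, rfl⟩

/-- Splitting off a unimodular block. -/
theorem Cong.schur {A : Matrix m m T} {B : Matrix m n T} {C : Matrix n m T} {D : Matrix n n T}
    {e : T} (he : (Matrix.fromBlocks A B C D)ᴴ = e • Matrix.fromBlocks A B C D)
    {A' : Matrix m m T} (h1 : A * A' = 1) (h2 : A' * A = 1) :
    Cong (Matrix.fromBlocks A B C D) (Matrix.fromBlocks A 0 0 (D - C * A' * B)) := by
  rw [fromBlocks_conjTranspose, fromBlocks_smul, fromBlocks_inj] at he
  obtain ⟨hA, hC, hB, hD⟩ := he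
  refine ⟨Matrix.fromBlocks 1 0 (-(C * A')) 1, Matrix.fromBlocks 1 0 (C * A') 1, ?_, ?_, ?_⟩
  · rw [fromBlocks_multiply]; simp
  · rw [fromBlocks_multiply]; simp
  · have h3 : Matrix.fromBlocks 1 0 (-(C * A')) 1 * Matrix.fromBlocks A B C D =
        Matrix.fromBlocks A B 0 (D - C * A' * B) := by
      rw [fromBlocks_multiply]
      simp only [Matrix.one_mul, Matrix.zero_mul, add_zero, Matrix.neg_mul]
      rw [Matrix.mul_assoc C A' A, h2, Matrix.mul_one, neg_add_cancel, neg_add_eq_sub]
    rw [h3, fromBlocks_conjTranspose, fromBlocks_multiply]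
    simp only [conjTranspose_one, conjTranspose_zero, Matrix.mul_one, Matrix.mul_zero, add_zero,
      Matrix.zero_mul, zero_add]
    have h4 : A * (-(C * A'))ᴴ = -B := by
      have h5 : Aᴴ * A'ᴴ = 1 := by rw [← conjTranspose_mul, h2, conjTranspose_one]
      rw [hA] at h5
      rw [conjTranspose_neg, conjTranspose_mul, hC, Matrix.mul_neg]
      congr 1
      calc A * (A'ᴴ * e • B) = (e • A * A'ᴴ) * B := by
            rw [Matrix.mul_smul, Matrix.mul_smul, Matrix.smul_mul, Matrix.smul_mul,
              Matrix.mul_assoc]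
        _ = B := by rw [h5, Matrix.one_mul]
    rw [h4, neg_add_cancel]

end cong

section alt

/-- The determinant of an alternating matrix of odd size vanishes. -/
theorem det_eq_zero_of_alt {K : Type*} [CommRing K] {n : ℕ} (hn : Odd n)
    (A : Matrix (Fin n) (Fin n) K) (h0 : ∀ i, A i i = 0) (h1 : ∀ i j, A i j = -A j i) :
    A.det = 0 := by
  let P := MvPolynomial (Fin n × Fin n) ℤ
  let U : Matrix (Fin n) (Fin n) P := Matrix.of fun i j =>
    if i < j then MvPolynomial.X (i, j) else if j < i then -MvPolynomial.X (j, i) else 0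
  have hU : Uᵀ = -U := by
    ext1 i j
    rw [transpose_apply, neg_apply]
    change (if j < i then _ else if i < j then _ else _) =
      -(if i < j then _ else if j < i then _ else _)
    rcases lt_trichotomy i j with h | h | h
    · rw [if_neg (lt_asymm h), if_pos h, if_pos h]
    · subst h; simp
    · rw [if_pos h, if_neg (lt_asymm h), if_pos h, neg_neg]
  have hdet : U.det = 0 := by
    have h2 : U.det = -U.det := by
      conv_lhs => rw [← det_transpose, hU, det_neg, Fintype.card_fin, hn.neg_one_pow, neg_one_mul]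
    have h3 : (2 : P) * U.det = 0 := by
      rw [two_mul]
      nth_rewrite 1 [h2]
      exact neg_add_cancel _
    rcases mul_eq_zero.mp h3 with h4 | h4
    · exfalso
      have := (CharZero.cast_injective (R := P)).ne (show (2 : ℕ) ≠ 0 by norm_num)
      exact this (by simp at h4)
    · exact h4
  let ev : P →+* K := MvPolynomial.eval₂Hom (Int.castRingHom K) (fun p => A p.1 p.2)
  have hevX : ∀ p, ev (MvPolynomial.X p) = A p.1 p.2 := fun p => by
    change MvPolynomial.eval₂Hom _ _ _ = _
    rw [MvPolynomial.coe_eval₂Hom, MvPolynomial.eval₂_X]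
  have hA : A = ev.mapMatrix U := by
    ext i j
    rw [RingHom.mapMatrix_apply, map_apply]
    change _ = ev (if i < j then _ else if j < i then _ else _)
    rcases lt_trichotomy i j with h | h | h
    · rw [if_pos h, hevX]
    · subst h; simp [h0]
    · rw [if_neg (lt_asymm h), if_pos h, map_neg, hevX]
      exact h1 i j
  rw [hA, ← RingHom.map_det, hdet, map_zero]

end alt

end K925.Forms
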