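import Groth.Agent.AzInv.K925.Forms
import Mathlib.LinearAlgebra.Matrix.Notation
import Mathlib.Data.Matrix.Basis

/-!
# Classification of hermitian and skew-hermitian forms over local rings with involution
(the involution being the identity modulo the maximal ideal and all fixed units being squares)
-/

set_option autoImplicit false

universe u v w

namespace K925.Forms2

open Matrix K925.Forms

variable {T : Type*} [CommRing T] [StarRing T] [IsLocalRing T]

theorem exists_isUnit_entry {m : Type*} [Fintype m] [DecidableEq m] {h : Matrix m m T}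
    (hu : IsUnit h) (i : m) : ∃ j, IsUnit (h i j) := by
  obtain ⟨g, hg⟩ := hu.exists_right_inv
  by_contra hcon
  push Not at hcon
  have h1 : (1 : T) = ∑ j, h i j * g j i := by
    rw [← Matrix.mul_apply, hg, one_apply_eq]
  have h2 : (1 : T) ∈ IsLocalRing.maximalIdeal T := by
    rw [h1]
    exact Submodule.sum_mem _ fun j _ => Ideal.mul_mem_right _ _
      ((IsLocalRing.mem_maximalIdeal _).mpr (hcon j))
  exact (IsLocalRing.mem_maximalIdeal _).mp h2 isUnit_one

theorem isUnit_of_fromBlocks {m n : Type*} [Fintype m] [DecidableEq m] [Fintype n]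
    [DecidableEq n] {A : Matrix m m T} {D : Matrix n n T}
    (h : IsUnit (Matrix.fromBlocks A 0 0 D)) : IsUnit D := by
  obtain ⟨g, hg⟩ := h.exists_right_inv
  rw [← fromBlocks_toBlocks g, fromBlocks_multiply, ← fromBlocks_one, fromBlocks_inj] at hg
  have h4 := hg.2.2.2
  simp only [Matrix.zero_mul, zero_add] at h4
  exact IsUnit.of_mul_eq_one _ h4

/-- A form takes a unit value. -/
def NA {m : Type*} [Fintype m] (h : Matrix m m T) : Prop :=
  ∃ X : Matrix Unit m T, IsUnit ((X * h * Xᴴ) () ())

theorem NA.cong {m n : Type*} [Fintype m] [DecidableEq m] [Fintype n] [DecidableEq n]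
    {h : Matrix m m T} {h' : Matrix n n T} (H : NA h) (hc : Cong h h') : NA h' := by
  obtain ⟨X, hX⟩ := H
  obtain ⟨v, w, h1, h2, h3⟩ := hc
  refine ⟨X * w, ?_⟩
  have : X * w * h' * (X * w)ᴴ = X * h * Xᴴ := by
    rw [← h3]
    calc X * w * (v * h * vᴴ) * (X * w)ᴴ = X * (w * v) * h * (w * v)ᴴ * Xᴴ := by
          rw [conjTranspose_mul, conjTranspose_mul]; simp only [Matrix.mul_assoc]
      _ = X * h * Xᴴ := by rw [h2]; simp
  rwa [this]

/-- 1 × 1 matrices over a local ring with unit entry are invertible. -/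
theorem unit_matrix_inv {a : Matrix Unit Unit T} (ha : IsUnit (a () ())) :
    ∃ a' : Matrix Unit Unit T, a * a' = 1 ∧ a' * a = 1 := by
  obtain ⟨u, hu⟩ := ha
  refine ⟨fun _ _ => ↑u⁻¹, ?_, ?_⟩
  · ext i j; simp [Matrix.mul_apply, ← hu]
  · ext i j; simp [Matrix.mul_apply, ← hu]

/-- Splitting off a vector of unit value. -/
theorem split_vec {m : Type} [Fintype m] [DecidableEq m] {h : Matrix m m T} {e : T}
    (he : hᴴ = e • h) (X : Matrix Unit m T) (hX : IsUnit ((X * h * Xᴴ) () ())) :
    ∃ (m' : Type) (_ : Fintype m') (_ : DecidableEq m') (D : Matrix m' m' T),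
      Fintype.card m = Fintype.card m' + 1 ∧ Cong h (Matrix.fromBlocks (X * h * Xᴴ) 0 0 D) := by
  obtain ⟨i0, hi0⟩ : ∃ i0, IsUnit (X () i0) := by
    by_contra hcon
    push Not at hcon
    have h2 : (X * h * Xᴴ) () () ∈ IsLocalRing.maximalIdeal T := by
      rw [Matrix.mul_apply]
      refine Submodule.sum_mem _ fun j _ => Ideal.mul_mem_right _ _ ?_
      rw [Matrix.mul_apply]
      exact Submodule.sum_mem _ fun i _ => Ideal.mul_mem_right _ _
        ((IsLocalRing.mem_maximalIdeal _).mpr (hcon i))
    exact (IsLocalRing.mem_maximalIdeal _).mp h2 hX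
  let m' := {k : m // k ≠ i0}
  let f : Unit ⊕ m' → m := Sum.elim (fun _ => i0) Subtype.val
  have hf : Function.Bijective f := by
    constructor
    · rintro (a | a) (b | b) hab
      · rfl
      · exact absurd hab.symm b.2
      · exact absurd hab a.2
      · exact congrArg Sum.inr (Subtype.ext hab)
    · intro k
      by_cases hk : k = i0
      · exact ⟨Sum.inl (), hk.symm⟩
      · exact ⟨Sum.inr ⟨k, hk⟩, rfl⟩
  let eq : Unit ⊕ m' ≃ m := Equiv.ofBijective f hf
  have c1 : Cong h (h.submatrix eq eq) := by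
    have := Cong.of_reindex h eq.symm
    rwa [Equiv.symm_symm] at this
  set h1 := h.submatrix eq eq with hh1
  let x0 : Matrix Unit Unit T := fun _ _ => X () i0
  let Y : Matrix Unit m' T := fun _ k => X () k
  obtain ⟨x1, hx1, hx1'⟩ := unit_matrix_inv (a := x0) hi0
  let v : Matrix (Unit ⊕ m') (Unit ⊕ m') T := Matrix.fromBlocks x0 Y 0 1
  have hv : IsUnit v := by
    refine IsUnit.of_mul_eq_one (Matrix.fromBlocks x1 (-(x1 * Y)) 0 1) ?_
    rw [fromBlocks_multiply]
    simp only [Matrix.mul_zero, add_zero, Matrix.mul_neg, ← Matrix.mul_assoc, hx1,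
      Matrix.one_mul, Matrix.mul_one, neg_add_cancel, Matrix.zero_mul, zero_add, neg_zero]
    exact fromBlocks_one
  have c2 : Cong h1 (v * h1 * vᴴ) := Cong.of_isUnit h1 hv
  set h2 := v * h1 * vᴴ with hh2
  have he2 : h2ᴴ = e • h2 := (c1.trans c2).herm he
  have h11 : h2.toBlocks₁₁ = X * h * Xᴴ := by
    ext i j
    change (v * h1 * vᴴ) (Sum.inl i) (Sum.inl j) = (X * h * Xᴴ) i j
    have e1 : ∀ l, v (Sum.inl i) l = X () (eq l) := by
      rintro (l | l) <;> rfl
    have e2 : ∀ l, v (Sum.inl j) l = X () (eq l) := by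
      rintro (l | l) <;> rfl
    simp only [Matrix.mul_apply, conjTranspose_apply, hh1, submatrix_apply, e1, e2]
    rw [← Equiv.sum_comp eq]
    refine Finset.sum_congr rfl fun l _ => ?_
    rw [← Equiv.sum_comp eq]
  rw [← fromBlocks_toBlocks h2] at he2 c2
  obtain ⟨a', ha', ha''⟩ := unit_matrix_inv (a := h2.toBlocks₁₁) (by rw [h11]; exact hX)
  have c3 := Cong.schur he2 ha' ha''
  have c4 := c1.trans (c2.trans c3)
  rw [h11] at c4
  exact ⟨m', inferInstance, inferInstance,
    (h2.toBlocks₂₂ - h2.toBlocks₂₁ * a' * h2.toBlocks₁₂), by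
      rw [← Fintype.card_congr eq, Fintype.card_sum, Fintype.card_unit, add_comm], c4⟩

section herm

/-- Splitting off a vector of unit value with a good complement. -/
theorem split_NA {m : Type} [Fintype m] [DecidableEq m] {h : Matrix m m T}
    (he : hᴴ = h) (hu : IsUnit h) (hna : NA h) :
    ∃ (m' : Type) (_ : Fintype m') (_ : DecidableEq m') (a : Matrix Unit Unit T)
      (D : Matrix m' m' T),
      Fintype.card m = Fintype.card m' + 1 ∧ IsUnit (a () ()) ∧
        (Fintype.card m' = 0 ∨ NA D) ∧ Cong h (Matrix.fromBlocks a 0 0 D) := by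
  have he1 : hᴴ = (1 : T) • h := by rw [one_smul, he]
  obtain ⟨X, hX⟩ := hna
  obtain ⟨m', _, _, D, hcard, hc⟩ := split_vec he1 X hX
  by_cases hD : Fintype.card m' = 0 ∨ NA D
  · exact ⟨m', inferInstance, inferInstance, _, D, hcard, hX, hD, hc⟩
  push Not at hD
  obtain ⟨hm', hDna⟩ := hD
  have hne : Nonempty m' := Fintype.card_pos_iff.mp (Nat.pos_of_ne_zero hm')
  obtain ⟨i1⟩ := hne
  have hDu : IsUnit D := isUnit_of_fromBlocks (hc.isUnit hu)
  have hherm : (Matrix.fromBlocks (X * h * Xᴴ) 0 0 D)ᴴ =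
      (1 : T) • Matrix.fromBlocks (X * h * Xᴴ) 0 0 D := hc.herm he1
  have hDherm : Dᴴ = D := by
    rw [one_smul, fromBlocks_conjTranspose, fromBlocks_inj] at hherm
    exact hherm.2.2.2
  obtain ⟨j1, hj1⟩ := exists_isUnit_entry hDu i1
  set A := X * h * Xᴴ with hA
  let Y : Matrix Unit m' T := Matrix.single () i1 1
  let Z : Matrix Unit m' T := Matrix.single () j1 1
  have hval : ∀ (k l : m') (M : Matrix m' m' T),
      ((Matrix.single () k 1 : Matrix Unit m' T) * M * (Matrix.single () l 1 : Matrix Unit m' T)ᴴ)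
        () () = M k l := by
    intro k l M
    rw [conjTranspose_single, star_one]
    simp
  have hnon : ∀ k, ¬ IsUnit (D k k) := by
    intro k hk
    exact hDna ⟨Matrix.single () k 1, by rw [hval]; exact hk⟩
  let v : Matrix (Unit ⊕ m') (Unit ⊕ m') T := Matrix.fromBlocks 1 Y 0 1
  have hv : IsUnit v := by
    refine IsUnit.of_mul_eq_one (Matrix.fromBlocks 1 (-Y) 0 1) ?_
    rw [fromBlocks_multiply]
    simp
  have c2 := Cong.of_isUnit (Matrix.fromBlocks A 0 0 D) hv
  have hcomp : v * Matrix.fromBlocks A 0 0 D * vᴴ =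
      Matrix.fromBlocks (A + Y * D * Yᴴ) (Y * D) (D * Yᴴ) D := by
    rw [fromBlocks_conjTranspose, fromBlocks_multiply, fromBlocks_multiply]
    simp
  rw [hcomp] at c2
  have hAu : IsUnit ((A + Y * D * Yᴴ) () ()) := by
    rw [Matrix.add_apply, hval]
    by_contra hcon
    have h1 : A () () + D i1 i1 - D i1 i1 ∈ IsLocalRing.maximalIdeal T :=
      Ideal.sub_mem _ ((IsLocalRing.mem_maximalIdeal _).mpr hcon)
        ((IsLocalRing.mem_maximalIdeal _).mpr (hnon i1))
    rw [add_sub_cancel_right] at h1
    exact (IsLocalRing.mem_maximalIdeal _).mp h1 hX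
  obtain ⟨a', ha', ha''⟩ := unit_matrix_inv hAu
  have c3 := Cong.schur ((hc.trans c2).herm he1) ha' ha''
  refine ⟨m', inferInstance, inferInstance, _, _, hcard, hAu, Or.inr ?_, hc.trans (c2.trans c3)⟩
  refine ⟨Z, ?_⟩
  have h2 : (Z * (D - D * Yᴴ * a' * (Y * D)) * Zᴴ) () () =
      D j1 j1 - D j1 i1 * a' () () * D i1 j1 := by
    have h3 : Z * (D - D * Yᴴ * a' * (Y * D)) * Zᴴ =
        Z * D * Zᴴ - (Z * D * Yᴴ) * a' * (Y * D * Zᴴ) := by
      rw [Matrix.mul_sub, Matrix.sub_mul]
      simp only [Matrix.mul_assoc]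
    have h4 : ∀ P Q : Matrix Unit Unit T, (P * a' * Q) () () = P () () * a' () () * Q () () := by
      intro P Q
      rw [Matrix.mul_apply, Fintype.sum_unique, Matrix.mul_apply, Fintype.sum_unique]
    rw [h3, Matrix.sub_apply, h4, hval, hval, hval]
  rw [h2]
  by_contra hcon
  have h4 : IsUnit (D j1 i1) := by
    have : D j1 i1 = star (D i1 j1) := by
      conv_lhs => rw [← hDherm]
      rfl
    rw [this]
    exact hj1.star
  have h5 : IsUnit (a' () ()) := by
    have : (A + Y * D * Yᴴ) () () * a' () () = 1 := by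
      have := congrFun (congrFun ha' ()) ()
      rw [Matrix.mul_apply, Fintype.sum_unique] at this
      exact this
    exact IsUnit.of_mul_eq_one_right _ this
  have h6 : D j1 j1 - (D j1 j1 - D j1 i1 * a' () () * D i1 j1) ∈ IsLocalRing.maximalIdeal T :=
    Ideal.sub_mem _ ((IsLocalRing.mem_maximalIdeal _).mpr (hnon j1))
      ((IsLocalRing.mem_maximalIdeal _).mpr hcon)
  rw [sub_sub_cancel] at h6
  exact (IsLocalRing.mem_maximalIdeal _).mp h6 ((h4.mul h5).mul hj1)

/-- Hermitian forms with a unit value are standard. -/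
theorem herm_cong_one
    (hsq : ∀ c : T, IsUnit c → star c = c → ∃ s, star s = s ∧ s * s = c) (N : ℕ) :
    ∀ {m : Type} [Fintype m] [DecidableEq m] (h : Matrix m m T), Fintype.card m = N →
      IsUnit h → hᴴ = h → (N = 0 ∨ NA h) → Cong h (1 : Matrix m m T) := by
  induction N with
  | zero =>
    intro m _ _ h hm _ _ _
    have : IsEmpty m := Fintype.card_eq_zero_iff.mp hm
    rw [Subsingleton.elim h 1]
    exact Cong.refl _
  | succ N ih =>
    intro m _ _ h hm hu he hna
    rcases hna with hna | hna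
    · exact absurd hna (Nat.succ_ne_zero N)
    obtain ⟨m', _, _, a, D, hcard, ha, hD, hc⟩ := split_NA he hu hna
    have he1 : hᴴ = (1 : T) • h := by rw [one_smul, he]
    have hherm := hc.herm he1
    rw [one_smul, fromBlocks_conjTranspose, fromBlocks_inj] at hherm
    have hDu : IsUnit D := isUnit_of_fromBlocks (hc.isUnit hu)
    have hm' : Fintype.card m' = N := by omega
    have c1 : Cong D (1 : Matrix m' m' T) := ih D hm' hDu hherm.2.2.2 (by
      rcases hD with hD | hD
      · left; omega
      · right; exact hD)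
    have hstar : star (a () ()) = a () () := congrFun (congrFun hherm.1 ()) ()
    obtain ⟨s, hs, hss⟩ := hsq _ ha hstar
    have hsu : IsUnit s := by
      apply isUnit_of_mul_isUnit_left (y := s)
      rw [hss]; exact ha
    obtain ⟨t, ht⟩ := hsu.exists_right_inv
    have ht' : star t * s = 1 := by
      have := congrArg star ht
      rwa [star_mul', star_one, hs, mul_comm] at this
    have c2 : Cong a (1 : Matrix Unit Unit T) := by
      refine ⟨fun _ _ => t, fun _ _ => s, ?_, ?_, ?_⟩
      · ext i j; simp [Matrix.mul_apply, mul_comm t s, ht]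
      · ext i j; simp [Matrix.mul_apply, ht]
      · ext i j
        simp only [Matrix.mul_apply, Fintype.sum_unique, conjTranspose_apply]
        change t * a () () * star t = 1
        rw [← hss]
        calc t * (s * s) * star t = (s * t) * (star t * s) := by ring
          _ = 1 := by rw [ht, ht', mul_one]
    have c3 := hc.trans (Cong.fromBlocks c2 c1)
    rw [fromBlocks_one] at c3
    have e0 : Unit ⊕ m' ≃ m := Fintype.equivOfCardEq (by
      rw [Fintype.card_sum, Fintype.card_unit, hcard, add_comm])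
    have c4 := Cong.of_reindex (1 : Matrix (Unit ⊕ m') (Unit ⊕ m') T) e0
    rw [submatrix_one_equiv] at c4
    exact c3.trans c4

variable (hst : ∀ x : T, star x - x ∈ IsLocalRing.maximalIdeal T)

include hst

theorem NA_of_two {m : Type} [Fintype m] [DecidableEq m] [Nonempty m] {h : Matrix m m T}
    (he : hᴴ = h) (hu : IsUnit h) (h2 : IsUnit (2 : T)) : NA h := by
  classical
  obtain ⟨i⟩ := ‹Nonempty m›
  obtain ⟨j, hj⟩ := exists_isUnit_entry hu i
  by_contra hcon
  have hval : ∀ (X : Matrix Unit m T), ¬ IsUnit ((X * h * Xᴴ) () ()) := fun X hX => hcon ⟨X, hX⟩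
  have h1 := hval (Matrix.single () i 1)
  have h3 := hval (Matrix.single () j 1)
  have h4 := hval (Matrix.single () i 1 + Matrix.single () j 1)
  have hv : ∀ (k l : m),
      ((Matrix.single () k 1 : Matrix Unit m T) * h * (Matrix.single () l 1 : Matrix Unit m T)ᴴ)
        () () = h k l := by
    intro k l
    rw [conjTranspose_single, star_one]
    simp
  rw [conjTranspose_add, Matrix.add_mul, Matrix.add_mul, Matrix.mul_add, Matrix.mul_add,
    Matrix.add_apply, Matrix.add_apply, Matrix.add_apply, hv, hv, hv, hv] at h4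
  rw [hv] at h1 h3
  have hji : h j i = star (h i j) := by
    conv_lhs => rw [← he]
    rfl
  replace h1 := (IsLocalRing.mem_maximalIdeal _).mpr h1
  replace h3 := (IsLocalRing.mem_maximalIdeal _).mpr h3
  replace h4 := (IsLocalRing.mem_maximalIdeal _).mpr h4
  have h5 := hst (h i j)
  rw [← hji] at h5
  have h6 : 2 * h i j ∈ IsLocalRing.maximalIdeal T := by
    have : 2 * h i j = (h i i + h i j + (h j i + h j j)) - h i i - h j j - (h j i - h i j) := by
      ring
    rw [this]
    exact Ideal.sub_mem _ (Ideal.sub_mem _ (Ideal.sub_mem _ h4 h1) h3) h5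
  exact (IsLocalRing.mem_maximalIdeal _).mp h6 (h2.mul hj)

theorem NA_of_odd {n : ℕ} (hn : Odd n) {h : Matrix (Fin n) (Fin n) T}
    (he : hᴴ = h) (hu : IsUnit h) : NA h := by
  classical
  by_contra hcon
  have hval : ∀ (X : Matrix Unit (Fin n) T), (X * h * Xᴴ) () () ∈ IsLocalRing.maximalIdeal T :=
    fun X => (IsLocalRing.mem_maximalIdeal _).mpr fun hX => hcon ⟨X, hX⟩
  have hv : ∀ (k l : Fin n),
      ((Matrix.single () k 1 : Matrix Unit (Fin n) T) * h *
        (Matrix.single () l 1 : Matrix Unit (Fin n) T)ᴴ) () () = h k l := by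
    intro k l
    rw [conjTranspose_single, star_one]
    simp
  have h1 : ∀ i, h i i ∈ IsLocalRing.maximalIdeal T := fun i => by
    have := hval (Matrix.single () i 1)
    rwa [hv] at this
  have h2 : ∀ i j, h i j + h j i ∈ IsLocalRing.maximalIdeal T := fun i j => by
    have h4 := hval (Matrix.single () i 1 + Matrix.single () j 1)
    rw [conjTranspose_add, Matrix.add_mul, Matrix.add_mul, Matrix.mul_add, Matrix.mul_add,
      Matrix.add_apply, Matrix.add_apply, Matrix.add_apply, hv, hv, hv, hv] at h4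
    have : h i j + h j i = (h i i + h i j + (h j i + h j j)) - h i i - h j j := by ring
    rw [this]
    exact Ideal.sub_mem _ (Ideal.sub_mem _ h4 (h1 i)) (h1 j)
  have h3 : ((IsLocalRing.residue T).mapMatrix h).det = 0 := by
    refine det_eq_zero_of_alt hn _ (fun i => ?_) (fun i j => ?_)
    · exact (IsLocalRing.residue_eq_zero_iff _).mpr (h1 i)
    · have := (IsLocalRing.residue_eq_zero_iff _).mpr (h2 i j)
      rw [map_add] at this
      exact eq_neg_of_add_eq_zero_left this
  rw [← RingHom.map_det] at h3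
  exact (IsLocalRing.residue_ne_zero_iff_isUnit _).mpr
    ((Matrix.isUnit_iff_isUnit_det _).mp hu) h3

end herm

end K925.Forms2
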