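import Groth.Agent.AzInv.K925.Forms2
import Mathlib.Tactic.LinearCombination

/-!
# Classification of skew-hermitian forms over local rings with involution
-/

set_option autoImplicit false
set_option linter.unusedSectionVars false

universe u v w

namespace K925.Forms3

open Matrix K925.Forms K925.Forms2

variable {T : Type*} [CommRing T] [StarRing T] [IsLocalRing T]

theorem diag_mem (h2 : IsUnit (2 : T)) (hst : ∀ x : T, star x - x ∈ IsLocalRing.maximalIdeal T)
    {a : T} (ha : star a = -a) : a ∈ IsLocalRing.maximalIdeal T := by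
  have h1 := hst a
  rw [ha] at h1
  have h3 : (2 : T) * a ∈ IsLocalRing.maximalIdeal T := by
    have : (2 : T) * a = -(-a - a) := by ring
    rw [this]
    exact Submodule.neg_mem _ h1
  by_contra hcon
  rw [IsLocalRing.mem_maximalIdeal, mem_nonunits_iff, not_not] at hcon
  exact (IsLocalRing.mem_maximalIdeal _).mp h3 (h2.mul hcon)

theorem isUnit_add_of_mem {a b : T} (ha : IsUnit a) (hb : b ∈ IsLocalRing.maximalIdeal T) :
    IsUnit (a + b) := by
  by_contra hcon
  have h1 : a + b - b ∈ IsLocalRing.maximalIdeal T :=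
    Submodule.sub_mem _ ((IsLocalRing.mem_maximalIdeal _).mpr hcon) hb
  rw [add_sub_cancel_right] at h1
  exact (IsLocalRing.mem_maximalIdeal _).mp h1 ha

/-- A nondegenerate skew-hermitian plane is hyperbolic. -/
theorem plane (h2 : IsUnit (2 : T)) (hst : ∀ x : T, star x - x ∈ IsLocalRing.maximalIdeal T)
    (hsq : ∀ c : T, IsUnit c → star c = c → ∃ s, star s = s ∧ s * s = c)
    {a b c d : T} (ha : star a = -a) (hd : star d = -d) (hc : c = -star b) (hb : IsUnit b) :
    Cong !![a, b; c, d] !![(0 : T), 1; -1, 0] := by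
  -- first step
  obtain ⟨β, hβ⟩ := hb.exists_left_inv
  have hβu : IsUnit β := IsUnit.of_mul_eq_one _ hβ
  have hβ' : star β * star b = 1 := by
    rw [mul_comm, ← star_mul, hβ, star_one]
  have s1 : Cong !![a, b; c, d] !![β * a * star β, 1; -1, d] := by
    have hv : IsUnit (!![β, 0; 0, 1] : Matrix (Fin 2) (Fin 2) T) := by
      rw [Matrix.isUnit_iff_isUnit_det, Matrix.det_fin_two_of]
      simpa using hβu
    have := Cong.of_isUnit !![a, b; c, d] hv
    have e : !![β, 0; 0, 1] * !![a, b; c, d] * (!![β, 0; 0, 1] : Matrix (Fin 2) (Fin 2) T)ᴴ =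
        !![β * a * star β, 1; -1, d] := by
      ext i j
      fin_cases i <;> fin_cases j <;>
        simp [Matrix.mul_apply, Fin.sum_univ_two, hβ, hc]
      · rw [mul_comm]; exact hβ'
    rwa [e] at this
  set a' := β * a * star β with ha'
  have ha's : star a' = -a' := by
    rw [ha', star_mul', star_mul', star_star, ha]; ring
  have ham := diag_mem h2 hst ha's
  have hdm := diag_mem h2 hst hd
  -- second step
  have hu1 : IsUnit (1 + a' * d) :=
    isUnit_add_of_mem isUnit_one (Ideal.mul_mem_left _ _ hdm)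
  obtain ⟨s, hs, hss, h1s⟩ : ∃ s, star s = s ∧ s * s = 1 + a' * d ∧ IsUnit (1 + s) := by
    obtain ⟨s, hs, hss⟩ := hsq _ hu1 (by
      rw [star_add, star_one, star_mul', ha's, hd]; ring)
    have h3 : IsUnit (1 + s) ∨ IsUnit (1 + -s) := by
      apply IsLocalRing.isUnit_or_isUnit_of_isUnit_add
      have : 1 + s + (1 + -s) = (2 : T) := by ring
      rwa [this]
    rcases h3 with h3 | h3
    · exact ⟨s, hs, hss, h3⟩
    · exact ⟨-s, by rw [star_neg, hs], by rw [neg_mul_neg, hss], h3⟩
  obtain ⟨r, hr⟩ := h1s.exists_right_inv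
  have hrs : star r = r := by
    have h3 : (1 + s) * star r = 1 := by
      have := congrArg star hr
      rwa [star_mul', star_add, star_one, hs] at this
    calc star r = (r * (1 + s)) * star r := by rw [mul_comm r, hr, one_mul]
      _ = r := by rw [mul_assoc, h3, mul_one]
  set x := a' * r with hx
  have hxs : star x = -x := by rw [hx, star_mul', ha's, hrs]; ring
  have hxe : d * x * x + 2 * x - a' = 0 := by
    have h3 : (d * x * x + 2 * x - a') * ((1 + s) * (1 + s)) = 0 := by
      have e1 : x * (1 + s) = a' := by rw [hx, mul_assoc, mul_comm r, hr, mul_one]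
      calc (d * x * x + 2 * x - a') * ((1 + s) * (1 + s))
          = d * (x * (1 + s)) * (x * (1 + s)) + 2 * (x * (1 + s)) * (1 + s)
            - a' * (1 + s) * (1 + s) := by ring
        _ = a' * (1 + a' * d - s * s) := by rw [e1]; ring
        _ = 0 := by rw [hss]; ring
    exact (IsUnit.mul_left_eq_zero (h1s.mul h1s)).mp h3
  have hγu : IsUnit (1 + x * d) :=
    isUnit_add_of_mem isUnit_one (Ideal.mul_mem_left _ _ hdm)
  have s2 : Cong !![a', 1; -1, d] !![0, 1 + x * d; -(1 + x * d), d] := by
    have hv : IsUnit (!![1, x; 0, 1] : Matrix (Fin 2) (Fin 2) T) := by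
      rw [Matrix.isUnit_iff_isUnit_det, Matrix.det_fin_two_of]
      simp
    have := Cong.of_isUnit !![a', 1; -1, d] hv
    have e : !![1, x; 0, 1] * !![a', 1; -1, d] * (!![1, x; 0, 1] : Matrix (Fin 2) (Fin 2) T)ᴴ =
        !![0, 1 + x * d; -(1 + x * d), d] := by
      ext i j
      fin_cases i <;> fin_cases j <;>
        simp [Matrix.mul_apply, Fin.sum_univ_two, hxs]
      · linear_combination -hxe
      · ring
    rwa [e] at this
  obtain ⟨γ, hγ⟩ := hγu.exists_left_inv
  have hγs : star (1 + x * d) = 1 + x * d := by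
    rw [star_add, star_one, star_mul', hxs, hd]; ring
  have hγu' : IsUnit γ := IsUnit.of_mul_eq_one _ hγ
  have hγs' : star γ * (1 + x * d) = 1 := by
    have := congrArg star hγ
    rwa [star_mul', hγs, star_one] at this
  have s3 : Cong !![0, 1 + x * d; -(1 + x * d), d] !![0, 1; -1, d] := by
    have hv : IsUnit (!![γ, 0; 0, 1] : Matrix (Fin 2) (Fin 2) T) := by
      rw [Matrix.isUnit_iff_isUnit_det, Matrix.det_fin_two_of]
      simpa using hγu'
    have := Cong.of_isUnit !![0, 1 + x * d; -(1 + x * d), d] hv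
    have e : !![γ, 0; 0, 1] * !![0, 1 + x * d; -(1 + x * d), d] *
        (!![γ, 0; 0, 1] : Matrix (Fin 2) (Fin 2) T)ᴴ = !![0, 1; -1, d] := by
      ext i j
      fin_cases i <;> fin_cases j <;>
        simp [Matrix.mul_apply, Fin.sum_univ_two, hγ]
      · linear_combination -hγs'
    rwa [e] at this
  obtain ⟨q, hq⟩ := h2.exists_right_inv
  have hqs : star q = q := by
    have h3 : (2 : T) * star q = 1 := by
      have := congrArg star hq
      rwa [star_mul', star_ofNat, star_one] at this
    calc star q = (q * 2) * star q := by rw [mul_comm q, hq, one_mul]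
      _ = q := by rw [mul_assoc, h3, mul_one]
  have s4 : Cong !![0, 1; -1, d] !![(0 : T), 1; -1, 0] := by
    have hv : IsUnit (!![1, 0; -(d * q), 1] : Matrix (Fin 2) (Fin 2) T) := by
      rw [Matrix.isUnit_iff_isUnit_det, Matrix.det_fin_two_of]
      simp
    have := Cong.of_isUnit !![0, 1; -1, d] hv
    have e : !![1, 0; -(d * q), 1] * !![0, 1; -1, d] *
        (!![1, 0; -(d * q), 1] : Matrix (Fin 2) (Fin 2) T)ᴴ = !![0, 1; -1, 0] := by
      ext i j
      fin_cases i <;> fin_cases j <;>
        simp [Matrix.mul_apply, Fin.sum_univ_two, hqs, hd]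
      · linear_combination -d * hq
    rwa [e] at this
  exact s1.trans (s2.trans (s3.trans s4))

/-- Splitting off a hyperbolic plane. -/
theorem split_skew (h2 : IsUnit (2 : T))
    (hst : ∀ x : T, star x - x ∈ IsLocalRing.maximalIdeal T)
    (hsq : ∀ c : T, IsUnit c → star c = c → ∃ s, star s = s ∧ s * s = c)
    {m : Type} [Fintype m] [DecidableEq m] [Nonempty m] {h : Matrix m m T}
    (he : hᴴ = -h) (hu : IsUnit h) :
    ∃ (m' : Type) (_ : Fintype m') (_ : DecidableEq m') (D : Matrix m' m' T),
      Fintype.card m = Fintype.card m' + 2 ∧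
        Cong h (Matrix.fromBlocks !![(0 : T), 1; -1, 0] 0 0 D) := by
  obtain ⟨i0⟩ := ‹Nonempty m›
  obtain ⟨j0, hj0⟩ := exists_isUnit_entry hu i0
  have hst' : ∀ k l, star (h k l) = -h l k := by
    intro k l
    have : hᴴ l k = (-h) l k := by rw [he]
    exact this
  have hne : j0 ≠ i0 := by
    rintro rfl
    exact (IsLocalRing.mem_maximalIdeal _).mp (diag_mem h2 hst (hst' j0 j0)) hj0
  let m' := {k : m // k ≠ i0 ∧ k ≠ j0}
  let f : Fin 2 ⊕ m' → m := Sum.elim ![i0, j0] Subtype.val
  have hf : Function.Bijective f := by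
    constructor
    · rintro (a | a) (b | b) hab
      · fin_cases a <;> fin_cases b
        · rfl
        · exact absurd hab.symm hne
        · exact absurd hab hne
        · rfl
      · fin_cases a
        · exact absurd hab.symm b.2.1
        · exact absurd hab.symm b.2.2
      · fin_cases b
        · exact absurd hab a.2.1
        · exact absurd hab a.2.2
      · exact congrArg Sum.inr (Subtype.ext hab)
    · intro k
      by_cases hk : k = i0
      · exact ⟨Sum.inl 0, hk.symm⟩
      · by_cases hk' : k = j0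
        · exact ⟨Sum.inl 1, hk'.symm⟩
        · exact ⟨Sum.inr ⟨k, hk, hk'⟩, rfl⟩
  let eq : Fin 2 ⊕ m' ≃ m := Equiv.ofBijective f hf
  have c1 : Cong h (h.submatrix eq eq) := by
    have := Cong.of_reindex h eq.symm
    rwa [Equiv.symm_symm] at this
  set h1 := h.submatrix eq eq with hh1
  have he1 : hᴴ = (-1 : T) • h := by rw [he, neg_smul, one_smul]
  have he2 : h1ᴴ = (-1 : T) • h1 := c1.herm he1
  have h11 : h1.toBlocks₁₁ = !![h i0 i0, h i0 j0; h j0 i0, h j0 j0] := by
    ext i j
    fin_cases i <;> fin_cases j <;> rfl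
  have hpl := plane h2 hst hsq (a := h i0 i0) (b := h i0 j0) (c := h j0 i0) (d := h j0 j0)
    (hst' _ _) (hst' _ _) (by rw [hst', neg_neg]) hj0
  rw [← h11] at hpl
  have hJ : IsUnit h1.toBlocks₁₁ := by
    apply hpl.symm.isUnit
    rw [Matrix.isUnit_iff_isUnit_det, Matrix.det_fin_two_of]
    simp
  obtain ⟨u, hu'⟩ := hJ
  rw [← fromBlocks_toBlocks h1] at he2 c1
  have c3 := Cong.schur he2 (A' := ↑u⁻¹) (by rw [← hu']; exact Units.mul_inv u)
    (by rw [← hu']; exact Units.inv_mul u)
  have c4 := Cong.fromBlocks hpl (Cong.refl (h1.toBlocks₂₂ - h1.toBlocks₂₁ *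
    (↑u⁻¹ : Matrix (Fin 2) (Fin 2) T) * h1.toBlocks₁₂))
  refine ⟨m', inferInstance, inferInstance, _, ?_, c1.trans (c3.trans c4)⟩
  rw [← Fintype.card_congr eq, Fintype.card_sum, Fintype.card_fin, add_comm]

theorem skew_cong (h2 : IsUnit (2 : T))
    (hst : ∀ x : T, star x - x ∈ IsLocalRing.maximalIdeal T)
    (hsq : ∀ c : T, IsUnit c → star c = c → ∃ s, star s = s ∧ s * s = c) (N : ℕ) :
    ∀ {m n : Type} [Fintype m] [DecidableEq m] [Fintype n] [DecidableEq n]
      (h : Matrix m m T) (h' : Matrix n n T), Fintype.card m = N → Fintype.card n = N →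
      IsUnit h → IsUnit h' → hᴴ = -h → h'ᴴ = -h' → Cong h h' := by
  induction N using Nat.strong_induction_on with
  | _ N ih =>
    intro m n _ _ _ _ h h' hm hn hu hu' he he'
    by_cases hN : N = 0
    · subst hN
      have : IsEmpty m := Fintype.card_eq_zero_iff.mp hm
      have : IsEmpty n := Fintype.card_eq_zero_iff.mp hn
      exact ⟨0, 0, Subsingleton.elim _ _, Subsingleton.elim _ _, Subsingleton.elim _ _⟩
    · have : Nonempty m := Fintype.card_pos_iff.mp (by omega)
      have : Nonempty n := Fintype.card_pos_iff.mp (by omega)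
      obtain ⟨m', _, _, D, hcm, hD⟩ := split_skew h2 hst hsq he hu
      obtain ⟨n', _, _, D', hcn, hD'⟩ := split_skew h2 hst hsq he' hu'
      have he1 : hᴴ = (-1 : T) • h := by rw [he, neg_smul, one_smul]
      have he1' : h'ᴴ = (-1 : T) • h' := by rw [he', neg_smul, one_smul]
      have k1 := hD.herm he1
      have k2 := hD'.herm he1'
      rw [fromBlocks_conjTranspose, fromBlocks_smul, fromBlocks_inj] at k1 k2
      have k3 := k1.2.2.2
      have k4 := k2.2.2.2
      rw [neg_smul, one_smul] at k3 k4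
      have c1 : Cong D D' := ih (N - 2) (by omega) D D' (by omega) (by omega)
        (isUnit_of_fromBlocks (hD.isUnit hu)) (isUnit_of_fromBlocks (hD'.isUnit hu')) k3 k4
      exact hD.trans ((Cong.fromBlocks (Cong.refl _) c1).trans hD'.symm)

theorem herm_cong (hsq : ∀ c : T, IsUnit c → star c = c → ∃ s, star s = s ∧ s * s = c)
    {m n : Type} [Fintype m] [DecidableEq m] [Fintype n] [DecidableEq n]
    (h : Matrix m m T) (h' : Matrix n n T) (hmn : Fintype.card m = Fintype.card n)
    (hu : IsUnit h) (hu' : IsUnit h') (he : hᴴ = h) (he' : h'ᴴ = h')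
    (hna : Fintype.card m = 0 ∨ NA h) (hna' : Fintype.card n = 0 ∨ NA h') : Cong h h' := by
  have c1 := herm_cong_one hsq _ h rfl hu he hna
  have c2 := herm_cong_one hsq _ h' rfl hu' he' hna'
  have e0 : m ≃ n := Fintype.equivOfCardEq hmn
  have c3 := Cong.of_reindex (1 : Matrix m m T) e0
  rw [submatrix_one_equiv] at c3
  exact c1.trans (c3.trans c2.symm)

end K925.Forms3
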