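import Groth.Agent.S0525
import Groth.Agent.S0526
import Mathlib.FieldTheory.PurelyInseparable.Basic

/-!
# Integral local algebras over (strictly) henselian local rings
-/

set_option autoImplicit false

universe u v w

namespace K925.HensInt

theorem henselian_of_isIntegral_same (R : Type u) [CommRing R] [HenselianLocalRing R]
    (S : Type u) [CommRing S] [IsLocalRing S] [Algebra R S] [Algebra.IsIntegral R S] :
    HenselianLocalRing S := by
  have h1 : HenselianRing S (Ideal.map (algebraMap R S) (IsLocalRing.maximalIdeal R)) :=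
    Groth.Agent.S0526.result R _ S
  have h2 : (Ideal.map (algebraMap R S) (IsLocalRing.maximalIdeal R)).radical =
      (IsLocalRing.maximalIdeal S).radical := by
    rw [(IsLocalRing.maximalIdeal.isMaximal S).isPrime.radical]
    apply le_antisymm
    · rw [(IsLocalRing.maximalIdeal.isMaximal S).isPrime.radical_le_iff]
      apply IsLocalRing.le_maximalIdeal
      have := h1.jac
      intro htop
      rw [htop] at this
      have h3 := (Ideal.jacobson_eq_top_iff).mp (top_le_iff.mp this)
      exact bot_ne_top h3
    · rw [Ideal.radical_eq_sInf]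
      refine le_sInf ?_
      rintro P ⟨hP1, hP2⟩
      have h3 : P.comap (algebraMap R S) = IsLocalRing.maximalIdeal R := by
        refine ((IsLocalRing.maximalIdeal.isMaximal R).eq_of_le ?_
          (Ideal.map_le_iff_le_comap.mp hP1)).symm
        exact (hP2.comap (algebraMap R S)).ne_top
      have h4 : P.IsMaximal := by
        apply Ideal.isMaximal_of_isIntegral_of_isMaximal_comap (R := R) P
        rw [h3]
        infer_instance
      exact (IsLocalRing.eq_maximalIdeal h4).ge
  have h5 : HenselianRing S (IsLocalRing.maximalIdeal S) :=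
    (Groth.Agent.S0525.result S _ _ h2).mp h1
  exact ⟨fun f hf a₀ h6 h7 ↦ h5.is_henselian f hf a₀ h6 (h7.map _)⟩

theorem henselian_of_ringEquiv {R : Type u} {S : Type v} [CommRing R] [CommRing S] (e : R ≃+* S)
    [HenselianLocalRing R] : HenselianLocalRing S := by
  have hloc : IsLocalRing S := e.isLocalRing
  have hmem : ∀ x : S, x ∈ IsLocalRing.maximalIdeal S ↔
      e.symm x ∈ IsLocalRing.maximalIdeal R := by
    intro x
    rw [IsLocalRing.mem_maximalIdeal, IsLocalRing.mem_maximalIdeal, mem_nonunits_iff,
      mem_nonunits_iff, isUnit_map_iff]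
  refine ⟨fun f hf a₀ h1 h2 => ?_⟩
  have hev : ∀ (g : Polynomial S) (a : S),
      (g.map e.symm.toRingHom).eval (e.symm a) = e.symm (g.eval a) := by
    intro g a
    have := Polynomial.eval_map_apply (f := e.symm.toRingHom) (p := g) a
    exact this
  obtain ⟨a, ha, ha'⟩ := HenselianLocalRing.is_henselian (f.map e.symm.toRingHom)
    (hf.map _) (e.symm a₀) (by rw [hev]; exact (hmem _).mp h1) (by
      rw [Polynomial.derivative_map, hev]
      exact h2.map e.symm)
  refine ⟨e a, ?_, ?_⟩
  · have h3 := hev f (e a)
    rw [RingEquiv.symm_apply_apply] at h3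
    rw [Polynomial.IsRoot.def, ← map_eq_zero_iff e.symm e.symm.injective, ← h3]
    exact ha
  · rw [hmem, map_sub, RingEquiv.symm_apply_apply]
    exact ha'

theorem henselian_of_isIntegral (R : Type u) [CommRing R] [HenselianLocalRing R]
    (S : Type v) [CommRing S] [IsLocalRing S] [Algebra R S] [Algebra.IsIntegral R S] :
    HenselianLocalRing S := by
  let R' := ULift.{v} R
  let S' := ULift.{u} S
  have h1 : HenselianLocalRing R' := henselian_of_ringEquiv (ULift.ringEquiv (R := R)).symm
  have h2 : IsLocalRing S' := (ULift.ringEquiv (R := S)).symm.isLocalRing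
  let φ : R' →+* S' := ((ULift.ringEquiv (R := S)).symm.toRingHom.comp (algebraMap R S)).comp
    (ULift.ringEquiv (R := R)).toRingHom
  letI : Algebra R' S' := φ.toAlgebra
  have h3 : Algebra.IsIntegral R' S' := by
    refine ⟨fun x => ?_⟩
    obtain ⟨p, hp, hp'⟩ := Algebra.IsIntegral.isIntegral (R := R) x.down
    refine ⟨p.map (ULift.ringEquiv (R := R)).symm.toRingHom, hp.map _, ?_⟩
    rw [Polynomial.eval₂_map]
    have h4 : (algebraMap R' S').comp (ULift.ringEquiv (R := R)).symm.toRingHom =
        (ULift.ringEquiv (R := S)).symm.toRingHom.comp (algebraMap R S) := rfl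
    rw [h4]
    have h5 := Polynomial.hom_eval₂ p (algebraMap R S) (ULift.ringEquiv (R := S)).symm.toRingHom
      x.down
    rw [hp', map_zero] at h5
    exact h5.symm
  have h4 : HenselianLocalRing S' := henselian_of_isIntegral_same R' S'
  exact henselian_of_ringEquiv (ULift.ringEquiv (R := S))

theorem isSepClosed_of_isIntegral (R : Type u) [CommRing R] [IsLocalRing R]
    [IsSepClosed (IsLocalRing.ResidueField R)] (S : Type v) [CommRing S] [IsLocalRing S]
    [Algebra R S] [Algebra.IsIntegral R S] : IsSepClosed (IsLocalRing.ResidueField S) := by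
  have hloc : IsLocalHom (algebraMap R S) := by
    refine ⟨fun r hr => ?_⟩
    by_contra hcon
    have h1 : (IsLocalRing.maximalIdeal S).comap (algebraMap R S) =
        IsLocalRing.maximalIdeal R := by
      have : ((IsLocalRing.maximalIdeal S).comap (algebraMap R S)).IsMaximal :=
        Ideal.isMaximal_comap_of_isIntegral_of_isMaximal _
      exact IsLocalRing.eq_maximalIdeal this
    have h2 : r ∈ (IsLocalRing.maximalIdeal S).comap (algebraMap R S) := by
      rw [h1]; exact hcon
    exact (IsLocalRing.mem_maximalIdeal _).mp h2 hr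
  have h1 : Algebra.IsIntegral R (IsLocalRing.ResidueField S) := by
    refine ⟨fun x => ?_⟩
    obtain ⟨y, rfl⟩ := IsLocalRing.residue_surjective x
    obtain ⟨p, hp, hp'⟩ := Algebra.IsIntegral.isIntegral (R := R) y
    refine ⟨p, hp, ?_⟩
    have h5 := Polynomial.hom_eval₂ p (algebraMap R S) (IsLocalRing.residue S) y
    rw [hp', map_zero] at h5
    exact h5.symm
  have h2 : Algebra.IsIntegral (IsLocalRing.ResidueField R) (IsLocalRing.ResidueField S) :=
    Algebra.IsIntegral.tower_top R
  have h3 : Algebra.IsAlgebraic (IsLocalRing.ResidueField R) (IsLocalRing.ResidueField S) :=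
    inferInstance
  exact Algebra.IsAlgebraic.isSepClosed (F := IsLocalRing.ResidueField R)

end K925.HensInt
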