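import Groth.Agent.AzInv.K925.BC
import Groth.Agent.AzInv.K925.Descent

/-!
# Homomorphisms of algebras with involution as solutions of finite systems of equations
-/

set_option autoImplicit false

universe u v w w' u'

namespace K925.HomSys

open scoped TensorProduct
open AzInv K925.AzBasic K925.BC K925.Descent Groth.Agent.Hensel.Hull

noncomputable section

attribute [local instance 50] alg

theorem bc_mul {S : Type u} [CommRing S] {E E' : Type*} [CommRing E] [Algebra S E] [CommRing E']
    [Algebra S E'] (f : E →ₐ[S] E') {A : Type*} [Ring A] [Algebra S A] (x y : E ⊗[S] A) :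
    bc f A (x * y) = bc f A x * bc f A y := by
  induction x using TensorProduct.induction_on with
  | zero => simp
  | tmul e a =>
    induction y using TensorProduct.induction_on with
    | zero => simp
    | tmul e' a' => simp
    | add y z hy hz => rw [mul_add, map_add, map_add, mul_add, hy, hz]
  | add x z hx hz => rw [add_mul, map_add, map_add, add_mul, hx, hz]

theorem bc_one {S : Type u} [CommRing S] {E E' : Type*} [CommRing E] [Algebra S E] [CommRing E']
    [Algebra S E'] (f : E →ₐ[S] E') {A : Type*} [Ring A] [Algebra S A] :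
    bc f A (1 : E ⊗[S] A) = 1 := by
  rw [Algebra.TensorProduct.one_def, bc_tmul, map_one, Algebra.TensorProduct.one_def]

theorem bc_baseChange {S : Type u} [CommRing S] {E E' : Type*} [CommRing E] [Algebra S E]
    [CommRing E'] [Algebra S E'] (f : E →ₐ[S] E') {A : Type*} [AddCommGroup A] [Module S A]
    (s : A →ₗ[S] A) (x : E ⊗[S] A) :
    bc f A (s.baseChange E x) = s.baseChange E' (bc f A x) := by
  induction x using TensorProduct.induction_on with
  | zero => simp
  | tmul e a => simp
  | add x z hx hz => rw [map_add, map_add, map_add, map_add, hx, hz]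

variable {S : Type u} [CommRing S] {R : Type v} [CommRing R] [Algebra S R]
  {A : Type w} [Ring A] [Algebra S A] [Algebra R A] [IsScalarTower S R A]
  {A' : Type w'} [Ring A'] [Algebra S A'] [Algebra R A'] [IsScalarTower S R A']
  {m : ℕ} {a : Fin m → A} {c : Fin m → Module.Dual R A}

section G

variable (S A' c) (E : Type u') [CommRing E] [Algebra S E]

/-- The map `A → E ⊗ A'` attached to the images `b i` of a dual basis. -/
def G (b : Fin m → E ⊗[S] A') : A →+ E ⊗[S] A' where
  toFun x := ∑ i, ((1 : E) ⊗ₜ[S] c i x) • b i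
  map_zero' := Finset.sum_eq_zero fun i _ => by
    rw [map_zero, TensorProduct.tmul_zero, zero_smul]
  map_add' x y := by
    rw [← Finset.sum_add_distrib]
    exact Finset.sum_congr rfl fun i _ => by rw [map_add, TensorProduct.tmul_add, add_smul]

variable {S A' c E}

theorem G_apply (b : Fin m → E ⊗[S] A') (x : A) :
    G S A' c E b x = ∑ i, ((1 : E) ⊗ₜ[S] c i x) • b i := rfl

theorem G_smul (b : Fin m → E ⊗[S] A') (r : R) (x : A) :
    G S A' c E b (r • x) = ((1 : E) ⊗ₜ[S] r) • G S A' c E b x := by
  rw [G_apply, G_apply, Finset.smul_sum]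
  refine Finset.sum_congr rfl fun i _ => ?_
  rw [map_smul, smul_eq_mul, smul_smul, Algebra.TensorProduct.tmul_mul_tmul, one_mul]

theorem bc_G {E' : Type*} [CommRing E'] [Algebra S E'] (f : E →ₐ[S] E')
    (b : Fin m → E ⊗[S] A') (x : A) :
    bc f A' (G S A' c E b x) = G S A' c E' (fun i => bc f A' (b i)) x := by
  rw [G_apply, G_apply, map_sum]
  refine Finset.sum_congr rfl fun i _ => ?_
  rw [smul_eq, smul_eq, bc_mul, str_tmul, str_tmul, bc_tmul, map_one]

end G

/-- Index set of the equations. -/
abbrev J (m : ℕ) : Type := (Fin m × Fin m) ⊕ Fin m ⊕ Unit ⊕ Fin m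

variable (a c) in
/-- The system of equations. -/
def sys (s : A →ₗ[S] A) (s' : A' →ₗ[S] A') : Sys S A' A' (Fin m) (J m) where
  eqn E _ _ b j :=
    match j with
    | Sum.inl p => G S A' c E b (a p.1 * a p.2) - b p.1 * b p.2
    | Sum.inr (Sum.inl i) => G S A' c E b (a i) - b i
    | Sum.inr (Sum.inr (Sum.inl _)) => G S A' c E b 1 - 1
    | Sum.inr (Sum.inr (Sum.inr i)) => G S A' c E b (s (a i)) - s'.baseChange E (b i)
  nat E E' _ _ _ _ f b j := by
    rcases j with p | i | _ | i
    · change bc f A' (G S A' c E b (a p.1 * a p.2) - b p.1 * b p.2) = _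
      rw [map_sub, bc_G, bc_mul]
    · change bc f A' (G S A' c E b (a i) - b i) = _
      rw [map_sub, bc_G]
    · change bc f A' (G S A' c E b 1 - 1) = _
      rw [map_sub, bc_G, bc_one]
    · change bc f A' (G S A' c E b (s (a i)) - s'.baseChange E (b i)) = _
      rw [map_sub, bc_G, bc_baseChange]

variable (hac : ∀ x : A, ∑ i, c i x • a i = x) {s : A →ₗ[S] A} {s' : A' →ₗ[S] A'}

include hac

theorem solv_of_hom {E : Type u} [CommRing E] [Algebra S E]
    (f : E ⊗[S] A →ₐ[E ⊗[S] R] E ⊗[S] A')
    (hf : ∀ x, f (s.baseChange E x) = s'.baseChange E (f x)) :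
    (sys a c s s').Solv E := by
  have key : ∀ x : A, G S A' c E (fun i => f ((1 : E) ⊗ₜ[S] a i)) x = f ((1 : E) ⊗ₜ[S] x) := by
    intro x
    conv_rhs => rw [← hac x, TensorProduct.tmul_sum, map_sum]
    rw [G_apply]
    refine Finset.sum_congr rfl fun i _ => ?_
    rw [← map_smul, tmul_smul_tmul, one_mul]
  refine ⟨fun i => f ((1 : E) ⊗ₜ[S] a i), fun j => ?_⟩
  rcases j with p | i | _ | i
  · change G S A' c E _ (a p.1 * a p.2) - f _ * f _ = 0
    rw [key, ← map_mul, Algebra.TensorProduct.tmul_mul_tmul, one_mul, sub_self]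
  · change G S A' c E _ (a i) - f _ = 0
    rw [key, sub_self]
  · change G S A' c E _ 1 - 1 = 0
    rw [key, ← Algebra.TensorProduct.one_def, map_one, sub_self]
  · change G S A' c E _ (s (a i)) - s'.baseChange E (f _) = 0
    rw [key, ← hf, LinearMap.baseChange_tmul, sub_self]

theorem hom_of_solv (lam : R ≃ₐ[S] R) (hs : ∀ (r : R) (x : A), s (r • x) = lam r • s x)
    (hs' : ∀ (r : R) (x : A'), s' (r • x) = lam r • s' x)
    {E : Type u} [CommRing E] [Algebra S E] (h : (sys a c s s').Solv E) :
    ∃ f : E ⊗[S] A →ₐ[E ⊗[S] R] E ⊗[S] A',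
      ∀ x, f (s.baseChange E x) = s'.baseChange E (f x) := by
  obtain ⟨b, hb⟩ := h
  have e1 : ∀ i j, G S A' c E b (a i * a j) = b i * b j := fun i j =>
    sub_eq_zero.mp (hb (Sum.inl (i, j)))
  have e2 : ∀ i, G S A' c E b (a i) = b i := fun i =>
    sub_eq_zero.mp (hb (Sum.inr (Sum.inl i)))
  have e3 : G S A' c E b 1 = 1 := sub_eq_zero.mp (hb (Sum.inr (Sum.inr (Sum.inl ()))))
  have e4 : ∀ i, G S A' c E b (s (a i)) = s'.baseChange E (b i) := fun i =>
    sub_eq_zero.mp (hb (Sum.inr (Sum.inr (Sum.inr i))))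
  set g := G S A' c E b with hg
  have gs : ∀ (r : R) (x : A), g (r • x) = ((1 : E) ⊗ₜ[S] r) • g x := G_smul b
  have gsum : ∀ x : A, g x = ∑ i, ((1 : E) ⊗ₜ[S] c i x) • b i := fun x => rfl
  have gmul : ∀ x y : A, g (x * y) = g x * g y := by
    intro x y
    conv_lhs => rw [← hac x, ← hac y, Finset.sum_mul_sum, map_sum]
    rw [gsum x, gsum y, Finset.sum_mul_sum]
    refine Finset.sum_congr rfl fun i _ => ?_
    rw [map_sum]
    refine Finset.sum_congr rfl fun j _ => ?_
    rw [smul_mul_smul_comm, gs, e1, smul_mul_smul_comm, Algebra.TensorProduct.tmul_mul_tmul,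
      one_mul]
  let g' : A →ₐ[S] E ⊗[S] A' :=
    { toFun := g
      map_one' := e3
      map_mul' := gmul
      map_zero' := map_zero g
      map_add' := map_add g
      commutes' := fun r => by
        change g (algebraMap S A r) = _
        have : algebraMap S A r = (algebraMap S R r) • (1 : A) := by
          rw [algebraMap_smul, Algebra.algebraMap_eq_smul_one]
        rw [this, gs, e3, smul_eq, mul_one, str_tmul,
          ← IsScalarTower.algebraMap_apply S R A', Algebra.algebraMap_eq_smul_one,
          ← TensorProduct.smul_tmul, Algebra.algebraMap_eq_smul_one,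
          Algebra.TensorProduct.one_def, TensorProduct.smul_tmul'] }
  let F : E ⊗[S] A →ₐ[E] E ⊗[S] A' :=
    Algebra.TensorProduct.lift (Algebra.ofId E _) g' (fun e x => Algebra.commutes e _)
  have hF : ∀ (e : E) (x : A), F (e ⊗ₜ[S] x) = e • g x := by
    intro e x
    change algebraMap E (E ⊗[S] A') e * g x = _
    rw [Algebra.smul_def]
  have hsemi : ∀ (r : R) (y : E ⊗[S] A'), s'.baseChange E (((1 : E) ⊗ₜ[S] r) • y) =
      ((1 : E) ⊗ₜ[S] lam r) • s'.baseChange E y := by
    intro r y
    induction y using TensorProduct.induction_on with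
    | zero => simp
    | tmul e x =>
      rw [tmul_smul_tmul, LinearMap.baseChange_tmul, LinearMap.baseChange_tmul, tmul_smul_tmul,
        hs']
    | add x y hx hy => rw [smul_add, map_add, map_add, smul_add, hx, hy]
  have hgs : ∀ x : A, g (s x) = s'.baseChange E (g x) := by
    intro x
    conv_lhs => rw [← hac x, map_sum, map_sum]
    rw [gsum x, map_sum]
    refine Finset.sum_congr rfl fun i _ => ?_
    rw [hs, gs, e4, hsemi]
  refine ⟨{ toRingHom := F.toRingHom, commutes' := fun x => ?_ }, fun x => ?_⟩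
  · change F (algebraMap (E ⊗[S] R) (E ⊗[S] A) x) = algebraMap (E ⊗[S] R) (E ⊗[S] A') x
    rw [algebraMap_eq, algebraMap_eq]
    induction x using TensorProduct.induction_on with
    | zero => rw [map_zero, map_zero, map_zero]
    | tmul e r =>
      rw [str_tmul, str_tmul, hF, Algebra.algebraMap_eq_smul_one, gs, e3, smul_eq, mul_one,
        str_tmul, TensorProduct.smul_tmul', smul_eq_mul, mul_one]
    | add x y hx hy => rw [map_add, map_add, map_add, hx, hy]
  · change F (s.baseChange E x) = s'.baseChange E (F x)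
    induction x using TensorProduct.induction_on with
    | zero => simp
    | tmul e x => rw [LinearMap.baseChange_tmul, hF, hF, map_smul, hgs]
    | add x y hx hy => rw [map_add, map_add, map_add, map_add, hx, hy]

omit hac in
/-- Descent of homomorphisms of algebras with involution. -/
theorem exists_hom_cover [Module.Finite R A] [Module.Projective R A] (lam : R ≃ₐ[S] R)
    (s : A →ₗ[S] A) (s' : A' →ₗ[S] A') (hs : ∀ (r : R) (x : A), s (r • x) = lam r • s x)
    (hs' : ∀ (r : R) (x : A'), s' (r • x) = lam r • s' x)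
    (hW : ∀ (p : PrimeSpectrum S) (K W : Type u) [Field K] [IsAlgClosed K] [Algebra S K]
      [CommRing W] [Algebra S W] (π : W →ₐ[S] K), IsHull S W K π →
      RingHom.ker (algebraMap S K) = p.asIdeal →
      ∃ f : W ⊗[S] A →ₐ[W ⊗[S] R] W ⊗[S] A',
        ∀ x, f (s.baseChange W x) = s'.baseChange W (f x)) :
    ∃ (E : Type u) (_ : CommRing E) (_ : Algebra S E) (_ : Algebra.Etale S E)
      (_ : Module.FaithfullyFlat S E) (f : E ⊗[S] A →ₐ[E ⊗[S] R] E ⊗[S] A'),
      ∀ x, f (s.baseChange E x) = s'.baseChange E (f x) := by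
  obtain ⟨m, a, c, hac⟩ := exists_dualBasis R A
  obtain ⟨E, i1, i2, i3, i4, hE⟩ := Sys.exists_cover (sys a c s s') (fun p K W _ _ _ _ _ π h hp =>
    let ⟨f, hf⟩ := hW p K W π h hp
    solv_of_hom hac f hf)
  obtain ⟨f, hf⟩ := hom_of_solv hac lam hs hs' hE
  exact ⟨E, i1, i2, i3, i4, f, hf⟩

end

end K925.HomSys
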