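import Groth.Agent.Hensel.Hull
import Groth.Agent.Hensel.Lazard
import Groth.Agent.Pi1C.StrictHensPoint
import Mathlib.FieldTheory.IsSepClosed
import Mathlib.FieldTheory.IsAlgClosed.Basic

/-!
# Hulls for algebraically closed fields are strictly henselian
-/

set_option autoImplicit false

universe u v w

namespace K925.HullFacts

open scoped TensorProduct
open Polynomial Groth.Agent.Hensel.Hull Groth.Agent.Hensel

variable {S W K : Type u} [CommRing S] [CommRing W] [Field K] [Algebra S W] [Algebra S K]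
  {π : W →ₐ[S] K}

/-- Simple roots in `K` come from roots in `W`. -/
theorem exists_root (h : IsHull S W K π) (f : W[X]) (hf : f.Monic) (x : K)
    (h₁ : (f.map (π : W →+* K)).eval x = 0)
    (h₂ : (f.derivative.map (π : W →+* K)).eval x ≠ 0) : ∃ w : W, f.eval w = 0 := by
  have := h.isLocalRing
  classical
  obtain ⟨E, _, _, _, χ, hχ⟩ := h.exists_etale_finset f.coeffs
  have hlifts : f ∈ Polynomial.lifts (χ : E →+* W) := by
    rw [Polynomial.lifts_iff_coeff_lifts]
    intro n
    by_cases hn : f.coeff n = 0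
    · rw [hn]
      exact ⟨0, map_zero _⟩
    · exact hχ (Polynomial.coeff_mem_coeffs hn)
  obtain ⟨q, hq, -, hqm⟩ := Polynomial.lifts_and_natDegree_eq_and_monic hlifts hf
  let P : StandardEtalePair E :=
    { f := q, monic_f := hqm, g := q.derivative, cond := ⟨1, 0, 1, by ring⟩ }
  let _ : Algebra E K := (π.comp χ).toRingHom.toAlgebra
  have : IsScalarTower S E K := IsScalarTower.of_algebraMap_eq fun r =>
    ((π.comp χ).commutes r).symm
  let _ : Algebra S P.Ring := ((algebraMap E P.Ring).comp (algebraMap S E)).toAlgebra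
  have : IsScalarTower S E P.Ring := IsScalarTower.of_algebraMap_eq fun r => rfl
  have hEK : ∀ x : E, algebraMap E K x = π (χ x) := fun x => rfl
  have hEK' : algebraMap E K = (π : W →+* K).comp (χ : E →+* W) := rfl
  have hmap : P.HasMap (x : K) := by
    constructor
    · change Polynomial.aeval x q = 0
      rw [Polynomial.aeval_def, Polynomial.eval₂_eq_eval_map, hEK', ← Polynomial.map_map, hq]
      exact h₁
    · change IsUnit (Polynomial.aeval x q.derivative)
      rw [Polynomial.aeval_def, Polynomial.eval₂_eq_eval_map, hEK', ← Polynomial.map_map,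
        ← Polynomial.derivative_map, hq]
      exact isUnit_iff_ne_zero.mpr h₂
  have : Algebra.Etale S P.Ring := Algebra.Etale.comp S E P.Ring
  obtain ⟨φ, hφ⟩ := h.exists_lift P.Ring ((P.lift x hmap).restrictScalars S)
  have hφE : φ.comp (IsScalarTower.toAlgHom S E P.Ring) = χ := by
    refine h.algHom_eq _ _ ?_
    rw [← AlgHom.comp_assoc, hφ]
    ext x'
    change P.lift x hmap (algebraMap E P.Ring x') = π (χ x')
    rw [AlgHom.commutes, hEK]
  have hφE' : ∀ x : E, φ (algebraMap E P.Ring x) = χ x := fun x => congr($hφE x)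
  refine ⟨φ P.X, ?_⟩
  have h3 := P.hasMap_X.1
  have h4 := congr(φ $h3)
  rw [map_zero] at h4
  rw [← hq, ← h4, Polynomial.aeval_def, Polynomial.eval_map]
  change _ = (φ : P.Ring →+* W) _
  rw [Polynomial.hom_eval₂]
  congr 1
  ext x
  exact (hφE' x).symm

theorem isSepClosed_residueField [IsAlgClosed K] (h : IsHull S W K π) [IsLocalRing W] :
    IsSepClosed (IsLocalRing.ResidueField W) := by
  apply IsSepClosed.of_exists_root
  intro p hp hirr hsep
  have hlifts : p ∈ Polynomial.lifts (IsLocalRing.residue W) := by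
    rw [Polynomial.lifts_iff_coeff_lifts]
    intro n
    exact IsLocalRing.residue_surjective _
  obtain ⟨f, hf, hdeg, hfm⟩ := Polynomial.lifts_and_natDegree_eq_and_monic hlifts hp
  -- the map from the residue field to `K`
  have hker : ∀ a ∈ IsLocalRing.maximalIdeal W, (π : W →+* K) a = 0 := fun a ha =>
    (h.mem_maximalIdeal_iff a).mp ha
  let τ : IsLocalRing.ResidueField W →+* K :=
    Ideal.Quotient.lift (IsLocalRing.maximalIdeal W) (π : W →+* K) hker
  have hτ : τ.comp (IsLocalRing.residue W) = (π : W →+* K) := by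
    ext x; rfl
  have hfK : f.map (π : W →+* K) = p.map τ := by
    rw [← hτ, ← Polynomial.map_map, hf]
  have hsepK : (p.map τ).Separable := hsep.map
  obtain ⟨x, hx⟩ := IsAlgClosed.exists_root (p.map τ) (by
    rw [Polynomial.degree_map]
    exact (Polynomial.degree_pos_of_irreducible hirr).ne')
  obtain ⟨w, hw⟩ := exists_root h f hfm x (by rw [hfK]; exact hx) (by
    rw [← Polynomial.derivative_map, hfK]
    obtain ⟨a, b, hab⟩ := hsepK
    intro h0
    have h1 := congrArg (Polynomial.eval x) hab
    rw [Polynomial.eval_add, Polynomial.eval_mul, Polynomial.eval_mul, h0, hx, mul_zero, mul_zero,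
      add_zero, Polynomial.eval_one] at h1
    exact zero_ne_one h1)
  refine ⟨IsLocalRing.residue W w, ?_⟩
  rw [← hf]
  have := Polynomial.eval_map_apply (f := IsLocalRing.residue W) (p := f) w
  rw [this, hw, map_zero]

/-- Units are squares in the hull. -/
theorem exists_sqrt [IsAlgClosed K] (h : IsHull S W K π)
    (hsq : ∀ (S₁ : Type u) [CommRing S₁] [Algebra S S₁] [Algebra.Etale S S₁] (x : S₁ˣ),
      ∃ (S₂ : Type u) (_ : CommRing S₂) (_ : Algebra S₁ S₂) (_ : Algebra.Etale S₁ S₂)
        (_ : Module.FaithfullyFlat S₁ S₂) (y : S₂), y * y = algebraMap S₁ S₂ ↑x)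
    (c : W) (hc : IsUnit c) : ∃ s, s * s = c := by
  have := h.henselianLocalRing
  have := isSepClosed_residueField h
  obtain ⟨E, _, _, _, χ, hχ⟩ := h.exists_etale_finset {c}
  obtain ⟨e, he⟩ := hχ (by simp : c ∈ ((({c} : Finset W)) : Set W))
  change χ e = c at he
  let S₁ := Localization.Away e
  have : Algebra.Etale E S₁ := Algebra.Etale.of_isLocalizationAway e
  have : Algebra.Etale S S₁ := Algebra.Etale.comp S E S₁
  let χ₁ : S₁ →+* W := IsLocalization.Away.lift (S := S₁) e (g := (χ : E →+* W)) (by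
    change IsUnit (χ e)
    rw [he]; exact hc)
  have hχ₁ : ∀ x : E, χ₁ (algebraMap E S₁ x) = χ x := fun x =>
    IsLocalization.Away.lift_eq e _ x
  obtain ⟨x, hx⟩ := IsLocalization.Away.algebraMap_isUnit (S := S₁) e
  obtain ⟨S₂, _, _, _, _, y, hy⟩ := hsq S₁ x
  letI : Algebra S₁ W := χ₁.toAlgebra
  have hprime : ((IsLocalRing.maximalIdeal W).comap (algebraMap S₁ W)).IsPrime := inferInstance
  obtain ⟨q, hq⟩ := PrimeSpectrum.comap_surjective_of_faithfullyFlat (A := S₁) (B := S₂)
    ⟨(IsLocalRing.maximalIdeal W).comap (algebraMap S₁ W), hprime⟩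
  obtain ⟨g, -⟩ := Groth.Agent.Pi1C.StrictHensPoint.exists_algHom_of_comap_eq S₁ S₂ W q.asIdeal
    (congrArg PrimeSpectrum.asIdeal hq)
  refine ⟨g y, ?_⟩
  rw [← map_mul, hy, AlgHom.commutes, hx]
  change χ₁ (algebraMap E S₁ e) = c
  rw [hχ₁, he]

end K925.HullFacts
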