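import Groth.Agent.AzInv.K925.Main

/-!
# Automorphisms are locally inner
-/

set_option autoImplicit false

universe u v w w' u'

namespace K925.Inner

open scoped TensorProduct
open AzInv K925.AzBasic K925.AzLocal K925.BC K925.Descent K925.HomSys K925.WAlg
  Groth.Agent.Hensel.Hull Groth.Agent.Hensel.Lazard

noncomputable section

attribute [local instance 50] alg

variable {S : Type u} [CommRing S] {R : Type v} [CommRing R] [Algebra S R]
  {A : Type w} [Ring A] [Algebra S A] [Algebra R A] [IsScalarTower S R A] {n : ℕ}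
  {lam : R ≃ₐ[S] R}

section psi

variable (S) (E : Type u') [CommRing E] [Algebra S E] (ψ : A →ₐ[R] A)

/-- The base change of an endomorphism. -/
def psiE : E ⊗[S] A →ₐ[E ⊗[S] R] E ⊗[S] A where
  toRingHom := (Algebra.TensorProduct.map (AlgHom.id E E) (ψ.restrictScalars S)).toRingHom
  commutes' c := by
    change Algebra.TensorProduct.map (AlgHom.id E E) (ψ.restrictScalars S) (str S R A E c) =
      str S R A E c
    induction c using TensorProduct.induction_on with
    | zero => rw [map_zero, map_zero]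
    | tmul e r =>
      rw [str_tmul, Algebra.TensorProduct.map_tmul]
      change e ⊗ₜ[S] ψ (algebraMap R A r) = _
      rw [AlgHom.commutes]
    | add x y hx hy => rw [map_add, map_add, hx, hy]

theorem psiE_tmul (e : E) (a : A) : psiE S E ψ (e ⊗ₜ[S] a) = e ⊗ₜ[S] ψ a := rfl

end psi

/-- The system: `u v = 1`, `v u = 1`, `ψ(a i) u = u (a i)`. -/
def sys {m : ℕ} (a : Fin m → A) (ψ : A →ₐ[R] A) :
    Sys S A A (Fin 2) (Unit ⊕ Unit ⊕ Fin m) where
  eqn E _ _ x j :=
    match j with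
    | Sum.inl _ => x 0 * x 1 - 1
    | Sum.inr (Sum.inl _) => x 1 * x 0 - 1
    | Sum.inr (Sum.inr i) => ((1 : E) ⊗ₜ[S] ψ (a i)) * x 0 - x 0 * ((1 : E) ⊗ₜ[S] (a i))
  nat E E' _ _ _ _ f x j := by
    rcases j with _ | _ | i
    · change bc f A (x 0 * x 1 - 1) = _
      rw [map_sub, bc_mul, bc_one]
    · change bc f A (x 1 * x 0 - 1) = _
      rw [map_sub, bc_mul, bc_one]
    · change bc f A (((1 : E) ⊗ₜ[S] ψ (a i)) * x 0 - x 0 * ((1 : E) ⊗ₜ[S] (a i))) = _
      rw [map_sub, bc_mul, bc_mul, bc_tmul, bc_tmul, map_one]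

/-- Automorphisms of Azumaya algebras are inner, locally on `S`. -/
theorem exists_inner (hlam : ∀ r, lam (lam r) = r)
    (hfix : RInv.IsFixedRing S R lam.toRingEquiv) (hn : 0 < n) (hA : Az R A n) (ψ : A →ₐ[R] A) :
    ∃ (E : Type u) (_ : CommRing E) (_ : Algebra S E) (_ : Algebra.Etale S E)
      (_ : Module.FaithfullyFlat S E) (u v : E ⊗[S] A), u * v = 1 ∧ v * u = 1 ∧
        ∀ a : A, ((1 : E) ⊗ₜ[S] ψ a) * u = u * ((1 : E) ⊗ₜ[S] a) := by
  have := hA.finite
  have := hA.proj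
  obtain ⟨m, a, c, hac⟩ := exists_dualBasis R A
  obtain ⟨E, i1, i2, i3, i4, x, hx⟩ := Sys.exists_cover (sys (S := S) a ψ)
    (fun p K W _ _ _ _ _ π h hp => by
      have := h.henselianLocalRing
      have := K925.HullFacts.isSepClosed_residueField h
      have hflat : Module.Flat S W := Laz.flat (fun P _ _ _ φ => h.lazard P φ)
      have hf := isFixedRing S W lam hfix
      have hl := lamE_lamE S W lam hlam
      obtain ⟨u, v, h1, h2, h3⟩ := K925.WAlg.exists_inner hl hf hn (az S W hA) (psiE S W ψ)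
      refine ⟨![u, v], fun j => ?_⟩
      rcases j with _ | _ | i
      · change u * v - 1 = 0
        rw [h1, sub_self]
      · change v * u - 1 = 0
        rw [h2, sub_self]
      · change ((1 : W) ⊗ₜ[S] ψ (a i)) * u - u * ((1 : W) ⊗ₜ[S] (a i)) = 0
        rw [← h3, psiE_tmul, sub_self])
  refine ⟨E, i1, i2, i3, i4, x 0, x 1, sub_eq_zero.mp (hx (Sum.inl ())),
    sub_eq_zero.mp (hx (Sum.inr (Sum.inl ()))), fun y => ?_⟩
  have h4 : ∀ i, ((1 : E) ⊗ₜ[S] ψ (a i)) * x 0 = x 0 * ((1 : E) ⊗ₜ[S] (a i)) := fun i =>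
    sub_eq_zero.mp (hx (Sum.inr (Sum.inr i)))
  rw [← hac y, map_sum, TensorProduct.tmul_sum, TensorProduct.tmul_sum, Finset.sum_mul,
    Finset.mul_sum]
  refine Finset.sum_congr rfl fun i _ => ?_
  have h5 : (1 : E) ⊗ₜ[S] ψ (c i y • a i) = ((1 : E) ⊗ₜ[S] c i y) • ((1 : E) ⊗ₜ[S] ψ (a i)) := by
    rw [tmul_smul_tmul, one_mul, map_smul]
  have h6 : (1 : E) ⊗ₜ[S] (c i y • a i) = ((1 : E) ⊗ₜ[S] c i y) • ((1 : E) ⊗ₜ[S] (a i)) := by
    rw [tmul_smul_tmul, one_mul]
  rw [h5, h6, smul_mul_assoc, h4, mul_smul_comm]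

/-- From the relation on `A` to the relation on `E ⊗ A`. -/
theorem map_mul_eq (E : Type u') [CommRing E] [Algebra S E] (ψ : A →ₐ[R] A)
    {u : E ⊗[S] A} (h : ∀ a : A, ((1 : E) ⊗ₜ[S] ψ a) * u = u * ((1 : E) ⊗ₜ[S] a))
    (x : E ⊗[S] A) : psiE S E ψ x * u = u * x := by
  induction x using TensorProduct.induction_on with
  | zero => simp
  | tmul e a =>
    have h1 : e ⊗ₜ[S] ψ a = e • ((1 : E) ⊗ₜ[S] ψ a) := by
      rw [TensorProduct.smul_tmul', smul_eq_mul, mul_one]
    have h2 : e ⊗ₜ[S] a = e • ((1 : E) ⊗ₜ[S] a) := by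
      rw [TensorProduct.smul_tmul', smul_eq_mul, mul_one]
    rw [psiE_tmul, h1, h2, smul_mul_assoc, h, mul_smul_comm]
  | add x y hx hy => rw [map_add, add_mul, mul_add, hx, hy]

theorem comm_of_inv {B : Type*} [Ring B] {P Q : B} (h1 : P * Q = 1) (h2 : Q * P = 1)
    (h : ∀ x, P * x = x * P) (x : B) : Q * x = x * Q := by
  calc Q * x = Q * (x * P) * Q := by rw [mul_assoc Q, mul_assoc x, h1, mul_one]
    _ = Q * (P * x) * Q := by rw [h]
    _ = x * Q := by rw [← mul_assoc Q, h2, one_mul]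

/-- Automorphisms commuting with the involution are locally given by unitary elements. -/
theorem exists_unitary (hlam : ∀ r, lam (lam r) = r)
    (hfix : RInv.IsFixedRing S R lam.toRingEquiv)
    (hsq : ∀ (S₁ : Type u) [CommRing S₁] [Algebra S S₁] [Algebra.Etale S S₁] (x : S₁ˣ),
      ∃ (S₂ : Type u) (_ : CommRing S₂) (_ : Algebra S₁ S₂) (_ : Algebra.Etale S₁ S₂)
        (_ : Module.FaithfullyFlat S₁ S₂) (y : S₂), y * y = algebraMap S₁ S₂ ↑x)
    (hn : 0 < n) (hA : Az R A n) (t : LamInv R A lam) (ψ : A →ₐ[R] A)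
    (hψ : ∀ a, ψ (t a) = t (ψ a)) :
    ∃ (E : Type u) (_ : CommRing E) (_ : Algebra S E) (_ : Algebra.Etale S E)
      (_ : Module.FaithfullyFlat S E) (u v : E ⊗[S] A), u * v = 1 ∧ v * u = 1 ∧
        tE S E t u * u = 1 ∧
        ∀ a : A, ((1 : E) ⊗ₜ[S] ψ a) * u = u * ((1 : E) ⊗ₜ[S] a) := by
  obtain ⟨E, i1, i2, i3, i4, u, v, huv, hvu, hu⟩ := exists_inner hlam hfix hn hA ψ
  have hflat : Module.Flat S E := inferInstance
  have hfixE := isFixedRing S E lam hfix
  set τ := tE S E t with hτ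
  -- `t(u) u` is central
  have hτψ : ∀ x, τ (psiE S E ψ x) = psiE S E ψ (τ x) := by
    intro x
    induction x using TensorProduct.induction_on with
    | zero => rw [map_zero, τ.map_zero, map_zero]
    | tmul e a => rw [psiE_tmul, hτ, tE_tmul, tE_tmul, psiE_tmul, hψ]
    | add x y hx hy => rw [map_add, τ.map_add, τ.map_add, map_add, hx, hy]
  have hcomm : ∀ x, τ u * u * x = x * (τ u * u) := by
    intro x
    have h1 := map_mul_eq E ψ hu x
    have h2 := map_mul_eq E ψ hu (τ x)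
    have h3 := congrArg τ h1
    rw [τ.map_mul, τ.map_mul, hτψ] at h3
    -- h3 : τ u * ψ (τ x) = τ x * τ u ; h2 : ψ (τ x) * u = u * τ x
    have h4 : τ u * u * τ x = τ x * (τ u * u) := by
      rw [mul_assoc, ← h2, ← mul_assoc, h3, mul_assoc]
    have h5 := congrArg τ h4
    have h6 : τ (τ u * u) = τ u * u := by rw [τ.map_mul, τ.invol]
    rw [τ.map_mul, τ.map_mul (τ x), h6, τ.invol] at h5
    exact h5.symm
  obtain ⟨γ, hγ⟩ := exists_algebraMap_eq hn (az S E hA) (z := τ u * u) hcomm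
  have hinj := injective_algebraMap hn (az S E hA)
  have hγfix : lamE S E lam γ = γ := by
    apply hinj
    rw [← τ.map_algebraMap, hγ, τ.map_mul, τ.invol]
  obtain ⟨ε, hε⟩ := K925.WLevel.mem_of_fixed hfixE hγfix
  have hγu : IsUnit γ := by
    -- the inverse is `v * τ v`
    have h1 : (τ u * u) * (v * τ v) = 1 := by
      calc (τ u * u) * (v * τ v) = τ u * (u * v) * τ v := by simp only [mul_assoc]
        _ = τ (v * u) := by rw [huv, mul_one, τ.map_mul]
        _ = 1 := by rw [hvu, τ.map_one]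
    have h2 : (v * τ v) * (τ u * u) = 1 := by
      calc (v * τ v) * (τ u * u) = v * (τ v * τ u) * u := by simp only [mul_assoc]
        _ = v * τ (u * v) * u := by rw [τ.map_mul]
        _ = 1 := by rw [huv, τ.map_one, mul_one, hvu]
    have hcomm' : ∀ x, (v * τ v) * x = x * (v * τ v) := comm_of_inv h1 h2 hcomm
    obtain ⟨δ, hδ⟩ := exists_algebraMap_eq hn (az S E hA) (z := v * τ v) hcomm'
    refine IsUnit.of_mul_eq_one δ (hinj ?_)
    rw [map_mul, hγ, hδ, h1, map_one]
  have hεu : IsUnit ε := K925.WLevel.isUnit_of_isUnit_algebraMap hfixE (by rw [hε]; exact hγu)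
  obtain ⟨e, he⟩ := hεu
  obtain ⟨S₂, j1, j2, j3, j4, y, hy⟩ := hsq E e
  let _ : Algebra S S₂ := ((algebraMap E S₂).comp (algebraMap S E)).toAlgebra
  have : IsScalarTower S E S₂ := IsScalarTower.of_algebraMap_eq fun _ => rfl
  have : Algebra.Etale S S₂ := Algebra.Etale.comp S E S₂
  have : Module.FaithfullyFlat S S₂ := Module.FaithfullyFlat.trans S E S₂
  let f : E →ₐ[S] S₂ := IsScalarTower.toAlgHom S E S₂
  have hyu : IsUnit y := by
    apply isUnit_of_mul_isUnit_left (y := y)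
    rw [hy]
    exact e.isUnit.map _
  obtain ⟨z, hz⟩ := hyu.exists_right_inv
  have hz' : z * y = 1 := by rw [mul_comm]; exact hz
  have hbτ : ∀ x, bc f A (τ x) = tE S S₂ t (bc f A x) := fun x => bc_baseChange f (t.linS S lam) x
  have hbu : bc f A (τ u * u) = (y * y) ⊗ₜ[S] (1 : A) := by
    rw [← hγ, ← hε, hy, he]
    change bc f A (str S R A E (ε ⊗ₜ[S] (1 : R))) = _
    rw [str_tmul, map_one, bc_tmul]
    rfl
  have hsmul : ∀ (c : S₂) (x : S₂ ⊗[S] A), tE S S₂ t (c • x) = c • tE S S₂ t x := fun c x =>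
    map_smul (t.bc S lam S₂) c x
  refine ⟨S₂, inferInstance, inferInstance, inferInstance, inferInstance, z • bc f A u,
    y • bc f A v, ?_, ?_, ?_, fun a => ?_⟩
  · rw [smul_mul_smul_comm, hz', one_smul, ← bc_mul, huv, bc_one]
  · rw [smul_mul_smul_comm, hz, one_smul, ← bc_mul, hvu, bc_one]
  · rw [hsmul, ← hbτ, smul_mul_smul_comm, ← bc_mul, hbu, TensorProduct.smul_tmul', smul_eq_mul]
    have : z * z * (y * y) = 1 := by
      calc z * z * (y * y) = (z * y) * (z * y) := by ring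
        _ = 1 := by rw [hz', one_mul]
    rw [this, Algebra.TensorProduct.one_def]
  · have h7 := congrArg (bc f A) (hu a)
    rw [bc_mul, bc_mul, bc_tmul, bc_tmul, map_one] at h7
    rw [mul_smul_comm, h7, smul_mul_assoc]

end

end K925.Inner
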