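import Mathlib.LinearAlgebra.Matrix.ToLinearEquiv
import Mathlib.LinearAlgebra.Matrix.NonsingularInverse
import Mathlib.RingTheory.LocalRing.ResidueField.Basic
import Mathlib.Data.Matrix.Basis

/-!
# Skolem-Noether for matrix algebras over local rings
-/

set_option autoImplicit false

universe u v w

namespace K925.SkNo

open Matrix

variable {T : Type*} [CommRing T] {n : Type*} [Fintype n] [DecidableEq n]

section intertwiner

variable (ψ : Matrix n n T →ₐ[T] Matrix n n T) (i0 : n) (W : Matrix n n T)

/-- the intertwiner attached to a matrix `W` -/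
noncomputable def intw : Matrix n n T :=
  ∑ i, ψ (single i i0 1) * W * single i0 i 1

theorem intw_mul_single (k l : n) :
    intw ψ i0 W * single k l 1 = ψ (single k i0 1) * W * single i0 l 1 := by
  rw [intw, Finset.sum_mul, Finset.sum_eq_single k]
  · rw [mul_assoc, single_mul_single_same, mul_one]
  · intro i _ hi
    rw [mul_assoc, single_mul_single_of_ne _ _ _ _ hi, mul_zero]
  · intro h; exact (h (Finset.mem_univ _)).elim

theorem single_mul_intw (k l : n) :
    ψ (single k l 1) * intw ψ i0 W = ψ (single k i0 1) * W * single i0 l 1 := by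
  rw [intw, Finset.mul_sum, Finset.sum_eq_single l]
  · rw [← mul_assoc, ← mul_assoc, ← map_mul, single_mul_single_same, mul_one]
  · intro i _ hi
    rw [← mul_assoc, ← mul_assoc, ← map_mul, single_mul_single_of_ne _ _ _ _ (Ne.symm hi),
      map_zero, zero_mul, zero_mul]
  · intro h; exact (h (Finset.mem_univ _)).elim

theorem map_mul_intw (x : Matrix n n T) : ψ x * intw ψ i0 W = intw ψ i0 W * x := by
  have h : ∀ k l (t : T), ψ (single k l t) * intw ψ i0 W = intw ψ i0 W * single k l t := by
    intro k l t
    have : single k l t = t • single k l (1 : T) := by rw [smul_single, smul_eq_mul, mul_one]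
    rw [this, map_smul, smul_mul_assoc, mul_smul_comm, single_mul_intw, intw_mul_single]
  rw [matrix_eq_sum_single x]
  simp only [map_sum, Finset.sum_mul, Finset.mul_sum, h]

end intertwiner

/-- **Skolem-Noether** for matrix algebras over a local ring. -/
theorem exists_unit [IsLocalRing T] (ψ : Matrix n n T →ₐ[T] Matrix n n T) :
    ∃ u : (Matrix n n T)ˣ, ∀ x, ψ x = (u : Matrix n n T) * x * ((u⁻¹ : (Matrix n n T)ˣ) :
      Matrix n n T) := by
  classical
  rcases isEmpty_or_nonempty n with hn | ⟨⟨i0⟩⟩
  · exact ⟨1, fun x => Subsingleton.elim _ _⟩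
  let K := IsLocalRing.ResidueField T
  let r : Matrix n n T →+* Matrix n n K := (IsLocalRing.residue T).mapMatrix
  have hr : ∀ (M : Matrix n n T) a b, r M a b = IsLocalRing.residue T (M a b) := fun M a b => rfl
  -- a unit entry of `ψ (single i0 i0 1)`
  obtain ⟨j, k, hjk⟩ : ∃ j k, IsUnit (ψ (single i0 i0 1) j k) := by
    by_contra hcon
    push Not at hcon
    have h0 : r (ψ (single i0 i0 1)) = 0 := by
      ext j k
      exact (IsLocalRing.residue_eq_zero_iff _).mpr ((IsLocalRing.mem_maximalIdeal _).mpr
        (hcon j k))
    have h1 : (1 : Matrix n n T) = ∑ i, ψ (single i i0 1) * ψ (single i0 i0 1) *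
        ψ (single i0 i 1) := by
      simp only [← map_mul, single_mul_single_same, mul_one, ← map_sum]
      rw [show (∑ i, single i i (1 : T)) = (1 : Matrix n n T) by
        rw [← diagonal_one, ← sum_single_eq_diagonal], map_one]
    have h2 : (1 : Matrix n n K) = 0 := by
      rw [← map_one r, h1]
      simp only [map_sum, map_mul, h0, mul_zero, zero_mul, Finset.sum_const_zero]
    have h6 := congrFun (congrFun h2 i0) i0
    simp at h6
  let W : Matrix n n T := single k i0 1
  let u : Matrix n n T := intw ψ i0 W
  have hu : ∀ x, ψ x * u = u * x := map_mul_intw ψ i0 W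
  have hu1 : (u * (single i0 i0 1 : Matrix n n T) : Matrix n n T) j i0 =
      ψ (single i0 i0 1) j k := by
    have h7 : (u * (single i0 i0 1 : Matrix n n T) : Matrix n n T) =
        ψ (single i0 i0 1) * W * single i0 i0 1 := intw_mul_single ψ i0 W i0 i0
    rw [h7, mul_assoc, single_mul_single_same]
    simp
  have hdet : IsUnit u.det := by
    rw [← IsLocalRing.residue_ne_zero_iff_isUnit, RingHom.map_det]
    intro hd
    obtain ⟨x, hx, hux⟩ := Matrix.exists_mulVec_eq_zero_iff.mpr hd
    obtain ⟨l, hl⟩ : ∃ l, x l ≠ 0 := by
      by_contra hcon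
      push Not at hcon
      exact hx (funext hcon)
    have key : ∀ y : Matrix n n T, r u *ᵥ (r y *ᵥ x) = 0 := by
      intro y
      rw [mulVec_mulVec, ← map_mul, ← hu, map_mul, ← mulVec_mulVec]
      change r (ψ y) *ᵥ ((IsLocalRing.residue T).mapMatrix u *ᵥ x) = 0
      rw [hux, mulVec_zero]
    -- so `r u` kills every vector
    have hall : ∀ a : n, ∀ c, r u c a = 0 := by
      intro a c
      have h1 := key (single a l 1)
      have h2 : r (single a l 1) *ᵥ x = Pi.single a (x l) := by
        have h3 : r (single a l 1) = single a l 1 := by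
          ext p q
          rw [hr, single_apply, single_apply]
          split_ifs <;> simp
        rw [h3]
        ext p
        by_cases hp : p = a
        · subst hp; simp [mulVec, dotProduct, single_apply]
        · simp [mulVec, dotProduct, single_apply, hp, Ne.symm hp]
      rw [h2] at h1
      have h4 := congrFun h1 c
      rw [mulVec_single] at h4
      simpa [hl] using h4
    have h5 := hall i0 j
    rw [hr] at h5
    have h6 : (u * (single i0 i0 1 : Matrix n n T) : Matrix n n T) j i0 = u j i0 := by simp
    rw [← h6, hu1] at h5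
    exact (IsLocalRing.residue_ne_zero_iff_isUnit _).mpr hjk h5
  let U : (Matrix n n T)ˣ := Matrix.nonsingInvUnit u hdet
  refine ⟨U, fun x => ?_⟩
  have hU : (U : Matrix n n T) = u := rfl
  rw [hU, ← hu, mul_assoc, ← hU, Units.mul_inv, mul_one]

end K925.SkNo
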