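import Groth.Agent.AzInv.K925.Forms3
import Groth.Agent.AzInv.K925.SkNo
import Groth.Prelude.Def_AzInv

/-!
# Involutions of matrix algebras over local rings
-/

set_option autoImplicit false
set_option linter.unusedSectionVars false

universe u v w

namespace K925.Inv

open Matrix AzInv K925.Forms K925.Forms2 K925.Forms3

section transport

variable {T : Type*} [CommRing T] {lam : T → T} {B : Type*} [Ring B] [Algebra T B]
  {B' : Type*} [Ring B'] [Algebra T B']

/-- Transport of an involution along an isomorphism. -/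
def transport (φ : B ≃ₐ[T] B') (τ : LamInv T B lam) : LamInv T B' lam where
  toFun x := φ (τ (φ.symm x))
  map_add' a b := by rw [map_add, τ.map_add, map_add]
  map_mul' a b := by rw [map_mul, τ.map_mul, map_mul]
  map_smul' r a := by rw [map_smul, τ.map_smul, map_smul]
  invol' a := by rw [AlgEquiv.symm_apply_apply, τ.invol, AlgEquiv.apply_symm_apply]

@[simp] theorem transport_apply (φ : B ≃ₐ[T] B') (τ : LamInv T B lam) (x : B') :
    transport φ τ x = φ (τ (φ.symm x)) := rfl

end transport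

variable {T : Type*} [CommRing T] [StarRing T] {n : Type} [Fintype n] [DecidableEq n]

/-- Involutions of matrix algebras over local rings are adjoint involutions. -/
theorem exists_normal_form [IsLocalRing T] [Nonempty n]
    (τ : LamInv T (Matrix n n T) (star : T → T)) :
    ∃ (w w' : Matrix n n T) (e : T), w * w' = 1 ∧ w' * w = 1 ∧ wᴴ = e • w ∧ star e * e = 1 ∧
      ∀ x, τ x = w * xᴴ * w' := by
  let ψ : Matrix n n T →ₐ[T] Matrix n n T :=
    AlgHom.ofLinearMap
      { toFun := fun x => τ xᴴ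
        map_add' := fun x y => by rw [conjTranspose_add, τ.map_add]
        map_smul' := fun c x => by
          rw [conjTranspose_smul, τ.map_smul, star_star, RingHom.id_apply] }
      (by
        change τ (1 : Matrix n n T)ᴴ = 1
        rw [conjTranspose_one, τ.map_one])
      (fun x y => by
        change τ (x * y)ᴴ = τ xᴴ * τ yᴴ
        rw [conjTranspose_mul, τ.map_mul])
  obtain ⟨u, hu⟩ := K925.SkNo.exists_unit ψ
  obtain ⟨w, w', hww', hw'w⟩ := u
  have hτ : ∀ x, τ x = w * xᴴ * w' := fun x => by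
    have := hu xᴴ
    change τ (xᴴᴴ) = w * xᴴ * w' at this
    rwa [conjTranspose_conjTranspose] at this
  have hcomm : ∀ x, x * (wᴴ * w') = (wᴴ * w') * x := by
    intro x
    have h := τ.invol x
    rw [hτ, hτ, conjTranspose_mul, conjTranspose_mul, conjTranspose_conjTranspose] at h
    have h1 : wᴴ * w'ᴴ = 1 := by rw [← conjTranspose_mul, hw'w, conjTranspose_one]
    symm
    calc (wᴴ * w') * x = (wᴴ * w') * (w * (w'ᴴ * (x * wᴴ)) * w') := by rw [h]
      _ = wᴴ * (w' * w) * w'ᴴ * x * wᴴ * w' := by simp only [Matrix.mul_assoc]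
      _ = (wᴴ * w'ᴴ) * x * wᴴ * w' := by rw [hw'w, Matrix.mul_one]
      _ = x * (wᴴ * w') := by rw [h1, Matrix.one_mul, Matrix.mul_assoc]
  obtain ⟨e, he⟩ := mem_range_scalar_of_commute_single (M := wᴴ * w')
    (fun i j _ => hcomm (single i j 1))
  have hw : wᴴ = e • w := by
    calc wᴴ = wᴴ * w' * w := by rw [Matrix.mul_assoc, hw'w, Matrix.mul_one]
      _ = e • w := by
        rw [← he, scalar_apply, ← smul_one_eq_diagonal, Matrix.smul_mul, Matrix.one_mul]
  refine ⟨w, w', e, hww', hw'w, hw, ?_, hτ⟩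
  have h2 : w = (star e * e) • w := by
    conv_lhs => rw [← conjTranspose_conjTranspose w, hw, conjTranspose_smul, hw, smul_smul]
  have h3 : (1 : Matrix n n T) = (star e * e) • (1 : Matrix n n T) := by
    calc (1 : Matrix n n T) = w * w' := hww'.symm
      _ = ((star e * e) • w) * w' := by rw [← h2]
      _ = _ := by rw [Matrix.smul_mul, hww']
  obtain ⟨i⟩ := ‹Nonempty n›
  have h4 := congrFun (congrFun h3 i) i
  rw [Matrix.smul_apply, one_apply_eq, smul_eq_mul, mul_one] at h4
  exact h4.symm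

/-- Adjoint involutions of isometric forms are isomorphic. -/
theorem iso_of_cong {h g h' g' : Matrix n n T} (gh : g * h = 1)
    (h'g' : h' * g' = 1) (τ τ' : LamInv T (Matrix n n T) (star : T → T))
    (hτ : ∀ x, τ x = h * xᴴ * g) (hτ' : ∀ x, τ' x = h' * xᴴ * g') (hc : Cong h h') :
    ∃ φ : Matrix n n T ≃ₐ[T] Matrix n n T, ∀ x, φ (τ x) = τ' (φ x) := by
  obtain ⟨v, w, hvw, hwv, hv⟩ := hc
  refine ⟨AlgEquiv.ofAlgHom
    (AlgHom.ofLinearMap
      { toFun := fun x => v * x * w
        map_add' := fun x y => by rw [Matrix.mul_add, Matrix.add_mul]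
        map_smul' := fun c x => by rw [Matrix.mul_smul, Matrix.smul_mul, RingHom.id_apply] }
      (by change v * 1 * w = 1; rw [Matrix.mul_one, hvw])
      (fun x y => by
        change v * (x * y) * w = (v * x * w) * (v * y * w)
        calc v * (x * y) * w = v * x * 1 * y * w := by simp only [Matrix.mul_assoc, Matrix.one_mul]
          _ = _ := by rw [← hwv]; simp only [Matrix.mul_assoc]))
    (AlgHom.ofLinearMap
      { toFun := fun x => w * x * v
        map_add' := fun x y => by rw [Matrix.mul_add, Matrix.add_mul]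
        map_smul' := fun c x => by rw [Matrix.mul_smul, Matrix.smul_mul, RingHom.id_apply] }
      (by change w * 1 * v = 1; rw [Matrix.mul_one, hwv])
      (fun x y => by
        change w * (x * y) * v = (w * x * v) * (w * y * v)
        calc w * (x * y) * v = w * x * 1 * y * v := by simp only [Matrix.mul_assoc, Matrix.one_mul]
          _ = _ := by rw [← hvw]; simp only [Matrix.mul_assoc]))
    (by
      apply AlgHom.ext
      intro x
      change v * (w * x * v) * w = x
      calc v * (w * x * v) * w = (v * w) * x * (v * w) := by simp only [Matrix.mul_assoc]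
        _ = x := by rw [hvw, Matrix.one_mul, Matrix.mul_one])
    (by
      apply AlgHom.ext
      intro x
      change w * (v * x * w) * v = x
      calc w * (v * x * w) * v = (w * v) * x * (w * v) := by simp only [Matrix.mul_assoc]
        _ = x := by rw [hwv, Matrix.one_mul, Matrix.mul_one]), ?_⟩
  intro x
  change v * τ x * w = τ' (v * x * w)
  rw [hτ, hτ']
  have h1 : vᴴ * g' = g * w := by
    have h2 : h * (vᴴ * g') = w := by
      calc h * (vᴴ * g') = (w * v) * h * vᴴ * g' := by
            rw [hwv, Matrix.one_mul]; simp only [Matrix.mul_assoc]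
        _ = w * ((v * h * vᴴ) * g') := by simp only [Matrix.mul_assoc]
        _ = w := by rw [hv, h'g', Matrix.mul_one]
    calc vᴴ * g' = (g * h) * (vᴴ * g') := by rw [gh, Matrix.one_mul]
      _ = g * w := by rw [Matrix.mul_assoc, h2]
  have h3 : vᴴ * wᴴ = 1 := by rw [← conjTranspose_mul, hwv, conjTranspose_one]
  calc v * (h * xᴴ * g) * w = v * h * xᴴ * (g * w) := by simp only [Matrix.mul_assoc]
    _ = v * h * (vᴴ * wᴴ) * xᴴ * (vᴴ * g') := by rw [h1, h3, Matrix.mul_one]
    _ = (v * h * vᴴ) * (wᴴ * xᴴ * vᴴ) * g' := by simp only [Matrix.mul_assoc]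
    _ = h' * (v * x * w)ᴴ * g' := by
        rw [hv, conjTranspose_mul, conjTranspose_mul]; simp only [Matrix.mul_assoc]

/-- Rescaling an adjoint involution. -/
theorem exists_rescale {w w' : Matrix n n T} {e : T} (h1 : w * w' = 1) (h2 : w' * w = 1)
    (hw : wᴴ = e • w) {d ε : T} (hd : IsUnit d) (hde : star d * e = ε * d)
    {τ : LamInv T (Matrix n n T) (star : T → T)} (hτ : ∀ x, τ x = w * xᴴ * w') :
    ∃ h g : Matrix n n T, h * g = 1 ∧ g * h = 1 ∧ hᴴ = ε • h ∧ ∀ x, τ x = h * xᴴ * g := by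
  obtain ⟨d', hd'⟩ := hd.exists_right_inv
  refine ⟨d • w, d' • w', ?_, ?_, ?_, ?_⟩
  · rw [Matrix.smul_mul, Matrix.mul_smul, h1, smul_smul, hd', one_smul]
  · rw [Matrix.smul_mul, Matrix.mul_smul, h2, smul_smul, mul_comm d', hd', one_smul]
  · rw [conjTranspose_smul, hw, smul_smul, hde, smul_smul]
  · intro x
    rw [hτ, Matrix.smul_mul, Matrix.smul_mul, Matrix.mul_smul, smul_smul, hd', one_smul]

section local_

variable [IsLocalRing T]

/-- Odd degree: the involution is adjoint to a hermitian form. -/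
theorem exists_herm_of_odd {k : ℕ} (τ : LamInv T (Matrix (Fin (2 * k + 1)) (Fin (2 * k + 1)) T)
      (star : T → T)) :
    ∃ h g : Matrix (Fin (2 * k + 1)) (Fin (2 * k + 1)) T,
      h * g = 1 ∧ g * h = 1 ∧ hᴴ = h ∧ ∀ x, τ x = h * xᴴ * g := by
  obtain ⟨w, w', e, h1, h2, hw, he, hτ⟩ := exists_normal_form τ
  have hdu : IsUnit w.det := by
    rw [← Matrix.isUnit_iff_isUnit_det]
    exact IsUnit.of_mul_eq_one _ h1
  have heu : IsUnit e := IsUnit.of_mul_eq_one_right _ he
  obtain ⟨d', hd'⟩ := (hdu.mul (heu.pow k)).exists_right_inv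
  have hdet : star w.det = e ^ (2 * k + 1) * w.det := by
    rw [← det_conjTranspose, hw, det_smul, Fintype.card_fin]
  have hek : star (e ^ k) * e ^ k = 1 := by rw [star_pow, ← mul_pow, he, one_pow]
  have hstar : star (w.det * e ^ k) = e * (w.det * e ^ k) := by
    rw [star_mul', hdet]
    calc e ^ (2 * k + 1) * w.det * star (e ^ k)
        = (star (e ^ k) * e ^ k) * (e ^ (k + 1) * w.det) := by ring
      _ = _ := by rw [hek]; ring
  have hd's : star d' * e = 1 * d' := by
    have h3 : star d' * (e * (w.det * e ^ k)) = 1 := by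
      rw [← hstar, ← star_mul', mul_comm d', hd', star_one]
    calc star d' * e = star d' * e * (w.det * e ^ k * d') := by rw [hd', mul_one]
      _ = (star d' * (e * (w.det * e ^ k))) * d' := by ring
      _ = 1 * d' := by rw [h3]
  obtain ⟨h, g, h3, h4, h5, h6⟩ := exists_rescale h1 h2 hw
    (IsUnit.of_mul_eq_one_right _ hd') hd's hτ
  exact ⟨h, g, h3, h4, by rw [h5, one_smul], h6⟩

/-- `2` invertible: the involution is adjoint to a hermitian or a skew-hermitian form. -/
theorem exists_herm_or_skew [Nonempty n] (h2 : IsUnit (2 : T))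
    (τ : LamInv T (Matrix n n T) (star : T → T)) :
    ∃ (h g : Matrix n n T) (ε : T), (ε = 1 ∨ ε = -1) ∧
      h * g = 1 ∧ g * h = 1 ∧ hᴴ = ε • h ∧ ∀ x, τ x = h * xᴴ * g := by
  obtain ⟨w, w', e, h1, h2', hw, he, hτ⟩ := exists_normal_form τ
  have h3 : IsUnit (1 + e) ∨ IsUnit (1 + -e) := by
    apply IsLocalRing.isUnit_or_isUnit_of_isUnit_add
    have : 1 + e + (1 + -e) = (2 : T) := by ring
    rwa [this]
  rcases h3 with h3 | h3
  · obtain ⟨h, g, h4, h5, h6, h7⟩ := exists_rescale h1 h2' hw h3 (ε := 1) (by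
      rw [star_add, star_one]
      linear_combination he) hτ
    exact ⟨h, g, 1, Or.inl rfl, h4, h5, h6, h7⟩
  · obtain ⟨h, g, h4, h5, h6, h7⟩ := exists_rescale h1 h2' hw h3 (ε := -1) (by
      rw [star_add, star_one, star_neg]
      linear_combination -he) hτ
    exact ⟨h, g, -1, Or.inr rfl, h4, h5, h6, h7⟩

variable (hst : ∀ x : T, star x - x ∈ IsLocalRing.maximalIdeal T)
  (hsq : ∀ c : T, IsUnit c → star c = c → ∃ s, star s = s ∧ s * s = c)

include hst hsq

/-- Odd degree: all involutions are isomorphic. -/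
theorem iso_of_odd {m : ℕ} (hm : Odd m)
    (τ τ' : LamInv T (Matrix (Fin m) (Fin m) T) (star : T → T)) :
    ∃ φ : Matrix (Fin m) (Fin m) T ≃ₐ[T] Matrix (Fin m) (Fin m) T,
      ∀ x, φ (τ x) = τ' (φ x) := by
  obtain ⟨k, rfl⟩ := hm
  obtain ⟨h, g, h1, h2, h3, h4⟩ := exists_herm_of_odd τ
  obtain ⟨h', g', h1', h2', h3', h4'⟩ := exists_herm_of_odd τ'
  have hu : IsUnit h := IsUnit.of_mul_eq_one _ h1
  have hu' : IsUnit h' := IsUnit.of_mul_eq_one _ h1'
  have ho : Odd (2 * k + 1) := ⟨k, rfl⟩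
  exact iso_of_cong h2 h1' τ τ' h4 h4' (herm_cong hsq h h' rfl hu hu' h3 h3'
    (Or.inr (NA_of_odd hst ho h3 hu)) (Or.inr (NA_of_odd hst ho h3' hu')))

/-- `2` invertible: involutions of the same sign are isomorphic. -/
theorem iso_of_sign [Nonempty n] (h2 : IsUnit (2 : T))
    (τ τ' : LamInv T (Matrix n n T) (star : T → T))
    (hsign : ∀ (h g h' g' : Matrix n n T) (ε ε' : T), (ε = 1 ∨ ε = -1) → (ε' = 1 ∨ ε' = -1) →
      h * g = 1 → h' * g' = 1 → hᴴ = ε • h → h'ᴴ = ε' • h' → (∀ x, τ x = h * xᴴ * g) →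
      (∀ x, τ' x = h' * xᴴ * g') → ε = ε') :
    ∃ φ : Matrix n n T ≃ₐ[T] Matrix n n T, ∀ x, φ (τ x) = τ' (φ x) := by
  obtain ⟨h, g, ε, hε, h1, h3, h4, h5⟩ := exists_herm_or_skew h2 τ
  obtain ⟨h', g', ε', hε', h1', h3', h4', h5'⟩ := exists_herm_or_skew h2 τ'
  have := hsign h g h' g' ε ε' hε hε' h1 h1' h4 h4' h5 h5'
  subst this
  have hu : IsUnit h := IsUnit.of_mul_eq_one _ h1
  have hu' : IsUnit h' := IsUnit.of_mul_eq_one _ h1'
  refine iso_of_cong h3 h1' τ τ' h5 h5' ?_
  rcases hε with rfl | rfl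
  · rw [one_smul] at h4 h4'
    exact herm_cong hsq h h' rfl hu hu' h4 h4' (Or.inr (NA_of_two hst h4 hu h2))
      (Or.inr (NA_of_two hst h4' hu' h2))
  · rw [neg_smul, one_smul] at h4 h4'
    exact skew_cong h2 hst hsq _ h h' rfl rfl hu hu' h4 h4'

end local_

end K925.Inv
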