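import Groth.Agent.AzInv.K925.Sgn
import Mathlib.RingTheory.Spectrum.Prime.FreeLocus

/-!
# Local constancy of the sign
-/

set_option autoImplicit false

universe u v w w' u'

namespace K925.LocConst

open scoped TensorProduct
open AzInv K925.AzBasic K925.AzLocal K925.Sign K925.FixDim Module

noncomputable section

variable {R : Type v} [CommRing R] {A : Type w} [Ring A] [Algebra R A] {lam : R → R}
  (t : LamInv R A lam)

section tC

variable {C : Type u'} [CommRing C] [Algebra R C]
  (hC : ∀ r, algebraMap R C (lam r) = algebraMap R C r)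

/-- The linear map induced on `C ⊗ A`. -/
def tC : C ⊗[R] A →ₗ[C] C ⊗[R] A :=
  TensorProduct.AlgebraTensorModule.lift
    { toFun := fun k =>
        { toFun := fun a => k ⊗ₜ[R] t a
          map_add' := fun a b => by rw [t.map_add, TensorProduct.tmul_add]
          map_smul' := fun r a => by
            rw [t.map_smul, TensorProduct.tmul_smul, TensorProduct.smul_tmul', RingHom.id_apply,
              TensorProduct.smul_tmul', Algebra.smul_def, hC, Algebra.smul_def] }
      map_add' := fun k l => by
        ext a
        exact TensorProduct.add_tmul _ _ _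
      map_smul' := fun k l => by
        ext a
        rfl }

@[simp] theorem tC_tmul (k : C) (a : A) : tC t hC (k ⊗ₜ[R] a) = k ⊗ₜ[R] t a := rfl

theorem tC_tC (x : C ⊗[R] A) : tC t hC (tC t hC x) = x := by
  induction x using TensorProduct.induction_on with
  | zero => simp
  | tmul k a => simp
  | add x y hx hy => rw [map_add, map_add, hx, hy]

/-- The fixed module. -/
abbrev M : Submodule C (C ⊗[R] A) := LinearMap.eqLocus (tC t hC) LinearMap.id

variable {q : C} (hq : 2 * q = 1)

/-- The projection to the fixed module. -/
def proj (q : C) (hq : 2 * q = 1) : C ⊗[R] A →ₗ[C] M t hC :=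
  LinearMap.codRestrict (M t hC) (q • (LinearMap.id + tC t hC)) (fun x => by
    change tC t hC (q • (x + tC t hC x)) = q • (x + tC t hC x)
    rw [map_smul, map_add, tC_tC, add_comm])

theorem proj_apply (x : C ⊗[R] A) :
    (proj t hC q hq x : C ⊗[R] A) = q • (x + tC t hC x) := rfl

theorem proj_of_mem (x : M t hC) : proj t hC q hq x = x := by
  apply Subtype.ext
  have hx : tC t hC (x : C ⊗[R] A) = x := x.2
  rw [proj_apply, hx, ← two_smul C, smul_smul, mul_comm, hq, one_smul]

include hq

theorem finite_M [Module.Finite R A] : Module.Finite C (M t hC) :=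
  Module.Finite.of_surjective (proj t hC q hq) (fun x => ⟨x, proj_of_mem t hC hq x⟩)

theorem projective_M [Module.Projective R A] : Module.Projective C (M t hC) :=
  Module.Projective.of_split (M t hC).subtype (proj t hC q hq) (by
    ext1 x
    exact proj_of_mem t hC hq x)

end tC

section tower

variable {C : Type u'} [CommRing C] [Algebra R C]
  (hC : ∀ r, algebraMap R C (lam r) = algebraMap R C r) {q : C} (hq : 2 * q = 1)
  {K : Type w'} [Field K] [Algebra R K] [Algebra C K] [IsScalarTower R C K]
  (hK : ∀ r, algebraMap R K (lam r) = algebraMap R K r)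

include hq in
/-- The dimension is the rank of the fixed module. -/
theorem dK_eq_finrank : dK t hK = finrank K (K ⊗[C] M t hC) := by
  let L := (tC t hC).baseChange K
  have h1 : dK t hK = dF L := by
    rw [dK]
    symm
    refine dF_congr (TensorProduct.AlgebraTensorModule.cancelBaseChange R C K K A) fun x => ?_
    induction x using TensorProduct.induction_on with
    | zero => simp
    | tmul k y =>
      induction y using TensorProduct.induction_on with
      | zero => simp
      | tmul l a => simp [L]
      | add y z hy hz =>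
        rw [TensorProduct.tmul_add, map_add, map_add, map_add, map_add, hy, hz]
    | add x y hx hy => rw [map_add, map_add, map_add, map_add, hx, hy]
  rw [h1, dF]
  symm
  let i : K ⊗[C] M t hC →ₗ[K] K ⊗[C] (C ⊗[R] A) := (M t hC).subtype.baseChange K
  let s : K ⊗[C] (C ⊗[R] A) →ₗ[K] K ⊗[C] M t hC := (proj t hC q hq).baseChange K
  have hsi : ∀ x, s (i x) = x := by
    intro x
    induction x using TensorProduct.induction_on with
    | zero => simp
    | tmul k y =>
      change k ⊗ₜ[C] (proj t hC q hq y) = k ⊗ₜ[C] y
      rw [proj_of_mem]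
    | add x y hx hy => rw [map_add, map_add, hx, hy]
  have hLi : ∀ x, L (i x) = i x := by
    intro x
    induction x using TensorProduct.induction_on with
    | zero => simp
    | tmul k y =>
      change k ⊗ₜ[C] (tC t hC y) = k ⊗ₜ[C] (y : C ⊗[R] A)
      rw [show tC t hC (y : C ⊗[R] A) = y from y.2]
    | add x y hx hy => rw [map_add, map_add, hx, hy]
  have his : ∀ x, i (s x) = algebraMap C K q • (x + L x) := by
    intro x
    induction x using TensorProduct.induction_on with
    | zero => simp
    | tmul k y =>
      change k ⊗ₜ[C] (q • (y + tC t hC y)) = algebraMap C K q • (k ⊗ₜ[C] y + k ⊗ₜ[C] (tC t hC y))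
      rw [← TensorProduct.tmul_add, algebraMap_smul, TensorProduct.tmul_smul]
    | add x y hx hy => rw [map_add, map_add, hx, hy, map_add, ← smul_add]; congr 1; abel
  have hq' : (2 : K) * algebraMap C K q = 1 := by
    have := congrArg (algebraMap C K) hq
    rwa [map_mul, map_ofNat, map_one] at this
  let e : K ⊗[C] M t hC ≃ₗ[K] LinearMap.eqLocus L LinearMap.id :=
    LinearEquiv.ofLinearMap (LinearMap.codRestrict _ i hLi)
      (s ∘ₗ (LinearMap.eqLocus L LinearMap.id).subtype)
      (by
        ext1 x
        apply Subtype.ext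
        change i (s x) = x
        have hx : L (x : K ⊗[C] (C ⊗[R] A)) = x := x.2
        rw [his, hx, ← two_smul K, smul_smul, mul_comm, hq', one_smul])
      (LinearMap.ext fun y => hsi y)
  exact e.finrank_eq

include hq in
theorem dK_eq_rankAtStalk [Module.Finite R A] [Module.Projective R A] (x : PrimeSpectrum C)
    (hx : RingHom.ker (algebraMap C K) = x.asIdeal) :
    dK t hK = rankAtStalk (R := C) (M t hC) x := by
  have := finite_M t hC hq
  have := projective_M t hC hq
  rw [dK_eq_finrank t hC hq hK]
  have h5 := Module.rankAtStalk_baseChange (R := C) (M := M t hC) (S := K)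
    ⟨⊥, Ideal.isPrime_bot⟩
  rw [Module.rankAtStalk_eq_finrank_of_free] at h5
  have h6 : (PrimeSpectrum.comap (algebraMap C K) ⟨⊥, Ideal.isPrime_bot⟩) = x := by
    ext1
    rw [← hx]
    rfl
  rw [h6] at h5
  exact h5

end tower

/-- Local constancy of the dimension. -/
theorem exists_nhd [Module.Finite R A] [Module.Projective R A] (h2 : IsUnit (2 : R))
    (q : PrimeSpectrum R)
    (hq : ∀ r, algebraMap R q.asIdeal.ResidueField (lam r) =
      algebraMap R q.asIdeal.ResidueField r) :
    ∃ f : R, f ∉ q.asIdeal ∧ ∀ (q' : PrimeSpectrum R)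
      (hq' : ∀ r, algebraMap R q'.asIdeal.ResidueField (lam r) =
        algebraMap R q'.asIdeal.ResidueField r), f ∉ q'.asIdeal → dK t hq' = dK t hq := by
  let I : Ideal R := Ideal.span (Set.range fun r => lam r - r)
  let C := R ⧸ I
  have hC : ∀ r, algebraMap R C (lam r) = algebraMap R C r := fun r =>
    (Ideal.Quotient.eq).mpr (Ideal.subset_span ⟨r, rfl⟩)
  obtain ⟨c, hc⟩ := (h2.map (algebraMap R C)).exists_right_inv
  rw [map_ofNat] at hc
  -- points of `C`
  have key : ∀ (q' : PrimeSpectrum R)
      (hq' : ∀ r, algebraMap R q'.asIdeal.ResidueField (lam r) =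
        algebraMap R q'.asIdeal.ResidueField r),
      ∃ x : PrimeSpectrum C, dK t hq' = rankAtStalk (R := C) (M t hC) x ∧
        ∀ r : R, algebraMap R C r ∈ x.asIdeal ↔ r ∈ q'.asIdeal := by
    intro q' hq'
    let K := q'.asIdeal.ResidueField
    let φ : C →+* K := Ideal.Quotient.lift I (algebraMap R K) (by
      intro a ha
      have hle : I ≤ RingHom.ker (algebraMap R K) := by
        rw [Ideal.span_le]
        rintro _ ⟨r, rfl⟩
        change algebraMap R K (lam r - r) = 0
        rw [map_sub, hq', sub_self]
      exact hle ha)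
    let _ : Algebra C K := φ.toAlgebra
    have : IsScalarTower R C K := IsScalarTower.of_algebraMap_eq fun _ => rfl
    refine ⟨⟨RingHom.ker (algebraMap C K), RingHom.ker_isPrime _⟩,
      dK_eq_rankAtStalk t hC hc hq' _ rfl, fun r => ?_⟩
    change algebraMap R K r = 0 ↔ _
    rw [Ideal.algebraMap_residueField_eq_zero]
  have := finite_M t hC hc
  have := projective_M t hC hc
  have : Module.FinitePresentation C (M t hC) := Module.finitePresentation_of_projective C _
  have hlc : IsLocallyConstant (rankAtStalk (R := C) (M t hC)) :=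
    Module.isLocallyConstant_rankAtStalk
  obtain ⟨x, hx, hxq⟩ := key q hq
  have hopen := hlc.isOpen_fiber (rankAtStalk (R := C) (M t hC) x)
  obtain ⟨_, ⟨f', rfl⟩, hf'x, hf'⟩ :=
    (PrimeSpectrum.isTopologicalBasis_basic_opens.isOpen_iff.mp hopen) x rfl
  obtain ⟨f, rfl⟩ := Ideal.Quotient.mk_surjective f'
  refine ⟨f, fun hf => hf'x ((hxq f).mpr hf), fun q' hq' hfq' => ?_⟩
  obtain ⟨x', hx', hxq'⟩ := key q' hq'
  rw [hx', hx]
  exact hf' (fun hf => hfq' ((hxq' f).mp hf))

end

end K925.LocConst
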