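import Groth.Agent.AzInv.K925.AzLocal
import Groth.Agent.Hensel.IdemPoly
import Groth.Agent.CurvesA.SepSplit
import Mathlib.LinearAlgebra.Charpoly.BaseChange
import Mathlib.RingTheory.LocalRing.Module

/-!
# Azumaya algebras over strictly henselian local rings are matrix algebras
-/

set_option autoImplicit false

universe u v w

noncomputable section

namespace K925.LocSplit

open scoped TensorProduct
open Polynomial K925.AzBasic K925.AzLocal

theorem az_matrix (T : Type*) [CommRing T] [Nontrivial T] {n : ℕ} (hn : 0 < n) :
    Az T (Matrix (Fin n) (Fin n) T) n where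
  finite := inferInstance
  proj := inferInstance
  surj := by
    have : Nonempty (Fin n) := ⟨⟨0, hn⟩⟩
    exact (IsAzumaya.matrix T (Fin n)).bij.2
  rank := fun p => by
    rw [Module.rankAtStalk_eq_finrank_of_free]
    simp [Module.finrank_matrix, pow_two]

theorem az_matrix' (T : Type*) [CommRing T] {n : ℕ} (hn : 0 < n) :
    Az T (Matrix (Fin n) (Fin n) T) n := by
  rcases subsingleton_or_nontrivial T with h | h
  · exact
      { finite := inferInstance
        proj := inferInstance
        surj := fun x => ⟨0, Subsingleton.elim _ _⟩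
        rank := fun p => (p.2.ne_top (Subsingleton.elim _ _)).elim }
  · exact az_matrix T hn

section fieldcase

variable {K : Type*} [Field K] {C : Type*} [Ring C] [Algebra K C] {n : ℕ}

theorem exists_algEquiv_matrix_field {K : Type u} [Field K] [IsSepClosed K] {C : Type v} [Ring C]
    [Algebra K C] {n : ℕ} (hn : 0 < n) (h : Az K C n) :
    Nonempty (C ≃ₐ[K] Matrix (Fin n) (Fin n) K) := by
  have := h.finite
  have := nontrivial_of_field hn h
  have := isSimpleRing_of_surj h.surj
  have := isCentral_of_surj h.surj
  obtain ⟨m, hm, ⟨e⟩⟩ :=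
    Groth.Agent.CurvesA.SepSplit.exists_algEquiv_matrix_of_isSepClosed K C
  have h1 := finrank_of_field h
  rw [e.toLinearEquiv.finrank_eq, Module.finrank_matrix, Module.finrank_self, Fintype.card_fin,
    mul_one, ← pow_two] at h1
  have h2 : m = n := Nat.pow_left_injective (n := 2) (by norm_num) h1
  subst h2
  exact ⟨e⟩

/-- The dimension of the left ideal generated by a matrix unit. -/
theorem finrank_range_mulRight (ψ : C ≃ₐ[K] Matrix (Fin n) (Fin n) K) (i0 : Fin n) (e : C)
    (he : ψ e = Matrix.single i0 i0 1) :
    Module.finrank K (LinearMap.range (LinearMap.mulRight K e)) = n := by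
  let g : (Fin n → K) →ₗ[K] C :=
    { toFun := fun v => ψ.symm (Matrix.of fun i j => if j = i0 then v i else 0)
      map_add' := fun v w => by
        rw [← map_add]
        congr 1
        ext i j
        by_cases h : j = i0 <;> simp [h]
      map_smul' := fun c v => by
        rw [RingHom.id_apply, ← map_smul]
        congr 1
        ext i j
        by_cases h : j = i0 <;> simp [h] }
  have hg : ∀ v, g v = ψ.symm (Matrix.of fun i j => if j = i0 then v i else 0) := fun v => rfl
  have hinj : Function.Injective g := by
    intro v w hvw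
    rw [hg, hg] at hvw
    have h1 := ψ.symm.injective hvw
    funext i
    have h2 := congrFun (congrFun h1 i) i0
    simpa using h2
  have hr : LinearMap.range (LinearMap.mulRight K e) = LinearMap.range g := by
    ext x
    constructor
    · rintro ⟨y, rfl⟩
      refine ⟨fun i => ψ y i i0, ?_⟩
      rw [hg, LinearMap.mulRight_apply]
      apply ψ.injective
      rw [AlgEquiv.apply_symm_apply, map_mul, he]
      ext i j
      by_cases h : j = i0
      · subst h; simp
      · simp [h, Matrix.mul_apply, Ne.symm h]
    · rintro ⟨v, rfl⟩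
      refine ⟨g v, ?_⟩
      rw [LinearMap.mulRight_apply, hg]
      apply ψ.injective
      rw [map_mul, he, AlgEquiv.apply_symm_apply]
      ext i j
      by_cases h : j = i0
      · subst h; simp
      · simp [h, Matrix.mul_apply, Ne.symm h]
  rw [hr, LinearMap.finrank_range_of_inj hinj, Module.finrank_fin_fun]

end fieldcase

section lift

variable {T : Type u} [CommRing T] [HenselianLocalRing T] {B : Type v} [Ring B] [Algebra T B]
  [Module.Finite T B] [Module.Free T B] [Nontrivial B]

/-- Idempotents lift from `K ⊗ B` to `B` over a henselian local ring. -/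
theorem exists_idem_lift (c : B)
    (hc : ((1 : IsLocalRing.ResidueField T) ⊗ₜ[T] c) * ((1 : IsLocalRing.ResidueField T) ⊗ₜ[T] c) =
      (1 : IsLocalRing.ResidueField T) ⊗ₜ[T] c) :
    ∃ e : B, e * e = e ∧
      (1 : IsLocalRing.ResidueField T) ⊗ₜ[T] e = (1 : IsLocalRing.ResidueField T) ⊗ₜ[T] c := by
  let K := IsLocalRing.ResidueField T
  let N : B := c * c - c
  let χ : T[X] := (Algebra.lmul T B N).charpoly
  have hχN : aeval N χ = 0 := Algebra.aeval_self_charpoly_lmul N
  have hχm : χ.Monic := LinearMap.charpoly_monic _
  let φ : B →ₐ[T] K ⊗[T] B := Algebra.TensorProduct.includeRight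
  have hφ : ∀ x, φ x = (1 : K) ⊗ₜ[T] x := fun x => rfl
  have hφN : φ N = 0 := by
    rw [map_sub, map_mul, hφ, hc, sub_self]
  have hχK : χ.map (algebraMap T K) = X ^ Module.finrank T B := by
    rw [← LinearMap.charpoly_baseChange]
    have : LinearMap.baseChange K (Algebra.lmul T B N) = 0 := by
      apply LinearMap.ext
      intro x
      induction x using TensorProduct.induction_on with
      | zero => simp
      | tmul a b =>
        rw [LinearMap.baseChange_tmul]
        change a ⊗ₜ[T] (N * b) = 0
        have h1 : a ⊗ₜ[T] (N * b) = φ N * a ⊗ₜ[T] b := by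
          rw [hφ, Algebra.TensorProduct.tmul_mul_tmul, one_mul]
        rw [h1, hφN, zero_mul]
      | add x y hx hy => rw [map_add, hx, hy]; simp
    rw [this, LinearMap.charpoly_zero, Module.finrank_baseChange]
  have hnn : Module.finrank T B ≠ 0 := by
    have : Nonempty (Module.Free.ChooseBasisIndex T B) :=
      (Module.Free.chooseBasis T B).index_nonempty
    rw [Module.finrank_eq_card_chooseBasisIndex]
    exact Fintype.card_ne_zero
  have : HenselianRing T (IsLocalRing.maximalIdeal T) := inferInstance
  have hmk : χ.map (Ideal.Quotient.mk (IsLocalRing.maximalIdeal T)) =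
      X ^ Module.finrank T B := hχK
  have hXX : (X * X - X : T[X]).Monic := by
    have : (X * X - X : T[X]) = X * (X - C 1) := by simp [mul_sub]
    rw [this]
    exact monic_X.mul (monic_X_sub_C 1)
  have hXXd : (X * X - X : T[X]).natDegree ≠ 0 := by
    have : (X * X - X : T[X]) = X * (X - C 1) := by simp [mul_sub]
    rw [this, (monic_X).natDegree_mul (monic_X_sub_C 1), natDegree_X, natDegree_X_sub_C]
    norm_num
  obtain ⟨e, he1, he2⟩ := Groth.Agent.Hensel.IdemPoly.exists_idem_of_aeval
    (I := IsLocalRing.maximalIdeal T) φ (by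
      intro a ha
      rw [Algebra.TensorProduct.algebraMap_apply]
      have : algebraMap T K a = 0 := (IsLocalRing.residue_eq_zero_iff a).mpr ha
      rw [this, TensorProduct.zero_tmul])
    (χ.comp (X * X - X)) (hχm.comp hXX hXXd) (Module.finrank T B) hnn (by
      rw [Polynomial.map_comp, hmk, X_pow_comp]
      simp only [Polynomial.map_sub, Polynomial.map_mul, Polynomial.map_X]
      rw [← mul_pow]
      congr 1
      ring) c (by
      rw [aeval_comp]
      simp only [map_sub, map_mul, aeval_X]
      exact hχN) (by rw [hφ, hc])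
  exact ⟨aeval c e, he1, by rw [← hφ, he2, hφ]⟩

end lift

section main

variable {T : Type u} [CommRing T] [IsLocalRing T] {B : Type v} [Ring B] [Algebra T B]

/-- An idempotent lifting a rank one idempotent splits an Azumaya algebra over a local ring. -/
theorem exists_algEquiv_of_idem {n : ℕ} (hn : 0 < n) (h : Az T B n)
    (ψ : (IsLocalRing.ResidueField T) ⊗[T] B ≃ₐ[IsLocalRing.ResidueField T]
      Matrix (Fin n) (Fin n) (IsLocalRing.ResidueField T)) (i0 : Fin n) (e : B) (he : e * e = e)
    (hψ : ψ ((1 : IsLocalRing.ResidueField T) ⊗ₜ[T] e) = Matrix.single i0 i0 1) :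
    Nonempty (B ≃ₐ[T] Matrix (Fin n) (Fin n) T) := by
  let K := IsLocalRing.ResidueField T
  have := h.finite
  have := h.proj
  let P : Submodule B B := Submodule.span B {e}
  have hmem : ∀ x : B, x * e ∈ P := fun x => Submodule.mem_span_singleton.mpr ⟨x, rfl⟩
  have hPe : ∀ x ∈ P, x * e = x := by
    intro x hx
    obtain ⟨y, rfl⟩ := Submodule.mem_span_singleton.mp hx
    rw [smul_eq_mul, mul_assoc, he]
  let ι : P →ₗ[T] B := P.subtype.restrictScalars T
  let ρ : B →ₗ[T] P :=
    { toFun := fun x => ⟨x * e, hmem x⟩
      map_add' := fun x y => Subtype.ext (add_mul x y e)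
      map_smul' := fun t x => Subtype.ext (smul_mul_assoc t x e) }
  have hρι : ρ ∘ₗ ι = LinearMap.id := by
    apply LinearMap.ext
    intro x
    exact Subtype.ext (hPe x.1 x.2)
  have hιρ : ι ∘ₗ ρ = LinearMap.mulRight T e := LinearMap.ext fun x => rfl
  have hPfin : Module.Finite T P := Module.Finite.of_surjective ρ (fun x =>
    ⟨x.1, Subtype.ext (hPe x.1 x.2)⟩)
  have hPproj : Module.Projective T P := Module.Projective.of_split ι ρ hρι
  have hPfree : Module.Free T P := Module.free_of_flat_of_isLocalRing
  have hrank : Module.finrank T P = n := by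
    rw [← Module.finrank_baseChange (R := K) (S := T) (M' := P)]
    have hinj : Function.Injective (ι.baseChange K) := by
      have : (ρ.baseChange K) ∘ₗ (ι.baseChange K) = LinearMap.id := by
        rw [← LinearMap.baseChange_comp, hρι, LinearMap.baseChange_id]
      exact Function.LeftInverse.injective (g := ρ.baseChange K) fun x => LinearMap.congr_fun this x
    have hrg : LinearMap.range (ι.baseChange K) =
        LinearMap.range (LinearMap.mulRight K ((1 : K) ⊗ₜ[T] e)) := by
      have h1 : LinearMap.mulRight K ((1 : K) ⊗ₜ[T] e) = (ι.baseChange K) ∘ₗ (ρ.baseChange K) := by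
        rw [← LinearMap.baseChange_comp, hιρ]
        apply LinearMap.ext
        intro x
        induction x using TensorProduct.induction_on with
        | zero => simp
        | tmul a b => simp
        | add x y hx hy => rw [map_add, map_add, hx, hy]
      have h2 : LinearMap.range (ρ.baseChange K) = ⊤ := by
        rw [LinearMap.range_eq_top]
        have : (ρ.baseChange K) ∘ₗ (ι.baseChange K) = LinearMap.id := by
          rw [← LinearMap.baseChange_comp, hρι, LinearMap.baseChange_id]
        exact Function.RightInverse.surjective (g := ι.baseChange K)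
          fun x => LinearMap.congr_fun this x
      rw [h1, LinearMap.range_comp, h2, Submodule.map_top]
    rw [← LinearMap.finrank_range_of_inj hinj, hrg]
    exact finrank_range_mulRight ψ i0 _ hψ
  let b : Module.Basis (Fin n) T P := Module.finBasisOfFinrankEq T P hrank
  let Φ : B →ₐ[T] Matrix (Fin n) (Fin n) T :=
    (LinearMap.toMatrixAlgEquiv b).toAlgHom.comp (Algebra.lsmul T T P)
  exact ⟨AlgEquiv.ofBijective Φ (Az.bijective hn h (az_matrix T hn) Φ)⟩

/-- Azumaya algebras over strictly henselian local rings are matrix algebras. -/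
theorem exists_algEquiv_matrix {T : Type u} [CommRing T] [HenselianLocalRing T]
    [IsSepClosed (IsLocalRing.ResidueField T)] {B : Type v} [Ring B] [Algebra T B]
    {n : ℕ} (hn : 0 < n) (h : Az T B n) :
    Nonempty (B ≃ₐ[T] Matrix (Fin n) (Fin n) T) := by
  let K := IsLocalRing.ResidueField T
  have := h.finite
  have := h.proj
  have hfree : Module.Free T B := Module.free_of_flat_of_isLocalRing
  have hnt : Nontrivial B :=
    (injective_algebraMap hn h).nontrivial
  obtain ⟨ψ⟩ := exists_algEquiv_matrix_field hn (h.baseChange K)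
  let i0 : Fin n := ⟨0, hn⟩
  obtain ⟨c, hc⟩ := TensorProduct.mk_surjective T B K IsLocalRing.residue_surjective
    (ψ.symm (Matrix.single i0 i0 1))
  have hc' : (1 : K) ⊗ₜ[T] c = ψ.symm (Matrix.single i0 i0 1) := hc
  obtain ⟨e, he, hec⟩ := exists_idem_lift c (by
    rw [hc', ← map_mul]
    congr 1
    simp)
  exact exists_algEquiv_of_idem hn h ψ i0 e he (by rw [hec, hc', AlgEquiv.apply_symm_apply])

end main

end K925.LocSplit
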