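import Groth.Agent.AzInv.K925.WAlg

/-!
# Isomorphism of Azumaya algebras with involution over rings with involution over strictly
henselian rings
-/

set_option autoImplicit false

universe u v w w'

namespace K925.WInv

open scoped TensorProduct
open AzInv K925.WLevel K925.AzBasic K925.AzLocal K925.LocSplit K925.WAlg K925.Inv K925.Sign Matrix

variable {W : Type u} [CommRing W] [HenselianLocalRing W]
  [IsSepClosed (IsLocalRing.ResidueField W)]
  {T : Type v} [CommRing T] [Algebra W T] {lam : T ≃ₐ[W] T}
  (hlam : ∀ x, lam (lam x) = x) (hfix : RInv.IsFixedRing W T lam.toRingEquiv)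
  {n : ℕ} (hn : 0 < n)

/-- The star ring structure given by `lam`. -/
@[reducible] def starRing (lam : T ≃ₐ[W] T) (hlam : ∀ x, lam (lam x) = x) : StarRing T where
  star := lam
  star_involutive := hlam
  star_mul x y := by rw [map_mul, mul_comm]
  star_add x y := map_add lam x y

include hlam hfix hn

/-- Isomorphism of algebras with involution, local case. -/
theorem exists_iso_of_local (hsqW : ∀ c : W, IsUnit c → ∃ s, s * s = c) [IsLocalRing T]
    (hres : ∀ x, lam x - x ∈ IsLocalRing.maximalIdeal T)
    {B : Type w} [Ring B] [Algebra T B] (hB : Az T B n)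
    {B' : Type w'} [Ring B'] [Algebra T B'] (hB' : Az T B' n)
    (τ : LamInv T B lam) (τ' : LamInv T B' lam)
    (hK : ∀ r, algebraMap T (IsLocalRing.ResidueField T) (lam r) =
      algebraMap T (IsLocalRing.ResidueField T) r)
    (hcond : Odd n ∨ (IsUnit (2 : T) ∧ dK τ hK = dK τ' hK)) :
    ∃ f : B →ₐ[T] B', ∀ b, f (τ b) = τ' (f b) := by
  obtain ⟨φ⟩ := exists_split hlam hfix hn hB
  obtain ⟨φ'⟩ := exists_split hlam hfix hn hB'
  letI : StarRing T := starRing lam hlam
  have hst : ∀ x : T, star x - x ∈ IsLocalRing.maximalIdeal T := hres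
  have hsq : ∀ c : T, IsUnit c → star c = c → ∃ s, star s = s ∧ s * s = c := by
    intro c hc hcs
    obtain ⟨w, hw⟩ := mem_of_fixed hfix (x := c) hcs
    have hwu : IsUnit w := isUnit_of_isUnit_algebraMap hfix (by rw [hw]; exact hc)
    obtain ⟨s, hs⟩ := hsqW w hwu
    exact ⟨algebraMap W T s, lam.commutes s, by rw [← map_mul, hs, hw]⟩
  have key : ∃ f : Matrix (Fin n) (Fin n) T ≃ₐ[T] Matrix (Fin n) (Fin n) T,
      ∀ x, f (transport φ τ x) = transport φ' τ' (f x) := by
    rcases hcond with hodd | ⟨h2, hd⟩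
    · exact iso_of_odd hst hsq hodd (transport φ τ) (transport φ' τ')
    · have : Nonempty (Fin n) := ⟨⟨0, hn⟩⟩
      refine iso_of_sign hst hsq h2 (transport φ τ) (transport φ' τ') ?_
      intro h g h' g' ε ε' hε hε' hg hg' hh hh' hτ hτ'
      have e1 : dK τ hK = dK (transport φ τ) hK :=
        dK_congr τ (transport φ τ) hK φ.toLinearEquiv (fun a => by
          change φ (τ a) = φ (τ (φ.symm (φ a)))
          rw [AlgEquiv.symm_apply_apply])
      have e2 : dK τ' hK = dK (transport φ' τ') hK :=
        dK_congr τ' (transport φ' τ') hK φ'.toLinearEquiv (fun a => by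
          change φ' (τ' a) = φ' (τ' (φ'.symm (φ' a)))
          rw [AlgEquiv.symm_apply_apply])
      have h2k : (2 : IsLocalRing.ResidueField T) ≠ 0 := by
        have := (h2.map (algebraMap T (IsLocalRing.ResidueField T))).ne_zero
        rwa [map_ofNat] at this
      rw [e1, e2] at hd
      have hne := K925.FixDim.choose_ne hn
      rcases hε with rfl | rfl <;> rcases hε' with rfl | rfl
      · rfl
      · exfalso
        rw [dK_normal_pos hK (transport φ τ) hg hh hτ (map_one _),
          dK_normal_neg hK h2k (transport φ' τ') hg' hh' hτ' (by rw [map_neg, map_one])] at hd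
        exact hne hd.symm
      · exfalso
        rw [dK_normal_neg hK h2k (transport φ τ) hg hh hτ (by rw [map_neg, map_one]),
          dK_normal_pos hK (transport φ' τ') hg' hh' hτ' (map_one _)] at hd
        exact hne hd
      · rfl
  obtain ⟨f, hf⟩ := key
  refine ⟨(φ'.symm.toAlgHom.comp f.toAlgHom).comp φ.toAlgHom, fun b => ?_⟩
  change φ'.symm (f (φ (τ b))) = τ' (φ'.symm (f (φ b)))
  have h3 := hf (φ b)
  change f (φ (τ (φ.symm (φ b)))) = φ' (τ' (φ'.symm (f (φ b)))) at h3
  rw [AlgEquiv.symm_apply_apply] at h3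
  rw [h3, AlgEquiv.symm_apply_apply]

/-- Isomorphism of algebras with involution. -/
theorem exists_inv_hom (hsqW : ∀ c : W, IsUnit c → ∃ s, s * s = c)
    {B : Type w} [Ring B] [Algebra T B] (hB : Az T B n)
    {B' : Type w'} [Ring B'] [Algebra T B'] (hB' : Az T B' n)
    (τ : LamInv T B lam) (τ' : LamInv T B' lam)
    (hcond : ∀ [IsLocalRing T] (hK : ∀ r, algebraMap T (IsLocalRing.ResidueField T) (lam r) =
      algebraMap T (IsLocalRing.ResidueField T) r),
      Odd n ∨ (IsUnit (2 : T) ∧ dK τ hK = dK τ' hK)) :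
    ∃ f : B →ₐ[T] B', ∀ b, f (τ b) = τ' (f b) := by
  rcases dichotomy hlam hfix with ⟨_, h⟩ | ⟨e, he, hle⟩
  · have hK : ∀ r, algebraMap T (IsLocalRing.ResidueField T) (lam r) =
        algebraMap T (IsLocalRing.ResidueField T) r := by
      intro r
      rw [← sub_eq_zero, ← map_sub]
      exact (IsLocalRing.residue_eq_zero_iff _).mpr (h r)
    exact exists_iso_of_local hlam hfix hn hsqW h hB hB' τ τ' hK (hcond hK)
  · exact exists_iso_of_idem hlam hfix hn he hle hB hB' τ τ'

end K925.WInv
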