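import Groth.Agent.AzInv.K925.HomSys
import Groth.Agent.AzInv.K925.WInv
import Groth.Agent.AzInv.K925.HullFacts
import Mathlib.RingTheory.Unramified.Field
import Mathlib.RingTheory.Artinian.Ring

/-!
# Local isomorphism of Azumaya algebras with involution
-/

set_option autoImplicit false

universe u v w w' u'

namespace K925.Main

open scoped TensorProduct
open AzInv K925.AzBasic K925.AzLocal K925.BC K925.Descent K925.HomSys K925.WAlg K925.WInv K925.Sign
  Groth.Agent.Hensel.Hull Groth.Agent.Hensel.Lazard

noncomputable section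

attribute [local instance 50] alg

section quad

/-- A quadratic etale algebra over a separably closed field is not local. -/
theorem not_isLocalRing {S : Type u} [CommRing S] {R : Type v} [CommRing R] [Algebra S R]
    (hq : RInv.IsQuadEtale S R) {κ : Type w} [Field κ] [IsSepClosed κ] [Algebra S κ] :
    ¬ IsLocalRing (κ ⊗[S] R) := by
  intro hloc
  obtain ⟨h1, h2, h3, h4⟩ := hq
  let C := κ ⊗[S] R
  have hfin : Module.Finite κ C := inferInstance
  have hun : Algebra.FormallyUnramified κ C := inferInstance
  have hrk : Module.finrank κ C = 2 := by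
    have h5 : Module.rankAtStalk (R := κ) C ⟨⊥, Ideal.isPrime_bot⟩ = 2 := by
      rw [Module.rankAtStalk_baseChange, h4]
    rw [Module.rankAtStalk_eq_finrank_of_free] at h5
    exact h5
  have hred : IsReduced C := Algebra.FormallyUnramified.isReduced_of_field κ C
  have hart : IsArtinianRing C := IsArtinianRing.of_finite κ C
  letI : Field C := (IsArtinianRing.isField_of_isReduced_of_isLocalRing C).toField
  have hsep : Algebra.IsSeparable κ C := Algebra.FormallyUnramified.isSeparable κ C
  have hsurj := IsSepClosed.algebraMap_surjective (k := κ) C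
  have h6 : Module.finrank κ C ≤ 1 := by
    apply finrank_le_one (1 : C)
    intro x
    obtain ⟨c, rfl⟩ := hsurj x
    exact ⟨c, by rw [Algebra.algebraMap_eq_smul_one]⟩
  omega

theorem not_isLocalRing' {S : Type u} [CommRing S] {R : Type v} [CommRing R] [Algebra S R]
    (hq : RInv.IsQuadEtale S R) {W : Type w} [CommRing W] [IsLocalRing W]
    [IsSepClosed (IsLocalRing.ResidueField W)] [Algebra S W] :
    ¬ IsLocalRing (W ⊗[S] R) := by
  intro hloc
  have hq' := hq
  obtain ⟨h1, h2, h3, h4⟩ := hq
  let κ := IsLocalRing.ResidueField W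
  have hnt : Nontrivial (κ ⊗[S] R) := by
    have hrk : Module.finrank κ (κ ⊗[S] R) = 2 := by
      have h5 : Module.rankAtStalk (R := κ) (κ ⊗[S] R) ⟨⊥, Ideal.isPrime_bot⟩ = 2 := by
        rw [Module.rankAtStalk_baseChange, h4]
      rw [Module.rankAtStalk_eq_finrank_of_free] at h5
      exact h5
    exact Module.nontrivial_of_finrank_pos (R := κ) (by omega)
  let g : W ⊗[S] R →ₐ[S] κ ⊗[S] R :=
    Algebra.TensorProduct.map (IsScalarTower.toAlgHom S W κ) (AlgHom.id S R)
  have hg : Function.Surjective g := by
    intro y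
    induction y using TensorProduct.induction_on with
    | zero => exact ⟨0, map_zero _⟩
    | tmul k r =>
      obtain ⟨w, rfl⟩ := IsLocalRing.residue_surjective k
      exact ⟨w ⊗ₜ r, rfl⟩
    | add x y hx hy =>
      obtain ⟨a, ha⟩ := hx
      obtain ⟨b, hb⟩ := hy
      exact ⟨a + b, by rw [map_add, ha, hb]⟩
  have : IsLocalRing (κ ⊗[S] R) := IsLocalRing.of_surjective' g.toRingHom hg
  exact not_isLocalRing hq' this

end quad

section sign

variable {S : Type u} [CommRing S] {R : Type v} [CommRing R] [Algebra S R]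
  {A : Type w} [Ring A] [Algebra S A] [Algebra R A] [IsScalarTower S R A] {n : ℕ}
  {lam : R ≃ₐ[S] R}

attribute [local instance 40] Algebra.TensorProduct.rightAlgebra

/-- The dimension of symmetric elements of a base change. -/
theorem dK_tE (hn : 0 < n) (hA : Az R A n) (t : LamInv R A lam) {E : Type u'} [CommRing E]
    [Algebra S E] {K : Type w'} [Field K] [Algebra (E ⊗[S] R) K] [Algebra R K]
    [IsScalarTower R (E ⊗[S] R) K]
    (hK : ∀ r, algebraMap R K (lam r) = algebraMap R K r)
    (hK' : ∀ r, algebraMap (E ⊗[S] R) K (lamE S E lam r) = algebraMap (E ⊗[S] R) K r) :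
    dK t hK = dK (tE S E t) hK' := by
  have a1 := hA.baseChange K
  have a2 := (az S E hA).baseChange K
  have := a1.finite
  have := a2.finite
  refine dK_of_map t (tE S E t) hK hK'
    ((Algebra.TensorProduct.includeRight : A →ₐ[S] E ⊗[S] A) : A →+ E ⊗[S] A) ?_ ?_ ?_ ?_
  · intro r a
    change (1 : E) ⊗ₜ[S] (r • a) = ((1 : E) ⊗ₜ[S] r) • ((1 : E) ⊗ₜ[S] a)
    rw [tmul_smul_tmul, one_mul]
  · intro b
    induction b using TensorProduct.induction_on with
    | zero => exact Submodule.zero_mem _
    | tmul e a =>
      have h1 : e ⊗ₜ[S] a = (e ⊗ₜ[S] (1 : R)) • ((1 : E) ⊗ₜ[S] a) := by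
        rw [tmul_smul_tmul, mul_one, one_smul]
      rw [h1]
      exact Submodule.smul_mem _ _ (Submodule.subset_span ⟨a, rfl⟩)
    | add x y hx hy => exact Submodule.add_mem _ hx hy
  · intro a
    change (1 : E) ⊗ₜ[S] (t a) = tE S E t ((1 : E) ⊗ₜ[S] a)
    rw [tE_tmul]
  · rw [finrank_of_field a1, finrank_of_field a2]

omit [CommRing S] [Algebra S R] [Algebra S A] [IsScalarTower S R A] in
/-- Comparison with the residue field of the kernel. -/
theorem dK_residueField {lam : R → R} (t : LamInv R A lam) {K : Type w'} [Field K] [Algebra R K]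
    (hK : ∀ r, algebraMap R K (lam r) = algebraMap R K r) (q : PrimeSpectrum R)
    (hq : RingHom.ker (algebraMap R K) = q.asIdeal)
    (hK' : ∀ r, algebraMap R q.asIdeal.ResidueField (lam r) =
      algebraMap R q.asIdeal.ResidueField r) : dK t hK = dK t hK' := by
  have hunit : q.asIdeal.primeCompl ≤ Submonoid.comap (algebraMap R K) (IsUnit.submonoid K) := by
    intro a ha
    change IsUnit _
    rw [isUnit_iff_ne_zero]
    intro h0
    apply ha
    change a ∈ q.asIdeal
    rw [← hq]
    exact h0
  have hle : q.asIdeal ≤ RingHom.ker (algebraMap R K) := by rw [hq]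
  let φ : q.asIdeal.ResidueField →+* K :=
    Ideal.ResidueField.lift q.asIdeal (algebraMap R K) hle hunit
  letI : Algebra q.asIdeal.ResidueField K := φ.toAlgebra
  have : IsScalarTower R q.asIdeal.ResidueField K := by
    refine IsScalarTower.of_algebraMap_eq' ?_
    ext r
    exact (Ideal.ResidueField.lift_algebraMap q.asIdeal (algebraMap R K) hle hunit r).symm
  exact dK_tower t hK' hK

end sign

section main

variable {S : Type u} [CommRing S] {R : Type v} [CommRing R] [Algebra S R]
  {A : Type w} [Ring A] [Algebra S A] [Algebra R A] [IsScalarTower S R A]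
  {A' : Type w'} [Ring A'] [Algebra S A'] [Algebra R A'] [IsScalarTower S R A'] {n : ℕ}
  {lam : R ≃ₐ[S] R} (hlam : ∀ r, lam (lam r) = r)
  (hfix : RInv.IsFixedRing S R lam.toRingEquiv) (hn : 0 < n)

include hlam hfix hn

/-- Azumaya algebras of the same degree are locally isomorphic. -/
theorem exists_cover_hom (hA : Az R A n) (hA' : Az R A' n) :
    ∃ (E : Type u) (_ : CommRing E) (_ : Algebra S E) (_ : Algebra.Etale S E)
      (_ : Module.FaithfullyFlat S E) (f : E ⊗[S] A →ₐ[E ⊗[S] R] E ⊗[S] A'),
      Function.Bijective f := by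
  have := hA.finite
  have := hA.proj
  obtain ⟨E, i1, i2, i3, i4, f, -⟩ := exists_hom_cover (A := A) (A' := A') lam 0 0
    (by simp) (by simp) (fun p K W _ _ _ _ _ π h _ => by
      have := h.henselianLocalRing
      have := K925.HullFacts.isSepClosed_residueField h
      have hflat : Module.Flat S W := Laz.flat (fun P _ _ _ φ => h.lazard P φ)
      have hf := isFixedRing S W lam hfix
      have hl := lamE_lamE S W lam hlam
      obtain ⟨φ⟩ := exists_split hl hf hn (az S W hA)
      obtain ⟨φ'⟩ := exists_split hl hf hn (az S W hA')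
      exact ⟨(φ.trans φ'.symm).toAlgHom, fun x => by simp⟩)
  exact ⟨E, i1, i2, i3, i4, f, Az.bijective hn (az S E hA) (az S E hA') f⟩

/-- Local isomorphism of Azumaya algebras with involution. -/
theorem locIsoEt
    (hsqW : ∀ (K W : Type u) [Field K] [IsAlgClosed K] [Algebra S K]
      [CommRing W] [Algebra S W] (π : W →ₐ[S] K), IsHull S W K π →
      ∀ c : W, IsUnit c → ∃ s, s * s = c)
    (hA : Az R A n) (hA' : Az R A' n) (t : LamInv R A lam) (t' : LamInv R A' lam)
    (hcond : Odd n ∨ RInv.IsQuadEtale S R ∨ (IsUnit (2 : S) ∧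
      ∀ (q : PrimeSpectrum R) (hq : ∀ r, algebraMap R q.asIdeal.ResidueField (lam r) =
        algebraMap R q.asIdeal.ResidueField r), dK t hq = dK t' hq)) :
    LocIsoEt S lam t t' := by
  have := hA.finite
  have := hA.proj
  obtain ⟨E, i1, i2, i3, i4, f, hf⟩ := exists_hom_cover (A := A) (A' := A') lam
    (t.linS S lam) (t'.linS S lam) (fun r x => t.map_smul r x) (fun r x => t'.map_smul r x)
    (fun p K W _ _ _ _ _ π h _ => by
      have := h.henselianLocalRing
      have := K925.HullFacts.isSepClosed_residueField h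
      have hflat : Module.Flat S W := Laz.flat (fun P _ _ _ φ => h.lazard P φ)
      have hf := isFixedRing S W lam hfix
      have hl := lamE_lamE S W lam hlam
      refine exists_inv_hom hl hf hn (hsqW K W π h) (az S W hA) (az S W hA') (tE S W t)
        (tE S W t') ?_
      intro hloc hK
      rcases hcond with hodd | hquad | ⟨h2, hd⟩
      · exact Or.inl hodd
      · exact absurd hloc (not_isLocalRing' hquad)
      · right
        refine ⟨?_, ?_⟩
        · have := h2.map (algebraMap S (W ⊗[S] R))
          rwa [map_ofNat] at this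
        · let kT := IsLocalRing.ResidueField (W ⊗[S] R)
          let _ : Algebra R (W ⊗[S] R) := Algebra.TensorProduct.rightAlgebra
          let _ : Algebra R kT := ((algebraMap (W ⊗[S] R) kT).comp
            (algebraMap R (W ⊗[S] R))).toAlgebra
          have : IsScalarTower R (W ⊗[S] R) kT := IsScalarTower.of_algebraMap_eq fun _ => rfl
          have hK0 : ∀ r, algebraMap R kT (lam r) = algebraMap R kT r := fun r =>
            hK ((1 : W) ⊗ₜ[S] r)
          obtain ⟨q, hqk⟩ : ∃ q : PrimeSpectrum R, RingHom.ker (algebraMap R kT) = q.asIdeal :=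
            ⟨⟨RingHom.ker (algebraMap R kT), RingHom.ker_isPrime _⟩, rfl⟩
          have hq : ∀ r, algebraMap R q.asIdeal.ResidueField (lam r) =
              algebraMap R q.asIdeal.ResidueField r := by
            intro r
            rw [← sub_eq_zero, ← map_sub, Ideal.algebraMap_residueField_eq_zero, ← hqk,
              RingHom.mem_ker, map_sub, hK0, sub_self]
          rw [← dK_tE hn hA t hK0 hK, ← dK_tE hn hA' t' hK0 hK,
            dK_residueField t hK0 q hqk hq, dK_residueField t' hK0 q hqk hq]
          exact hd q hq)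
  have hb := Az.bijective hn (az S E hA) (az S E hA') f
  refine ⟨E, i1, i2, i3, i4, (AlgEquiv.ofBijective f hb).restrictScalars E, ?_, hf⟩
  intro r x
  change f (((1 : E) ⊗ₜ[S] r) • x) = ((1 : E) ⊗ₜ[S] r) • f x
  rw [map_smul]

end main

end

end K925.Main
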