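import Groth.Agent.AzInv.K925.AzBasic
import Mathlib.Data.Matrix.Basis
import Mathlib.LinearAlgebra.FreeModule.Finite.Basic
import Mathlib.LinearAlgebra.DFinsupp
import Mathlib.RingTheory.Flat.Basic

/-!
# Matrix algebras over Azumaya algebras
-/

set_option autoImplicit false

universe u v w

namespace K925.MatAz

open scoped TensorProduct
open K925.AzBasic Matrix

variable {R : Type u} [CommRing R] {A : Type v} [Ring A] [Algebra R A] {m : ℕ}

theorem exists_single (i j k l : Fin m) (t : A ⊗[R] Aᵐᵒᵖ) :
    ∃ t' : (Matrix (Fin m) (Fin m) A) ⊗[R] (Matrix (Fin m) (Fin m) A)ᵐᵒᵖ,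
      ∀ M, AlgHom.mulLeftRight R (Matrix (Fin m) (Fin m) A) t' M =
        Matrix.single k l (AlgHom.mulLeftRight R A t (M i j)) := by
  induction t using TensorProduct.induction_on with
  | zero => exact ⟨0, fun M => by simp⟩
  | tmul x y =>
    refine ⟨(Matrix.single k i x) ⊗ₜ[R] MulOpposite.op (Matrix.single j l y.unop), fun M => ?_⟩
    rw [AlgHom.mulLeftRight_apply, AlgHom.mulLeftRight_apply, MulOpposite.unop_op]
    rw [Matrix.single_mul_mul_single]
  | add s t hs ht =>
    obtain ⟨s', hs'⟩ := hs
    obtain ⟨t', ht'⟩ := ht
    refine ⟨s' + t', fun M => ?_⟩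
    rw [map_add, map_add, LinearMap.add_apply, LinearMap.add_apply, hs', ht', Matrix.single_add]

theorem surjective_mulLeftRight (h : Function.Surjective (AlgHom.mulLeftRight R A)) :
    Function.Surjective (AlgHom.mulLeftRight R (Matrix (Fin m) (Fin m) A)) := by
  intro φ
  -- the components of `φ`
  let comp : Fin m → Fin m → Fin m → Fin m → (A →ₗ[R] A) := fun i j k l =>
    { toFun := fun x => φ (Matrix.single i j x) k l
      map_add' := fun x y => by rw [Matrix.single_add, map_add]; rfl
      map_smul' := fun c x => by
        rw [← Matrix.smul_single, map_smul]; rfl }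
  choose t ht using fun i j k l => h (comp i j k l)
  choose t' ht' using fun i j k l => exists_single (R := R) i j k l (t i j k l)
  refine ⟨∑ i, ∑ j, ∑ k, ∑ l, t' i j k l, ?_⟩
  apply LinearMap.ext
  intro M
  simp only [map_sum, LinearMap.sum_apply, ht', ht]
  conv_rhs => rw [Matrix.matrix_eq_sum_single M]
  simp only [map_sum]
  refine Finset.sum_congr rfl fun i _ => Finset.sum_congr rfl fun j _ => ?_
  conv_rhs => rw [Matrix.matrix_eq_sum_single (φ (Matrix.single i j (M i j)))]
  rfl

theorem projective_pi {ι : Type*} [Fintype ι] [DecidableEq ι] (M : Type*) [AddCommGroup M]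
    [Module R M] [Module.Projective R M] : Module.Projective R (ι → M) :=
  Module.Projective.of_equiv (DFinsupp.linearEquivFunOnFintype (R := R) (ι := ι) (M := fun _ => M))

theorem az_mat {n : ℕ} (h : Az R A n) : Az R (Matrix (Fin m) (Fin m) A) (m * n) where
  finite := by
    have := h.finite
    change Module.Finite R (Fin m → Fin m → A)
    infer_instance
  proj := by
    have := h.proj
    have h1 : Module.Projective R (Fin m → A) := projective_pi A
    exact projective_pi (R := R) (ι := Fin m) (Fin m → A)
  surj := surjective_mulLeftRight h.surj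
  rank := fun p => by
    have := h.finite
    have := h.proj
    have h1 : Module.Projective R (Fin m → A) := projective_pi A
    change Module.rankAtStalk (R := R) (Fin m → Fin m → A) p = _
    rw [Module.rankAtStalk_pi, finsum_eq_sum_of_fintype, Finset.sum_const, Finset.card_univ,
      Fintype.card_fin, Module.rankAtStalk_pi, finsum_eq_sum_of_fintype, Finset.sum_const,
      Finset.card_univ, Fintype.card_fin, h.rank]
    simp only [smul_eq_mul]
    ring

end K925.MatAz
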