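import Groth.Agent.AzInv.K925.Main

/-!
# Base change of matrix algebras
-/

set_option autoImplicit false

universe u v w w' u'

namespace K925.MatBC

open scoped TensorProduct
open K925.AzBasic K925.AzLocal K925.BC

attribute [local instance 50] alg

variable (S : Type u) [CommRing S] (R : Type v) [CommRing R] [Algebra S R]
  (E : Type w) [CommRing E] [Algebra S E] (n : ℕ)

/-- `E ⊗ M_n(R) → M_n(E ⊗ R)` -/
noncomputable def matHom : E ⊗[S] Matrix (Fin n) (Fin n) R →ₐ[E]
    Matrix (Fin n) (Fin n) (E ⊗[S] R) :=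
  Algebra.TensorProduct.lift (Algebra.ofId E _)
    ((Algebra.TensorProduct.includeRight : R →ₐ[S] E ⊗[S] R).mapMatrix)
    (fun e x => Algebra.commutes e _)

theorem matHom_tmul (e : E) (M : Matrix (Fin n) (Fin n) R) (i j : Fin n) :
    matHom S R E n (e ⊗ₜ[S] M) i j = e ⊗ₜ[S] M i j := by
  have h : matHom S R E n (e ⊗ₜ[S] M) = algebraMap E (Matrix (Fin n) (Fin n) (E ⊗[S] R)) e *
    (M.map (Algebra.TensorProduct.includeRight : R →ₐ[S] E ⊗[S] R)) := rfl
  rw [h, ← Algebra.smul_def, Matrix.smul_apply, Matrix.map_apply,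
    Algebra.TensorProduct.includeRight_apply, TensorProduct.smul_tmul', smul_eq_mul, mul_one]

/-- `E ⊗ M_n(R) → M_n(E ⊗ R)` as an `E ⊗ R`-algebra homomorphism. -/
noncomputable def matHom' : E ⊗[S] Matrix (Fin n) (Fin n) R →ₐ[E ⊗[S] R]
    Matrix (Fin n) (Fin n) (E ⊗[S] R) where
  toRingHom := (matHom S R E n).toRingHom
  commutes' c := by
    change matHom S R E n (algebraMap (E ⊗[S] R) (E ⊗[S] Matrix (Fin n) (Fin n) R) c) = _
    rw [algebraMap_eq]
    induction c using TensorProduct.induction_on with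
    | zero => rw [map_zero, map_zero, map_zero]
    | tmul e r =>
      rw [str_tmul]
      ext i j
      rw [matHom_tmul, Matrix.algebraMap_matrix_apply, Matrix.algebraMap_matrix_apply]
      split_ifs with h
      · simp
      · rw [TensorProduct.tmul_zero]
    | add x y hx hy => rw [map_add, map_add, map_add, hx, hy]

theorem matHom'_bijective (hn : 0 < n) : Function.Bijective (matHom' S R E n) :=
  Az.bijective hn (az S E (K925.LocSplit.az_matrix' R hn))
    (K925.LocSplit.az_matrix' (E ⊗[S] R) hn) _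

variable {S R}

/-- Azumaya algebras over `R` split etale locally on `S`. -/
theorem exists_split {A : Type w'} [Ring A] [Algebra S A] [Algebra R A] [IsScalarTower S R A]
    {n : ℕ} {lam : R ≃ₐ[S] R} (hlam : ∀ r, lam (lam r) = r)
    (hfix : RInv.IsFixedRing S R lam.toRingEquiv) (hn : 0 < n) (hA : Az R A n) :
    ∃ (S' : Type u) (_ : CommRing S') (_ : Algebra S S') (_ : Algebra.Etale S S')
      (_ : Module.FaithfullyFlat S S') (f : S' ⊗[S] A →ₐ[S' ⊗[S] R]
        Matrix (Fin n) (Fin n) (S' ⊗[S] R)), Function.Bijective f := by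
  obtain ⟨E, i1, i2, i3, i4, f, hf⟩ := K925.Main.exists_cover_hom hlam hfix hn hA
    (K925.LocSplit.az_matrix' R hn)
  exact ⟨E, i1, i2, i3, i4, (matHom' S R E n).comp f,
    (matHom'_bijective S R E n hn).comp hf⟩

end K925.MatBC
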