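import Groth.Agent.AzInv.K925.Conj
import Groth.Agent.AzInv.K925.LocConst
import Groth.Agent.RInv.K867.Branch
import Mathlib.LinearAlgebra.SymplecticGroup

/-!
# Involutions in the totally ramified case are ordinary
-/

set_option autoImplicit false

universe u v w w' u'

namespace K925.Ord

open scoped TensorProduct
open AzInv K925.AzBasic K925.Sign K925.Conj K925.LocConst Matrix

/-- The standard alternating matrix. -/
theorem exists_J {n : ℕ} (hn : Even n) : ∃ J : Matrix (Fin n) (Fin n) ℤ,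
    Jᵀ = -J ∧ J * J = -1 := by
  obtain ⟨k, rfl⟩ := hn
  let e : Fin k ⊕ Fin k ≃ Fin (k + k) := finSumFinEquiv
  refine ⟨(Matrix.J (Fin k) ℤ).submatrix e.symm e.symm, ?_, ?_⟩
  · rw [Matrix.transpose_submatrix, Matrix.J_transpose]
    rfl
  · rw [Matrix.submatrix_mul_equiv, Matrix.J_squared, Matrix.submatrix_neg]
    congr 1
    exact Matrix.submatrix_one_equiv e.symm

section idem

variable {R : Type v} [CommRing R]

theorem eq_of_idem {f g : R} (hf : f * f = f) (hg : g * g = g)
    (h : ∀ q : PrimeSpectrum R, g - f ∈ q.asIdeal) : g = f := by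
  have hnil : IsNilpotent (g - f) := by
    rw [nilpotent_iff_mem_prime]
    exact fun J hJ => h ⟨J, hJ⟩
  have h3 : (g - f) * (1 - (g - f) * (g - f)) = 0 := by
    linear_combination (3 * f - 1 - g) * hg + (1 + f - 3 * g) * hf
  have h4 : IsUnit (1 - (g - f) * (g - f)) :=
    ((Commute.all (g - f) (g - f)).isNilpotent_mul_left hnil).isUnit_one_sub
  exact sub_eq_zero.mp ((IsUnit.mul_left_eq_zero h4).mp h3)

/-- `f + (1 - f) J` -/
def wMat {n : ℕ} (f : R) (J : Matrix (Fin n) (Fin n) ℤ) : Matrix (Fin n) (Fin n) R :=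
  f • 1 + (1 - f) • J.map (Int.castRingHom R)

theorem wMat_mul {n : ℕ} {f : R} (hf : f * f = f) {J : Matrix (Fin n) (Fin n) ℤ}
    (hJ : J * J = -1) : wMat f J * wMat f (-J) = 1 := by
  have h1 : f * (1 - f) = 0 := by rw [mul_sub, mul_one, hf, sub_self]
  have h2 : (1 - f) * f = 0 := by rw [mul_comm, h1]
  have h3 : (1 - f) * (1 - f) = 1 - f := by rw [sub_mul, one_mul, h1, sub_zero]
  have hJ' : J.map (Int.castRingHom R) * (-J).map (Int.castRingHom R) = 1 := by
    rw [← Matrix.map_mul, Matrix.mul_neg, hJ, neg_neg, Matrix.map_one _ (map_zero _) (map_one _)]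
  simp only [wMat, Matrix.add_mul, Matrix.mul_add, Matrix.smul_mul, Matrix.mul_smul, smul_add,
    smul_smul, hf, h1, h2, h3, zero_smul, add_zero, zero_add, Matrix.one_mul, Matrix.mul_one, hJ']
  rw [← add_smul, add_sub_cancel, one_smul]

end idem

section main

variable {S : Type u} [CommRing S] {R : Type v} [CommRing R] [Algebra S R]
  {A : Type w} [Ring A] [Algebra S A] [Algebra R A] [IsScalarTower S R A] {n : ℕ}
  {lam : R ≃ₐ[S] R}

theorem wMat_star (hlam : ∀ r, lam (lam r) = r) {f : R} (hf : f * f = f) (hlf : lam f = f)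
    {J : Matrix (Fin n) (Fin n) ℤ} (hJ : Jᵀ = -J) :
    LamInv.transpose lam (Fin n) hlam (wMat f J) = (2 * f - 1) • wMat f J := by
  ext i j
  rw [LamInv.transpose_apply]
  have h1 : wMat f J j i = f * (1 : Matrix (Fin n) (Fin n) R) j i + (1 - f) * (J j i : R) := rfl
  have h2 : wMat f J i j = f * (1 : Matrix (Fin n) (Fin n) R) i j + (1 - f) * (J i j : R) := rfl
  have h3 : J j i = - J i j := by
    have := congrFun (congrFun hJ i) j
    exact this
  have h4 : (1 : Matrix (Fin n) (Fin n) R) j i = (1 : Matrix (Fin n) (Fin n) R) i j := by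
    rw [Matrix.one_apply, Matrix.one_apply]
    simp only [eq_comm]
  have h5 : lam ((1 : Matrix (Fin n) (Fin n) R) i j) = (1 : Matrix (Fin n) (Fin n) R) i j := by
    rw [Matrix.one_apply]
    split_ifs <;> simp
  rw [Matrix.smul_apply, h1, h2, h3, h4, map_add, map_mul, map_mul, map_sub, map_one, hlf, h5,
    map_intCast, smul_eq_mul]
  push_cast
  linear_combination (-2 * (1 : Matrix (Fin n) (Fin n) R) i j + 2 * (J i j : R)) * hf

/-- The case `w = 1`. -/
theorem exists_one (hlam : ∀ r, lam (lam r) = r) (hfix : RInv.IsFixedRing S R lam.toRingEquiv)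
    (hsqW : ∀ (K W : Type u) [Field K] [IsAlgClosed K] [Algebra S K]
      [CommRing W] [Algebra S W] (π : W →ₐ[S] K), Groth.Agent.Hensel.Hull.IsHull S W K π →
      ∀ c : W, IsUnit c → ∃ s, s * s = c)
    (hn : 0 < n) (hA : Az R A n) (t : LamInv R A lam)
    (hcond : Odd n ∨ RInv.IsQuadEtale S R) :
    ∃ (w : (Matrix (Fin n) (Fin n) R)ˣ) (e : R)
      (hw : AzInv.LamInv.transpose lam (Fin n) hlam (↑w : Matrix (Fin n) (Fin n) R) =
        e • (↑w : Matrix (Fin n) (Fin n) R))
      (he : lam e * e = 1),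
      AzInv.LocIsoEt S lam t ((AzInv.LamInv.transpose lam (Fin n) hlam).conj w e hw he) := by
  refine ⟨1, 1, ?_, by rw [map_one, one_mul], ?_⟩
  · rw [Units.val_one, LamInv.map_one, one_smul]
  · refine K925.Main.locIsoEt hlam hfix hn hsqW hA (K925.LocSplit.az_matrix' R hn) _ _ ?_
    rcases hcond with h | h
    · exact Or.inl h
    · exact Or.inr (Or.inl h)

/-- The totally ramified case. -/
theorem exists_ram (hlam : ∀ r, lam (lam r) = r) (hfix : RInv.IsFixedRing S R lam.toRingEquiv)
    (hsqW : ∀ (K W : Type u) [Field K] [IsAlgClosed K] [Algebra S K]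
      [CommRing W] [Algebra S W] (π : W →ₐ[S] K), Groth.Agent.Hensel.Hull.IsHull S W K π →
      ∀ c : W, IsUnit c → ∃ s, s * s = c)
    (hn : 0 < n) (hA : Az R A n) (t : LamInv R A lam) (h2 : IsUnit (2 : S))
    (hram : ∀ p : PrimeSpectrum S,
        ¬ RInv.IsQuadEtale (Localization.AtPrime p.asIdeal) (Localization.AtPrime p.asIdeal ⊗[S] R)) :
    ∃ (w : (Matrix (Fin n) (Fin n) R)ˣ) (e : R)
      (hw : AzInv.LamInv.transpose lam (Fin n) hlam (↑w : Matrix (Fin n) (Fin n) R) =
        e • (↑w : Matrix (Fin n) (Fin n) R))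
      (he : lam e * e = 1),
      AzInv.LocIsoEt S lam t ((AzInv.LamInv.transpose lam (Fin n) hlam).conj w e hw he) := by
  rcases Nat.even_or_odd n with hev | hodd
  swap
  · exact exists_one hlam hfix hsqW hn hA t (Or.inl hodd)
  have hall : ∀ (q : PrimeSpectrum R) (r : R), lam r - r ∈ q.asIdeal := by
    intro q r
    obtain ⟨q', -, -, h3, h4⟩ := (K867.Branch.not_isQuadEtale_iff
      (lam := lam.toRingEquiv) hlam hfix
      (PrimeSpectrum.comap (algebraMap S R) q).asIdeal).mp (hram _)
    rw [h3 q.asIdeal q.2 rfl]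
    exact h4 r
  have hq : ∀ (q : PrimeSpectrum R) (r : R), algebraMap R q.asIdeal.ResidueField (lam r) =
      algebraMap R q.asIdeal.ResidueField r := fun q =>
    (K925.Sgn.residueField_iff q).mp (hall q)
  have h2q : ∀ q : PrimeSpectrum R, (2 : q.asIdeal.ResidueField) ≠ 0 := fun q => by
    have := ((h2.map (algebraMap S R)).map (algebraMap R q.asIdeal.ResidueField)).ne_zero
    rwa [map_ofNat, map_ofNat] at this
  have h2R : IsUnit (2 : R) := by
    have := h2.map (algebraMap S R)
    rwa [map_ofNat] at this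
  have := hA.finite
  have := hA.proj
  have hlc : IsLocallyConstant (fun q : PrimeSpectrum R => dK t (hq q)) := by
    rw [IsLocallyConstant.iff_exists_open]
    intro q
    obtain ⟨f, hf, h⟩ := exists_nhd t h2R q (hq q)
    exact ⟨PrimeSpectrum.basicOpen f, PrimeSpectrum.isOpen_basicOpen, hf,
      fun q' hq' => h q' (hq q') hq'⟩
  obtain ⟨f, g, hfg, hfg1, hset⟩ := PrimeSpectrum.isClopen_iff_mul_add.mp
    (hlc.isClopen_fiber ((n + 1).choose 2))
  have hf : f * f = f := by
    calc f * f = f * (f + g) := by rw [mul_add, hfg, add_zero]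
      _ = f := by rw [hfg1, mul_one]
  have hmem : ∀ q : PrimeSpectrum R, dK t (hq q) = (n + 1).choose 2 ↔ f ∉ q.asIdeal := by
    intro q
    have := Set.ext_iff.mp hset q
    exact this
  have hlf : lam f = f := eq_of_idem hf (by rw [← map_mul, hf]) (fun q => hall q f)
  obtain ⟨J, hJt, hJJ⟩ := exists_J hev
  have hJJ' : (-J) * (-J) = -1 := by rw [neg_mul_neg, hJJ]
  let w : (Matrix (Fin n) (Fin n) R)ˣ :=
    ⟨wMat f J, wMat f (-J), wMat_mul hf hJJ, by
      have := wMat_mul hf hJJ'
      rwa [neg_neg] at this⟩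
  have hw : LamInv.transpose lam (Fin n) hlam (↑w : Matrix (Fin n) (Fin n) R) =
      (2 * f - 1) • (↑w : Matrix (Fin n) (Fin n) R) := wMat_star hlam hf hlf hJt
  have he : lam (2 * f - 1) * (2 * f - 1) = 1 := by
    rw [map_sub, map_mul, map_ofNat, map_one, hlf]
    linear_combination 4 * hf
  refine ⟨w, 2 * f - 1, hw, he, ?_⟩
  refine K925.Main.locIsoEt hlam hfix hn hsqW hA (K925.LocSplit.az_matrix' R hn) _ _
    (Or.inr (Or.inr ⟨h2, fun q hq' => ?_⟩))
  by_cases hfq : f ∈ q.asIdeal
  · have h3 : algebraMap R q.asIdeal.ResidueField (2 * f - 1) = -1 := by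
      rw [map_sub, map_mul, Ideal.algebraMap_residueField_eq_zero.mpr hfq, mul_zero, map_one,
        zero_sub]
    rw [dK_conj_neg hlam hq' w _ hw he (h2q q) h3]
    rcases K925.Sgn.dK_eq_or t hq' (h2q q) hn hA with h5 | ⟨-, h5⟩
    · exact absurd hfq ((hmem q).mp h5)
    · exact h5
  · have h3 : algebraMap R q.asIdeal.ResidueField (2 * f - 1) = 1 := by
      have h6 : algebraMap R q.asIdeal.ResidueField f ≠ 0 := fun h0 =>
        hfq (Ideal.algebraMap_residueField_eq_zero.mp h0)
      have h7 : algebraMap R q.asIdeal.ResidueField f = 1 := by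
        apply mul_left_cancel₀ h6
        rw [← map_mul, hf, mul_one]
      rw [map_sub, map_mul, h7, map_ofNat, map_one]
      norm_num
    rw [dK_conj_pos hlam hq' w _ hw he h3]
    exact (hmem q).mpr hfq

end main

end K925.Ord
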