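import Groth.Agent.AzInv.K925.Main
import Groth.Agent.AzInv.K925.MatAz

/-!
# The two possible signs
-/

set_option autoImplicit false

universe u v w w' u'

namespace K925.Sgn

open scoped TensorProduct
open AzInv K925.AzBasic K925.AzLocal K925.BC K925.Inv K925.Sign K925.FixDim

noncomputable section

section combin

theorem two_mul_choose (k : ℕ) : 2 * k.choose 2 + k = k * k := by
  induction k with
  | zero => rfl
  | succ k ih =>
    have h := Nat.choose_succ_succ' k 1
    rw [Nat.choose_one_right] at h
    change (k + 1).choose 2 = k + k.choose 2 at h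
    rw [h]
    linarith

theorem choose_succ (k : ℕ) : (k + 1).choose 2 = k + k.choose 2 := by
  have h := Nat.choose_succ_succ' k 1
  rw [Nat.choose_one_right] at h
  exact h

theorem mat_neg (m n : ℕ) : m * n.choose 2 + m.choose 2 * n ^ 2 = (m * n).choose 2 := by
  have h1 := two_mul_choose n
  have h2 := two_mul_choose m
  have h3 := two_mul_choose (m * n)
  have h4 : 2 * (m * n.choose 2 + m.choose 2 * n ^ 2) + m * n = m * n * (m * n) := by
    calc 2 * (m * n.choose 2 + m.choose 2 * n ^ 2) + m * n
        = m * (2 * n.choose 2 + n) + 2 * m.choose 2 * n ^ 2 := by ring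
      _ = m * (n * n) + 2 * m.choose 2 * n ^ 2 := by rw [h1]
      _ = (2 * m.choose 2 + m) * n ^ 2 := by ring
      _ = _ := by rw [h2]; ring
  omega

theorem mat_pos (m n : ℕ) :
    m * (n + 1).choose 2 + m.choose 2 * n ^ 2 = (m * n + 1).choose 2 := by
  rw [choose_succ, choose_succ, ← mat_neg]
  ring

end combin

section alg

variable {R : Type v} [CommRing R] {A : Type w} [Ring A] [Algebra R A] {lam : R → R}
  (t : LamInv R A lam) {K : Type w'} [Field K] [Algebra R K]
  (hK : ∀ r, algebraMap R K (lam r) = algebraMap R K r)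

/-- The involution of `K ⊗ A` -/
def tKinv : LamInv K (K ⊗[R] A) (id : K → K) where
  toFun := tK t hK
  map_add' := map_add _
  map_mul' x y := by
    induction x using TensorProduct.induction_on with
    | zero => simp
    | tmul k a =>
      induction y using TensorProduct.induction_on with
      | zero => simp
      | tmul l b =>
        rw [Algebra.TensorProduct.tmul_mul_tmul, tK_tmul, tK_tmul, tK_tmul,
          Algebra.TensorProduct.tmul_mul_tmul, t.map_mul, mul_comm]
      | add y z hy hz => rw [mul_add, map_add, map_add, add_mul, hy, hz]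
    | add x z hx hz => rw [add_mul, map_add, map_add, mul_add, hx, hz]
  map_smul' c x := map_smul _ c x
  invol' := tK_tK t hK

theorem dK_tKinv [Module.Finite K (K ⊗[R] A)] :
    dK (tKinv t hK) (K := K) (fun _ => rfl) = dK t hK := by
  symm
  refine dK_of_map t (tKinv t hK) hK (fun _ => rfl)
    ((Algebra.TensorProduct.includeRight : A →ₐ[R] K ⊗[R] A) : A →+ K ⊗[R] A) ?_ ?_ ?_ ?_
  · intro r a
    change (1 : K) ⊗ₜ[R] (r • a) = algebraMap R K r • ((1 : K) ⊗ₜ[R] a)
    rw [TensorProduct.smul_tmul', smul_eq_mul, mul_one, ← TensorProduct.smul_tmul,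
      Algebra.smul_def, mul_one]
  · intro b
    induction b using TensorProduct.induction_on with
    | zero => exact Submodule.zero_mem _
    | tmul k a =>
      have h1 : k ⊗ₜ[R] a = k • ((1 : K) ⊗ₜ[R] a) := by
        rw [TensorProduct.smul_tmul', smul_eq_mul, mul_one]
      rw [h1]
      exact Submodule.smul_mem _ _ (Submodule.subset_span ⟨a, rfl⟩)
    | add x y hx hy => exact Submodule.add_mem _ hx hy
  · intro a
    rfl
  · exact (Module.finrank_baseChange (R := K) (S := K) (M' := K ⊗[R] A)).symm

end alg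

section dich

variable {R : Type v} [CommRing R] {A : Type w} [Ring A] [Algebra R A] {lam : R → R}
  (t : LamInv R A lam) {K : Type w'} [Field K] [Algebra R K]
  (hK : ∀ r, algebraMap R K (lam r) = algebraMap R K r) {n : ℕ}

/-- The two possible values, over a separably closed field. -/
theorem dK_eq_or_of_isSepClosed [IsSepClosed K] (h2 : (2 : K) ≠ 0) (hn : 0 < n) (hA : Az R A n) :
    dK t hK = (n + 1).choose 2 ∨ (Even n ∧ dK t hK = n.choose 2) := by
  have a1 := hA.baseChange K
  have := a1.finite
  obtain ⟨φ⟩ := K925.LocSplit.exists_algEquiv_matrix_field hn a1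
  letI : StarRing K := starRingOfComm
  have : Nonempty (Fin n) := ⟨⟨0, hn⟩⟩
  let τ : LamInv K (Matrix (Fin n) (Fin n) K) (star : K → K) := transport φ (tKinv t hK)
  have e1 : dK t hK = dK τ (K := K) (fun _ => rfl) := by
    rw [← dK_tKinv]
    exact dK_congr (tKinv t hK) τ _ φ.toLinearEquiv (fun a => by
      change φ (tKinv t hK a) = φ (tKinv t hK (φ.symm (φ a)))
      rw [AlgEquiv.symm_apply_apply])
  obtain ⟨h, g, ε, hε, h1, h3, h4, h5⟩ := exists_herm_or_skew (isUnit_iff_ne_zero.mpr h2) τ
  rcases hε with rfl | rfl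
  · left
    rw [e1, dK_normal_pos _ τ h1 h4 h5 (map_one _)]
  · right
    refine ⟨?_, ?_⟩
    · by_contra hodd
      rw [Nat.not_even_iff_odd] at hodd
      have h6 : ∀ i j, h i j = -h j i := by
        intro i j
        have h7 : h.conjTranspose j i = ((-1 : K) • h) j i := by rw [h4]
        have h8 : h i j = -1 * h j i := h7
        rw [h8, neg_one_mul]
      have h7 : ∀ i, h i i = 0 := by
        intro i
        have h8 := h6 i i
        have h9 : 2 * h i i = 0 := by linear_combination h8
        exact (mul_eq_zero.mp h9).resolve_left h2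
      have h8 := K925.Forms.det_eq_zero_of_alt hodd h h7 h6
      have h9 := congrArg Matrix.det h1
      rw [Matrix.det_mul, h8, zero_mul, Matrix.det_one] at h9
      exact zero_ne_one h9
    · rw [e1, dK_normal_neg _ h2 τ h1 h4 h5 (by rw [map_neg, map_one])]

/-- The two possible values. -/
theorem dK_eq_or (h2 : (2 : K) ≠ 0) (hn : 0 < n) (hA : Az R A n) :
    dK t hK = (n + 1).choose 2 ∨ (Even n ∧ dK t hK = n.choose 2) := by
  let L := AlgebraicClosure K
  have hL : ∀ r, algebraMap R L (lam r) = algebraMap R L r := fun r => by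
    rw [IsScalarTower.algebraMap_apply R K L, IsScalarTower.algebraMap_apply R K L, hK]
  rw [← dK_tower t hK hL]
  refine dK_eq_or_of_isSepClosed t hL ?_ hn hA
  have := (map_ne_zero (algebraMap K L)).mpr h2
  rwa [map_ofNat] at this

/-- Matrix algebras. -/
theorem dK_mat (hA : Az R A n) (m : ℕ) :
    dK (t.matrix (Fin m)) hK = m * dK t hK + m.choose 2 * n ^ 2 := by
  have a1 := hA.baseChange K
  have := a1.finite
  rw [dK_matrix, finrank_of_field a1]

theorem dK_mat_pos (hA : Az R A n) (m : ℕ) (h : dK t hK = (n + 1).choose 2) :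
    dK (t.matrix (Fin m)) hK = (m * n + 1).choose 2 := by
  rw [dK_mat t hK hA, h, mat_pos]

theorem dK_mat_neg (hA : Az R A n) (m : ℕ) (h : dK t hK = n.choose 2) :
    dK (t.matrix (Fin m)) hK = (m * n).choose 2 := by
  rw [dK_mat t hK hA, h, mat_neg]

end dich

section sameType

attribute [local instance 50] alg

variable {S : Type u} [CommRing S] {R : Type v} [CommRing R] [Algebra S R]
  {A : Type w} [Ring A] [Algebra S A] [Algebra R A] [IsScalarTower S R A]
  {A' : Type w'} [Ring A'] [Algebra S A'] [Algebra R A'] [IsScalarTower S R A'] {n n' : ℕ}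
  {lam : R ≃ₐ[S] R}

/-- The ramification condition in terms of the residue field. -/
theorem residueField_iff (q : PrimeSpectrum R) :
    (∀ r : R, lam r - r ∈ q.asIdeal) ↔ ∀ r, algebraMap R q.asIdeal.ResidueField (lam r) =
      algebraMap R q.asIdeal.ResidueField r := by
  refine forall_congr' fun r => ?_
  rw [← sub_eq_zero (b := algebraMap R q.asIdeal.ResidueField r), ← map_sub,
    Ideal.algebraMap_residueField_eq_zero]

/-- Local isomorphism implies equality of dimensions and degrees. -/
theorem dK_eq_of_locIsoEt (hn : 0 < n) (hn' : 0 < n') (hA : Az R A n) (hA' : Az R A' n')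
    (t : LamInv R A lam) (t' : LamInv R A' lam) (h : LocIsoEt S lam t t')
    (q : PrimeSpectrum R) (hq : ∀ r, algebraMap R q.asIdeal.ResidueField (lam r) =
      algebraMap R q.asIdeal.ResidueField r) : n = n' ∧ dK t hq = dK t' hq := by
  obtain ⟨E, i1, i2, i3, i4, f, hf, hft⟩ := h
  let _ : Algebra R (E ⊗[S] R) := Algebra.TensorProduct.rightAlgebra
  have hff : Module.FaithfullyFlat R (E ⊗[S] R) := by
    have e : (R ⊗[S] E) ≃ₗ[R] (E ⊗[S] R) :=
      { (TensorProduct.comm S R E) with
        map_smul' := fun r x => by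
          change TensorProduct.comm S R E (r • x) = ((1 : E) ⊗ₜ[S] r) * TensorProduct.comm S R E x
          induction x using TensorProduct.induction_on with
          | zero => simp
          | tmul s e =>
            rw [TensorProduct.smul_tmul', TensorProduct.comm_tmul, TensorProduct.comm_tmul,
              Algebra.TensorProduct.tmul_mul_tmul, one_mul, smul_eq_mul]
          | add x y hx hy => rw [smul_add, map_add, map_add, mul_add, hx, hy] }
    exact Module.FaithfullyFlat.of_linearEquiv _ _ e.symm
  obtain ⟨Q, hQ⟩ := PrimeSpectrum.comap_surjective_of_faithfullyFlat (A := R) (B := E ⊗[S] R) q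
  let K := Q.asIdeal.ResidueField
  let _ : Algebra R K := ((algebraMap (E ⊗[S] R) K).comp (algebraMap R (E ⊗[S] R))).toAlgebra
  have : IsScalarTower R (E ⊗[S] R) K := IsScalarTower.of_algebraMap_eq fun _ => rfl
  have hker : RingHom.ker (algebraMap R K) = q.asIdeal := by
    ext r
    rw [RingHom.mem_ker, ← hQ]
    change algebraMap (E ⊗[S] R) K (algebraMap R (E ⊗[S] R) r) = 0 ↔ _
    rw [Ideal.algebraMap_residueField_eq_zero]
    rfl
  have hK : ∀ r, algebraMap R K (lam r) = algebraMap R K r := by
    intro r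
    rw [← sub_eq_zero, ← map_sub, ← RingHom.mem_ker, hker]
    exact (residueField_iff q).mpr hq r
  have hK' : ∀ c, algebraMap (E ⊗[S] R) K (lamE S E lam c) = algebraMap (E ⊗[S] R) K c := by
    intro c
    induction c using TensorProduct.induction_on with
    | zero => rw [map_zero]
    | tmul e r =>
      have h1 : ∀ s : R, e ⊗ₜ[S] s = (e ⊗ₜ[S] (1 : R)) * ((1 : E) ⊗ₜ[S] s) := fun s => by
        rw [Algebra.TensorProduct.tmul_mul_tmul, mul_one, one_mul]
      rw [lamE_tmul, h1, h1 r, map_mul, map_mul]
      congr 1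
      exact hK r
    | add x y hx hy => rw [map_add, map_add, map_add, hx, hy]
  let fT : E ⊗[S] A ≃ₗ[E ⊗[S] R] E ⊗[S] A' :=
    { f.toLinearEquiv with
      map_smul' := fun c x => by
        change f (c • x) = c • f x
        induction c using TensorProduct.induction_on with
        | zero => rw [zero_smul, zero_smul, map_zero]
        | tmul e r =>
          have h1 : ∀ y : E ⊗[S] A, (e ⊗ₜ[S] r) • y =
              e • (((1 : E) ⊗ₜ[S] algebraMap R A r) * y) := fun y => by
            rw [smul_eq, str_tmul, ← smul_mul_assoc, TensorProduct.smul_tmul', smul_eq_mul,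
              mul_one]
          have h2 : ∀ y : E ⊗[S] A', (e ⊗ₜ[S] r) • y =
              e • (((1 : E) ⊗ₜ[S] algebraMap R A' r) * y) := fun y => by
            rw [smul_eq, str_tmul, ← smul_mul_assoc, TensorProduct.smul_tmul', smul_eq_mul,
              mul_one]
          rw [h1, h2, map_smul, hf]
        | add c d hc hd => rw [add_smul, add_smul, map_add, hc, hd] }
  have h1 : dK (tE S E t) hK' = dK (tE S E t') hK' :=
    dK_congr _ _ hK' fT (fun x => hft x)
  rw [← K925.Main.dK_tE hn hA t hK hK', ← K925.Main.dK_tE hn' hA' t' hK hK',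
    K925.Main.dK_residueField t hK q hker hq, K925.Main.dK_residueField t' hK q hker hq] at h1
  refine ⟨?_, h1⟩
  have h3 := (fT.baseChange (E ⊗[S] R) K _ _).finrank_eq
  rw [finrank_of_field ((az S E hA).baseChange K), finrank_of_field ((az S E hA').baseChange K)]
    at h3
  exact Nat.pow_left_injective (n := 2) (by norm_num) h3

/-- Same type implies the same signs. -/
theorem sign_iff_of_sameType (hn : 0 < n) (hn' : 0 < n') (hA : Az R A n) (hA' : Az R A' n')
    (t : LamInv R A lam) (t' : LamInv R A' lam) (h : SameType S lam t t')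
    (q : PrimeSpectrum R) (hq : ∀ r, algebraMap R q.asIdeal.ResidueField (lam r) =
      algebraMap R q.asIdeal.ResidueField r) (h2 : (2 : q.asIdeal.ResidueField) ≠ 0) :
    dK t hq = (n + 1).choose 2 ↔ dK t' hq = (n' + 1).choose 2 := by
  obtain ⟨m, m', hm, hm', h⟩ := h
  obtain ⟨h3, h4⟩ := dK_eq_of_locIsoEt (Nat.mul_pos hm hn) (Nat.mul_pos hm' hn')
    (K925.MatAz.az_mat (m := m) hA) (K925.MatAz.az_mat (m := m') hA') _ _ h q hq
  have hne := choose_ne (Nat.mul_pos hm hn)
  have hne' := choose_ne hn
  have hne'' := choose_ne hn'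
  rcases dK_eq_or t hq h2 hn hA with h5 | ⟨-, h5⟩ <;>
    rcases dK_eq_or t' hq h2 hn' hA' with h6 | ⟨-, h6⟩
  · exact ⟨fun _ => h6, fun _ => h5⟩
  · exfalso
    rw [dK_mat_pos t hq hA m h5, dK_mat_neg t' hq hA' m' h6, ← h3] at h4
    exact hne h4.symm
  · exfalso
    rw [dK_mat_neg t hq hA m h5, dK_mat_pos t' hq hA' m' h6, ← h3] at h4
    exact hne h4
  · rw [h5, h6]
    exact ⟨fun h => absurd h hne', fun h => absurd h hne''⟩

/-- Same signs imply the same type. -/
theorem sameType_of_sign (hlam : ∀ r, lam (lam r) = r)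
    (hfix : RInv.IsFixedRing S R lam.toRingEquiv) (h2 : IsUnit (2 : S)) (hn : 0 < n)
    (hn' : 0 < n') (hA : Az R A n) (hA' : Az R A' n')
    (t : LamInv R A lam) (t' : LamInv R A' lam)
    (h : ∀ (q : PrimeSpectrum R) (hq : ∀ r, algebraMap R q.asIdeal.ResidueField (lam r) =
      algebraMap R q.asIdeal.ResidueField r),
      dK t hq = (n + 1).choose 2 ↔ dK t' hq = (n' + 1).choose 2) : SameType S lam t t' := by
  refine ⟨n', n, hn', hn, ?_⟩
  have a2 : Az R (Matrix (Fin n) (Fin n) A') (n' * n) := by
    have := K925.MatAz.az_mat (m := n) hA'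
    rwa [mul_comm] at this
  refine K925.Main.locIsoEt hlam hfix (Nat.mul_pos hn' hn) ?_
    (K925.MatAz.az_mat (m := n') hA) a2 _ _ (Or.inr (Or.inr ⟨h2, fun q hq => ?_⟩))
  · intro K W _ _ _ _ _ π hW c hc
    have := hW.henselianLocalRing
    have := K925.HullFacts.isSepClosed_residueField hW
    refine K925.WLevel.exists_sqrt_of_two ?_ hc
    have := h2.map (algebraMap S W)
    rwa [map_ofNat] at this
  · have h2q : (2 : q.asIdeal.ResidueField) ≠ 0 := by
      have := ((h2.map (algebraMap S R)).map (algebraMap R q.asIdeal.ResidueField)).ne_zero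
      rwa [map_ofNat, map_ofNat] at this
    have hne' := choose_ne hn
    have hne'' := choose_ne hn'
    rcases dK_eq_or t hq h2q hn hA with h5 | ⟨-, h5⟩ <;>
      rcases dK_eq_or t' hq h2q hn' hA' with h6 | ⟨-, h6⟩
    · rw [dK_mat_pos t hq hA n' h5, dK_mat_pos t' hq hA' n h6, mul_comm]
    · exact absurd (h6.symm.trans ((h q hq).mp h5)) hne''
    · exact absurd (h5.symm.trans ((h q hq).mpr h6)) hne'
    · rw [dK_mat_neg t hq hA n' h5, dK_mat_neg t' hq hA' n h6, mul_comm]

end sameType

end

end K925.Sgn
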