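import Groth.Agent.AzInv.K925.WLevel
import Groth.Agent.AzInv.K925.LocSplit
import Groth.Agent.AzInv.K925.AzLocal
import Groth.Agent.AzInv.K925.Inv
import Groth.Agent.AzInv.K925.Sign

/-!
# Azumaya algebras with involution over rings with involution over strictly henselian rings
-/

set_option autoImplicit false

universe u v w w'

namespace K925.WAlg

open scoped TensorProduct
open AzInv K925.WLevel K925.AzBasic K925.AzLocal K925.LocSplit Matrix

/-- Splitting along a homomorphism to a strictly henselian ring. -/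
theorem exists_split_hom {T : Type v} [CommRing T] {W : Type u} [CommRing W]
    [HenselianLocalRing W] [IsSepClosed (IsLocalRing.ResidueField W)] (π : T →+* W) {n : ℕ}
    (hn : 0 < n) {B : Type w} [Ring B] [Algebra T B] (hB : Az T B n) :
    ∃ ρ : B →+* Matrix (Fin n) (Fin n) W, ∀ (c : T) (b : B), ρ (c • b) = π c • ρ b := by
  letI : Algebra T W := π.toAlgebra
  obtain ⟨ψ⟩ := exists_algEquiv_matrix hn (hB.baseChange W)
  let i : B →+* W ⊗[T] B := (Algebra.TensorProduct.includeRight : B →ₐ[T] W ⊗[T] B).toRingHom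
  refine ⟨ψ.toRingEquiv.toRingHom.comp i, fun c b => ?_⟩
  change ψ ((1 : W) ⊗ₜ[T] (c • b)) = π c • ψ ((1 : W) ⊗ₜ[T] b)
  rw [← map_smul, TensorProduct.tmul_smul, TensorProduct.smul_tmul', TensorProduct.smul_tmul',
    Algebra.smul_def, smul_eq_mul]
  rfl

section comb

variable {W : Type u} [CommRing W] {T : Type v} [CommRing T] [Algebra W T] {e : T}
  {n : ℕ}

/-- Glueing two matrices along an idempotent. -/
def glue (e : T) (P Q : Matrix (Fin n) (Fin n) W) : Matrix (Fin n) (Fin n) T :=
  e • P.map (algebraMap W T) + (1 - e) • Q.map (algebraMap W T)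

theorem glue_mul (he : e * e = e) (P Q P' Q' : Matrix (Fin n) (Fin n) W) :
    glue e P Q * glue e P' Q' = glue e (P * P') (Q * Q') := by
  have h1 : e * (1 - e) = 0 := by rw [mul_sub, mul_one, he, sub_self]
  have h2 : (1 - e) * e = 0 := by rw [mul_comm, h1]
  have h3 : (1 - e) * (1 - e) = 1 - e := by rw [sub_mul, one_mul, h1, sub_zero]
  simp only [glue, Matrix.add_mul, Matrix.mul_add, Matrix.smul_mul, Matrix.mul_smul, smul_add,
    smul_smul, he, h1, h2, h3, zero_smul, add_zero, zero_add, Matrix.map_mul]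

theorem glue_one : glue e (1 : Matrix (Fin n) (Fin n) W) 1 = 1 := by
  rw [glue, Matrix.map_one _ (map_zero _) (map_one _), ← add_smul, add_sub_cancel, one_smul]

theorem glue_add (P Q P' Q' : Matrix (Fin n) (Fin n) W) :
    glue e (P + P') (Q + Q') = glue e P Q + glue e P' Q' := by
  simp only [glue, Matrix.map_add _ (map_add (algebraMap W T)), smul_add]
  abel

variable {π₁ π₂ : T →ₐ[W] W} (h1 : ∀ x, x * e = algebraMap W T (π₁ x) * e)
  (h2 : ∀ x, x * (1 - e) = algebraMap W T (π₂ x) * (1 - e))

include h1 h2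

theorem glue_smul (c : T) (P Q : Matrix (Fin n) (Fin n) W) :
    glue e (π₁ c • P) (π₂ c • Q) = c • glue e P Q := by
  simp only [glue, smul_add, smul_smul]
  congr 1
  · rw [h1 c, mul_comm, ← smul_smul]
    congr 1
    ext i j
    simp
  · rw [h2 c, mul_comm, ← smul_smul]
    congr 1
    ext i j
    simp

theorem glue_proj (x : Matrix (Fin n) (Fin n) T) : glue e (x.map π₁) (x.map π₂) = x := by
  ext i j
  change e * algebraMap W T (π₁ (x i j)) + (1 - e) * algebraMap W T (π₂ (x i j)) = x i j
  rw [mul_comm e, ← h1, mul_comm (1 - e), ← h2]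
  ring

end comb

variable {W : Type u} [CommRing W] [HenselianLocalRing W]
  [IsSepClosed (IsLocalRing.ResidueField W)]
  {T : Type v} [CommRing T] [Algebra W T] {lam : T ≃ₐ[W] T}
  (hlam : ∀ x, lam (lam x) = x) (hfix : RInv.IsFixedRing W T lam.toRingEquiv)
  {n : ℕ} (hn : 0 < n)

include hlam hfix hn

/-- Azumaya algebras over `T` split. -/
theorem exists_split {B : Type w} [Ring B] [Algebra T B] (hB : Az T B n) :
    Nonempty (B ≃ₐ[T] Matrix (Fin n) (Fin n) T) := by
  rcases dichotomy hlam hfix with ⟨_, h⟩ | ⟨e, he, hle⟩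
  · have := henselian_of_local hlam hfix
    have := isSepClosed_of_local hlam hfix
    exact exists_algEquiv_matrix hn hB
  · obtain ⟨π₁, π₂, h1, h2, -⟩ := exists_proj hlam hfix he hle
    obtain ⟨ρ₁, hρ₁⟩ := exists_split_hom π₁.toRingHom hn hB
    obtain ⟨ρ₂, hρ₂⟩ := exists_split_hom π₂.toRingHom hn hB
    let φ : B →ₐ[T] Matrix (Fin n) (Fin n) T :=
      AlgHom.ofLinearMap
        { toFun := fun b => glue e (ρ₁ b) (ρ₂ b)
          map_add' := fun b b' => by rw [map_add, map_add, glue_add]
          map_smul' := fun c b => by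
            rw [hρ₁, hρ₂, RingHom.id_apply]
            exact glue_smul h1 h2 c _ _ }
        (by
          change glue e (ρ₁ 1) (ρ₂ 1) = 1
          rw [map_one, map_one, glue_one])
        (fun b b' => by
          change glue e (ρ₁ (b * b')) (ρ₂ (b * b')) = glue e (ρ₁ b) (ρ₂ b) * glue e (ρ₁ b') (ρ₂ b')
          rw [map_mul, map_mul, glue_mul he])
    exact ⟨AlgEquiv.ofBijective φ (Az.bijective hn hB (az_matrix' T hn) φ)⟩

/-- Skolem-Noether over `T` for matrix algebras. -/
theorem exists_inner_matrix (ψ : Matrix (Fin n) (Fin n) T →ₐ[T] Matrix (Fin n) (Fin n) T) :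
    ∃ u v : Matrix (Fin n) (Fin n) T, u * v = 1 ∧ v * u = 1 ∧ ∀ x, ψ x * u = u * x := by
  rcases dichotomy hlam hfix with ⟨_, h⟩ | ⟨e, he, hle⟩
  · obtain ⟨u, hu⟩ := K925.SkNo.exists_unit ψ
    refine ⟨u, ((u⁻¹ : (Matrix (Fin n) (Fin n) T)ˣ) : Matrix (Fin n) (Fin n) T),
      Units.mul_inv u, Units.inv_mul u, fun x => ?_⟩
    rw [hu, mul_assoc, Units.inv_mul, mul_one]
  · obtain ⟨π₁, π₂, h1, h2, -⟩ := exists_proj hlam hfix he hle
    have key : ∀ π : T →ₐ[W] W, ∃ u v : Matrix (Fin n) (Fin n) W, u * v = 1 ∧ v * u = 1 ∧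
        ∀ x : Matrix (Fin n) (Fin n) W, (ψ (x.map (algebraMap W T))).map π * u = u * x := by
      intro π
      let ψ' : Matrix (Fin n) (Fin n) W →ₐ[W] Matrix (Fin n) (Fin n) W :=
        AlgHom.ofLinearMap
          { toFun := fun x => (ψ (x.map (algebraMap W T))).map π
            map_add' := fun x y => by
              rw [Matrix.map_add _ (map_add (algebraMap W T)), map_add,
                Matrix.map_add _ (map_add π)]
            map_smul' := fun c x => by
              have h3 : (c • x).map (algebraMap W T) =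
                  (algebraMap W T c) • x.map (algebraMap W T) := by
                ext i j; simp
              rw [h3, map_smul, RingHom.id_apply]
              ext i j
              simp }
          (by
            change (ψ ((1 : Matrix (Fin n) (Fin n) W).map (algebraMap W T))).map π = 1
            rw [Matrix.map_one _ (map_zero _) (map_one _), map_one,
              Matrix.map_one _ (map_zero _) (map_one _)])
          (fun x y => by
            change (ψ ((x * y).map (algebraMap W T))).map π =
              (ψ (x.map (algebraMap W T))).map π * (ψ (y.map (algebraMap W T))).map π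
            rw [Matrix.map_mul, map_mul, Matrix.map_mul])
      obtain ⟨u, hu⟩ := K925.SkNo.exists_unit ψ'
      refine ⟨u, ((u⁻¹ : (Matrix (Fin n) (Fin n) W)ˣ) : Matrix (Fin n) (Fin n) W),
        Units.mul_inv u, Units.inv_mul u, fun x => ?_⟩
      have h3 : (ψ (x.map (algebraMap W T))).map π = ψ' x := rfl
      rw [h3, hu, mul_assoc, Units.inv_mul, mul_one]
    obtain ⟨u₁, v₁, k1, k2, k3⟩ := key π₁
    obtain ⟨u₂, v₂, l1, l2, l3⟩ := key π₂
    refine ⟨glue e u₁ u₂, glue e v₁ v₂, ?_, ?_, fun x => ?_⟩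
    · rw [glue_mul he, k1, l1, glue_one]
    · rw [glue_mul he, k2, l2, glue_one]
    · have h3 : ψ x = glue e ((ψ ((x.map π₁).map (algebraMap W T))).map π₁)
          ((ψ ((x.map π₂).map (algebraMap W T))).map π₂) := by
        conv_lhs => rw [← glue_proj h1 h2 x, glue, map_add, map_smul, map_smul]
        have a1 : ∀ y : Matrix (Fin n) (Fin n) T, e • y = e • (y.map π₁).map (algebraMap W T) := by
          intro y
          ext i j
          change e * y i j = e * algebraMap W T (π₁ (y i j))
          rw [mul_comm, h1, mul_comm]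
        have a2 : ∀ y : Matrix (Fin n) (Fin n) T,
            (1 - e) • y = (1 - e) • (y.map π₂).map (algebraMap W T) := by
          intro y
          ext i j
          change (1 - e) * y i j = (1 - e) * algebraMap W T (π₂ (y i j))
          rw [mul_comm, h2, mul_comm]
        rw [glue, a1 (ψ _), a2 (ψ _)]
      rw [h3, glue_mul he, k3, l3]
      conv_rhs => rw [← glue_proj h1 h2 x, glue_mul he]

/-- Skolem-Noether over `T`. -/
theorem exists_inner {B : Type w} [Ring B] [Algebra T B] (hB : Az T B n) (ψ : B →ₐ[T] B) :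
    ∃ u v : B, u * v = 1 ∧ v * u = 1 ∧ ∀ x, ψ x * u = u * x := by
  obtain ⟨φ⟩ := exists_split hlam hfix hn hB
  obtain ⟨u, v, h1, h2, h3⟩ := exists_inner_matrix hlam hfix hn
    ((φ.toAlgHom.comp ψ).comp φ.symm.toAlgHom)
  refine ⟨φ.symm u, φ.symm v, ?_, ?_, fun x => ?_⟩
  · rw [← map_mul, h1, map_one]
  · rw [← map_mul, h2, map_one]
  · apply φ.injective
    have h4 := h3 (φ x)
    change φ (ψ (φ.symm (φ x))) * u = u * φ x at h4
    rw [AlgEquiv.symm_apply_apply] at h4
    rw [map_mul, map_mul, AlgEquiv.apply_symm_apply, h4]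

/-- Isomorphism of algebras with involution, split case. -/
theorem exists_iso_of_idem {e : T} (he : e * e = e) (hle : lam e = 1 - e)
    {B : Type w} [Ring B] [Algebra T B] (hB : Az T B n)
    {B' : Type w'} [Ring B'] [Algebra T B'] (hB' : Az T B' n)
    (τ : LamInv T B lam) (τ' : LamInv T B' lam) :
    ∃ f : B →ₐ[T] B', ∀ b, f (τ b) = τ' (f b) := by
  obtain ⟨φ₁⟩ := exists_split hlam hfix hn hB
  obtain ⟨φ₂⟩ := exists_split hlam hfix hn hB'
  let φ : B ≃ₐ[T] B' := φ₁.trans φ₂.symm
  have h1 : e * (1 - e) = 0 := by rw [mul_sub, mul_one, he, sub_self]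
  have h2 : (1 - e) * e = 0 := by rw [mul_comm, h1]
  have h3 : (1 - e) * (1 - e) = 1 - e := by rw [sub_mul, one_mul, h1, sub_zero]
  have hle' : lam (1 - e) = e := by rw [map_sub, map_one, hle]; ring
  refine ⟨AlgHom.ofLinearMap
    { toFun := fun b => e • φ b + (1 - e) • τ' (φ (τ b))
      map_add' := fun a b => by
        rw [map_add, τ.map_add, map_add, τ'.map_add, smul_add, smul_add]
        abel
      map_smul' := fun c a => by
        rw [map_smul, τ.map_smul, map_smul, τ'.map_smul, hlam, RingHom.id_apply, smul_add,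
          smul_comm e c, smul_comm (1 - e) c] }
    (by
      change e • φ 1 + (1 - e) • τ' (φ (τ 1)) = 1
      rw [τ.map_one, map_one, τ'.map_one, ← add_smul, add_sub_cancel, one_smul])
    (fun a b => by
      change e • φ (a * b) + (1 - e) • τ' (φ (τ (a * b))) =
        (e • φ a + (1 - e) • τ' (φ (τ a))) * (e • φ b + (1 - e) • τ' (φ (τ b)))
      rw [τ.map_mul, map_mul, map_mul, τ'.map_mul]
      simp only [add_mul, mul_add, smul_mul_smul_comm, he, h1, h2, h3, zero_smul, add_zero,
        zero_add]), fun b => ?_⟩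
  change e • φ (τ b) + (1 - e) • τ' (φ (τ (τ b))) = τ' (e • φ b + (1 - e) • τ' (φ (τ b)))
  rw [τ.invol, τ'.map_add, τ'.map_smul, τ'.map_smul, τ'.invol, hle, hle', add_comm]

end K925.WAlg
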