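import Groth.Agent.AzInv.K925.HensInt
import Groth.Prelude.Def_W4c2azumayainvolQEt
import Mathlib.Tactic.LinearCombination
import Mathlib.FieldTheory.IsSepClosed

/-!
# Rings with involution over strictly henselian local rings

`W` is strictly henselian, `T` a `W`-algebra with involution `lam` whose fixed ring is `W`.
Then either `T` is local and `lam` is trivial modulo the maximal ideal (and `T` is strictly
henselian), or there is an idempotent `e` with `lam e = 1 - e`.
-/

set_option autoImplicit false

universe u v w

namespace K925.WLevel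

section basic

variable {W : Type u} [CommRing W] {T : Type v} [CommRing T] [Algebra W T] {lam : T ≃ₐ[W] T}
  (hlam : ∀ x, lam (lam x) = x) (hfix : RInv.IsFixedRing W T lam.toRingEquiv)

include hfix

theorem mem_of_fixed {x : T} (hx : lam x = x) : ∃ w, algebraMap W T w = x := (hfix.2 x).mp hx

include hlam

theorem exists_trace (x : T) : ∃ w, algebraMap W T w = x + lam x :=
  mem_of_fixed hfix (by rw [map_add, hlam, add_comm])

theorem exists_norm (x : T) : ∃ w, algebraMap W T w = x * lam x :=
  mem_of_fixed hfix (by rw [map_mul, hlam, mul_comm])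

theorem exists_disc (x : T) : ∃ w, algebraMap W T w = (x - lam x) * (x - lam x) :=
  mem_of_fixed hfix (by rw [map_mul, map_sub, hlam]; ring)

omit hlam in
theorem isUnit_of_isUnit_algebraMap {w : W} (h : IsUnit (algebraMap W T w)) : IsUnit w := by
  obtain ⟨z, hz⟩ := h.exists_right_inv
  have h1 : algebraMap W T w * lam z = 1 := by
    have := congrArg lam hz
    rwa [map_mul, AlgEquiv.commutes, map_one] at this
  have h2 : lam z = z := by
    calc lam z = (z * algebraMap W T w) * lam z := by rw [mul_comm z, hz, one_mul]
      _ = z := by rw [mul_assoc, h1, mul_one]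
  obtain ⟨z', hz'⟩ := mem_of_fixed hfix h2
  apply IsUnit.of_mul_eq_one z'
  apply hfix.1
  rw [map_mul, hz', hz, map_one]

theorem isUnit_iff_norm {x : T} {w : W} (hw : algebraMap W T w = x * lam x) :
    IsUnit x ↔ IsUnit w := by
  constructor
  · intro h
    apply isUnit_of_isUnit_algebraMap hfix
    rw [hw]
    exact h.mul (h.map lam)
  · intro h
    have := h.map (algebraMap W T)
    rw [hw] at this
    exact isUnit_of_mul_isUnit_left this

theorem isIntegral : Algebra.IsIntegral W T := by
  refine ⟨fun x => ?_⟩
  obtain ⟨t, ht⟩ := exists_trace hlam hfix x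
  obtain ⟨n, hn⟩ := exists_norm hlam hfix x
  refine ⟨Polynomial.X ^ 2 + (Polynomial.C (-t) * Polynomial.X + Polynomial.C n), ?_, ?_⟩
  · apply Polynomial.monic_X_pow_add
    refine (Polynomial.degree_linear_le).trans_lt (by norm_num)
  · rw [← Polynomial.aeval_def]
    simp only [map_add, map_mul, map_pow, Polynomial.aeval_X, Polynomial.aeval_C, map_neg, ht, hn]
    ring

end basic

section dich

variable {W : Type u} [CommRing W] [HenselianLocalRing W]
  [IsSepClosed (IsLocalRing.ResidueField W)]

/-- A quadratic polynomial with unit discriminant has a root. -/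
theorem exists_root (t n d : W) (hd : d = t * t - 4 * n) (hdu : IsUnit d) :
    ∃ a : W, a * a - t * a + n = 0 := by
  let κ := IsLocalRing.ResidueField W
  let π := IsLocalRing.residue W
  let f : Polynomial W := Polynomial.X ^ 2 + (Polynomial.C (-t) * Polynomial.X + Polynomial.C n)
  have hf : f.Monic := Polynomial.monic_X_pow_add
    ((Polynomial.degree_linear_le).trans_lt (by norm_num))
  have hdeg : f.natDegree = 2 := by
    have h1 : (Polynomial.C (-t) * Polynomial.X + Polynomial.C n).degree < ((2 : ℕ) : WithBot ℕ) :=
      (Polynomial.degree_linear_le).trans_lt (by norm_num)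
    have h2 : f.degree = 2 := by
      have := Polynomial.degree_add_eq_left_of_degree_lt (p := (Polynomial.X : Polynomial W) ^ 2)
        (q := Polynomial.C (-t) * Polynomial.X + Polynomial.C n) (by
          rw [Polynomial.degree_X_pow]; exact h1)
      rw [this, Polynomial.degree_X_pow]
      rfl
    exact Polynomial.natDegree_eq_of_degree_eq_some h2
  have hder : f.derivative = 2 * Polynomial.X + Polynomial.C (-t) := by
    simp [f]
    ring
  obtain ⟨d', hd'⟩ := hdu.exists_left_inv
  have hsep : (f.map π).Separable := by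
    apply Polynomial.Separable.map
    refine ⟨Polynomial.C (-4 * d'), Polynomial.C d' * (2 * Polynomial.X + Polynomial.C (-t)), ?_⟩
    rw [hder]
    have h1 : Polynomial.C d' * Polynomial.C d = (1 : Polynomial W) := by
      rw [← Polynomial.C_mul, hd', Polynomial.C_1]
    have h4 : (Polynomial.C 4 : Polynomial W) = 4 := map_ofNat _ 4
    have h2 : Polynomial.C d = Polynomial.C t * Polynomial.C t - 4 * Polynomial.C n := by
      rw [hd, Polynomial.C_sub, Polynomial.C_mul, Polynomial.C_mul, h4]
    have h3 : (Polynomial.C (-4 * d') : Polynomial W) = -4 * Polynomial.C d' := by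
      rw [Polynomial.C_mul, Polynomial.C_neg, h4]
    rw [h3, ← h1, h2]
    simp only [f, Polynomial.C_neg]
    ring
  obtain ⟨a', ha'⟩ := IsSepClosed.exists_root (f.map π) (by
    rw [hf.degree_map, Polynomial.degree_eq_natDegree hf.ne_zero, hdeg]
    norm_num) hsep
  obtain ⟨a₀, rfl⟩ := IsLocalRing.residue_surjective a'
  have h1 : f.eval a₀ ∈ IsLocalRing.maximalIdeal W := by
    rw [← IsLocalRing.residue_eq_zero_iff]
    have h2 := Polynomial.eval_map_apply (f := π) (p := f) a₀
    exact h2.symm.trans ha'
  have hfe : ∀ a, f.eval a = a * a - t * a + n := by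
    intro a
    simp [f]
    ring
  have hfd : ∀ a, f.derivative.eval a = 2 * a - t := by
    intro a
    rw [hder]
    simp
    ring
  have h2 : IsUnit (f.derivative.eval a₀) := by
    have h3 : IsUnit ((f.derivative.eval a₀) * (f.derivative.eval a₀)) := by
      rw [hfd]
      by_contra hcon
      have h4 : (2 * a₀ - t) * (2 * a₀ - t) - 4 * f.eval a₀ ∈ IsLocalRing.maximalIdeal W :=
        Submodule.sub_mem _ ((IsLocalRing.mem_maximalIdeal _).mpr hcon)
          (Ideal.mul_mem_left _ _ h1)
      have h5 : (2 * a₀ - t) * (2 * a₀ - t) - 4 * f.eval a₀ = d := by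
        rw [hfe, hd]; ring
      rw [h5] at h4
      exact (IsLocalRing.mem_maximalIdeal _).mp h4 hdu
    exact isUnit_of_mul_isUnit_left h3
  obtain ⟨a, ha, -⟩ := HenselianLocalRing.is_henselian f hf a₀ h1 h2
  refine ⟨a, ?_⟩
  rw [← hfe]
  exact ha

/-- Units of a strictly henselian ring with `2` invertible are squares. -/
theorem exists_sqrt_of_two (h2 : IsUnit (2 : W)) {c : W} (hc : IsUnit c) : ∃ s, s * s = c := by
  obtain ⟨a, ha⟩ := exists_root (0 : W) (-c) (4 * c) (by ring) (by
    have : (4 : W) = 2 * 2 := by norm_num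
    rw [this]
    exact (h2.mul h2).mul hc)
  exact ⟨a, by linear_combination ha⟩

variable {T : Type v} [CommRing T] [Algebra W T] {lam : T ≃ₐ[W] T}
  (hlam : ∀ x, lam (lam x) = x) (hfix : RInv.IsFixedRing W T lam.toRingEquiv)

include hlam hfix

/-- If some discriminant is a unit then `T` splits. -/
theorem exists_idem {x : T} (hx : IsUnit (x - lam x)) : ∃ e : T, e * e = e ∧ lam e = 1 - e := by
  obtain ⟨t, ht⟩ := exists_trace hlam hfix x
  obtain ⟨n, hn⟩ := exists_norm hlam hfix x
  have hd : algebraMap W T (t * t - 4 * n) = (x - lam x) * (x - lam x) := by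
    rw [map_sub, map_mul, map_mul, map_ofNat, ht, hn]
    ring
  have hdu : IsUnit (t * t - 4 * n) := by
    apply isUnit_of_isUnit_algebraMap hfix
    rw [hd]
    exact hx.mul hx
  obtain ⟨a, ha⟩ := exists_root t n _ rfl hdu
  have huu : IsUnit (t - 2 * a) := by
    have : IsUnit ((t - 2 * a) * (t - 2 * a)) := by
      have h1 : (t - 2 * a) * (t - 2 * a) = t * t - 4 * n := by linear_combination 4 * ha
      rw [h1]
      exact hdu
    exact isUnit_of_mul_isUnit_left this
  obtain ⟨r, hr⟩ := huu.exists_left_inv
  have hr' : algebraMap W T r * (x + lam x - 2 * algebraMap W T a) = 1 := by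
    rw [← ht, ← map_one (algebraMap W T), ← hr, map_mul, map_sub, map_mul, map_ofNat]
  have ha' : algebraMap W T a * algebraMap W T a - (x + lam x) * algebraMap W T a + x * lam x =
      0 := by
    rw [← ht, ← hn, ← map_mul, ← map_mul, ← map_sub, ← map_add, ha, map_zero]
  set A := algebraMap W T a
  set ρ := algebraMap W T r
  refine ⟨ρ * (x - A), ?_, ?_⟩
  · linear_combination ρ * (x - A) * hr' - ρ * ρ * ha'
  · have h1 : lam ρ = ρ := lam.commutes r
    have h2 : lam A = A := lam.commutes a
    rw [map_mul, map_sub, h1, h2]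
    linear_combination hr'

/-- **Dichotomy**. -/
theorem dichotomy :
    (∃ _ : IsLocalRing T, ∀ x, lam x - x ∈ IsLocalRing.maximalIdeal T) ∨
      ∃ e : T, e * e = e ∧ lam e = 1 - e := by
  by_cases h : ∃ x : T, IsUnit (x - lam x)
  · obtain ⟨x, hx⟩ := h
    exact Or.inr (exists_idem hlam hfix hx)
  left
  push Not at h
  have hnt : Nontrivial T := hfix.1.nontrivial
  have hloc : IsLocalRing T := by
    refine IsLocalRing.of_isUnit_or_isUnit_one_sub_self fun x => ?_
    by_contra hcon
    push Not at hcon
    obtain ⟨hx, hx1⟩ := hcon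
    obtain ⟨t, ht⟩ := exists_trace hlam hfix x
    obtain ⟨n, hn⟩ := exists_norm hlam hfix x
    have hn1 : algebraMap W T (1 - t + n) = (1 - x) * lam (1 - x) := by
      rw [map_add, map_sub, map_one, ht, hn, map_sub, map_one]
      ring
    have k1 : n ∈ IsLocalRing.maximalIdeal W := by
      rw [IsLocalRing.mem_maximalIdeal]
      exact fun hu => hx ((isUnit_iff_norm hlam hfix hn).mpr hu)
    have k2 : 1 - t + n ∈ IsLocalRing.maximalIdeal W := by
      rw [IsLocalRing.mem_maximalIdeal]
      exact fun hu => hx1 ((isUnit_iff_norm hlam hfix hn1).mpr hu)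
    have hd : algebraMap W T (t * t - 4 * n) = (x - lam x) * (x - lam x) := by
      rw [map_sub, map_mul, map_mul, map_ofNat, ht, hn]
      ring
    apply h x
    have hdu : IsUnit (t * t - 4 * n) := by
      by_contra hcon
      have k3 : (t * t - 4 * n) + ((1 - t + n) - n) * (1 + t) + 4 * n ∈
          IsLocalRing.maximalIdeal W :=
        Submodule.add_mem _ (Submodule.add_mem _ ((IsLocalRing.mem_maximalIdeal _).mpr hcon)
          (Ideal.mul_mem_right _ _ (Submodule.sub_mem _ k2 k1))) (Ideal.mul_mem_left _ _ k1)
      have k4 : (t * t - 4 * n) + ((1 - t + n) - n) * (1 + t) + 4 * n = 1 := by ring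
      rw [k4] at k3
      exact (IsLocalRing.mem_maximalIdeal _).mp k3 isUnit_one
    have := hdu.map (algebraMap W T)
    rw [hd] at this
    exact isUnit_of_mul_isUnit_left this
  refine ⟨hloc, fun x => ?_⟩
  rw [IsLocalRing.mem_maximalIdeal]
  intro hu
  apply h x
  have := hu.neg
  rwa [neg_sub] at this

theorem henselian_of_local [IsLocalRing T] : HenselianLocalRing T := by
  have := isIntegral hlam hfix
  exact K925.HensInt.henselian_of_isIntegral W T

theorem isSepClosed_of_local [IsLocalRing T] : IsSepClosed (IsLocalRing.ResidueField T) := by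
  have := isIntegral hlam hfix
  exact K925.HensInt.isSepClosed_of_isIntegral W T

end dich

section split

variable {W : Type u} [CommRing W] {T : Type v} [CommRing T] [Algebra W T] {lam : T ≃ₐ[W] T}
  (hlam : ∀ x, lam (lam x) = x) (hfix : RInv.IsFixedRing W T lam.toRingEquiv)
  {e : T} (he : e * e = e) (hle : lam e = 1 - e)

include hlam hfix he hle

/-- If there is an idempotent `e` with `lam e = 1 - e` then `T` is `W × W`. -/
theorem exists_proj : ∃ (π₁ π₂ : T →ₐ[W] W), (∀ x, x * e = algebraMap W T (π₁ x) * e) ∧
    (∀ x, x * (1 - e) = algebraMap W T (π₂ x) * (1 - e)) ∧ (∀ x, π₂ x = π₁ (lam x)) := by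
  have key : ∀ x, ∃ w, algebraMap W T w = x * e + lam x * (1 - e) := fun x =>
    mem_of_fixed hfix (by
      rw [map_add, map_mul, map_mul, hlam, map_sub, map_one, hle]; ring)
  choose p hp using key
  have hinj := hfix.1
  let π₁ : T →ₐ[W] W :=
    { toFun := p
      map_one' := hinj (by rw [hp, map_one, map_one]; ring)
      map_mul' := fun x y => hinj (by
        rw [map_mul, hp, hp, hp, map_mul]
        linear_combination (-x * y - lam x * lam y + x * lam y + lam x * y) * he)
      map_zero' := hinj (by rw [hp, map_zero, map_zero]; ring)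
      map_add' := fun x y => hinj (by rw [map_add, hp, hp, hp, map_add]; ring)
      commutes' := fun w => hinj (by
        change algebraMap W T (p (algebraMap W T w)) = algebraMap W T w
        rw [hp, AlgEquiv.commutes]; ring) }
  refine ⟨π₁, π₁.comp lam.toAlgHom, ?_, ?_, fun x => rfl⟩
  · intro x
    change x * e = algebraMap W T (p x) * e
    rw [hp]
    linear_combination (lam x - x) * he
  · intro x
    change x * (1 - e) = algebraMap W T (p (lam x)) * (1 - e)
    rw [hp, hlam]
    linear_combination (lam x - x) * he

end split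

end K925.WLevel
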